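import Mathlib

/-!
Recognition of dihedral and generalised quaternion groups from a pair of generators, and of
Klein four groups; `powZ N a i` is the power of `a` with exponent in `ZMod N`.
-/

set_option autoImplicit false

namespace Cfsg.Agent.Lib.TwoGroups.Recognition

open Subgroup

variable {G : Type*} [Group G]

/-- The power of `a` with exponent in `ZMod N` (meant for `a ^ N = 1`). -/
def powZ (N : ℕ) (a : G) (i : ZMod N) : G := a ^ i.val

theorem powZ_natCast {N : ℕ} {a : G} (ha : a ^ N = 1) (k : ℕ) :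
    powZ N a (k : ZMod N) = a ^ k := by
  rw [powZ, ZMod.val_natCast]
  exact (pow_eq_pow_mod k ha).symm

theorem powZ_zero (N : ℕ) (a : G) : powZ N a 0 = 1 := by
  simp [powZ]

theorem powZ_one {N : ℕ} {a : G} (ha : a ^ N = 1) : powZ N a 1 = a := by
  simpa using powZ_natCast ha 1

theorem powZ_add {N : ℕ} [NeZero N] {a : G} (ha : a ^ N = 1) (i j : ZMod N) :
    powZ N a (i + j) = powZ N a i * powZ N a j := by
  conv_lhs => rw [← ZMod.natCast_zmod_val i, ← ZMod.natCast_zmod_val j, ← Nat.cast_add]
  rw [powZ_natCast ha, pow_add]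
  rfl

theorem powZ_neg {N : ℕ} [NeZero N] {a : G} (ha : a ^ N = 1) (i : ZMod N) :
    powZ N a (-i) = (powZ N a i)⁻¹ := by
  rw [eq_inv_iff_mul_eq_one, ← powZ_add ha, neg_add_cancel, powZ_zero]

theorem powZ_sub {N : ℕ} [NeZero N] {a : G} (ha : a ^ N = 1) (i j : ZMod N) :
    powZ N a (i - j) = powZ N a i * (powZ N a j)⁻¹ := by
  rw [sub_eq_add_neg, powZ_add ha, powZ_neg ha]

theorem powZ_mul_natCast {N : ℕ} [NeZero N] {a : G} (ha : a ^ N = 1) (i : ZMod N) (k : ℕ) :
    powZ N a ((k : ZMod N) * i) = powZ N a i ^ k := by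
  conv_lhs => rw [← ZMod.natCast_zmod_val i, ← Nat.cast_mul]
  rw [powZ_natCast ha, mul_comm, pow_mul]
  rfl

theorem powZ_commute (N : ℕ) (a : G) (i j : ZMod N) : Commute (powZ N a i) (powZ N a j) :=
  (Commute.refl a).pow_pow _ _

theorem powZ_mem_zpowers (N : ℕ) (a : G) (i : ZMod N) : powZ N a i ∈ zpowers a :=
  pow_mem (mem_zpowers a) _

theorem powZ_injective {N : ℕ} [NeZero N] {a : G} (ha : orderOf a = N) :
    Function.Injective (powZ N a) := by
  intro i j h
  rw [powZ, powZ, pow_inj_mod, ha, Nat.mod_eq_of_lt i.val_lt, Nat.mod_eq_of_lt j.val_lt] at h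
  exact ZMod.val_injective N h

theorem pow_eq_one_of_orderOf {N : ℕ} {a : G} (ha : orderOf a = N) : a ^ N = 1 :=
  ha ▸ pow_orderOf_eq_one a

theorem mem_zpowers_iff_powZ {N : ℕ} [NeZero N] {a : G} (ha : orderOf a = N) {g : G} :
    g ∈ zpowers a ↔ ∃ i : ZMod N, powZ N a i = g := by
  constructor
  · intro hg
    have hN := pow_eq_one_of_orderOf ha
    have hfin : IsOfFinOrder a := orderOf_pos_iff.1 (ha ▸ Nat.pos_of_neZero N)
    obtain ⟨k, rfl⟩ := (IsOfFinOrder.mem_powers_iff_mem_zpowers hfin).2 hg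
    exact ⟨(k : ZMod N), powZ_natCast hN k⟩
  · rintro ⟨i, rfl⟩
    exact powZ_mem_zpowers N a i

/-- Conjugation by `b` on the powers of `a` when `b * a * b⁻¹ = a ^ r`. -/
theorem conj_powZ {N : ℕ} [NeZero N] {a b : G} (ha : a ^ N = 1) {r : ZMod N}
    (hab : b * a * b⁻¹ = powZ N a r) (i : ZMod N) :
    b * powZ N a i * b⁻¹ = powZ N a (r * i) := by
  calc b * powZ N a i * b⁻¹ = (b * a * b⁻¹) ^ i.val := by rw [conj_pow]; rfl
    _ = powZ N a r ^ i.val := by rw [hab]
    _ = powZ N a ((i.val : ZMod N) * r) := (powZ_mul_natCast ha r _).symm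
    _ = powZ N a (r * i) := by rw [ZMod.natCast_zmod_val, mul_comm]

theorem powZ_mul_of_inverts {N : ℕ} [NeZero N] {a b : G} (ha : a ^ N = 1)
    (hab : b * a * b⁻¹ = a⁻¹) (i : ZMod N) :
    powZ N a i * b = b * powZ N a (-i) := by
  have h := conj_powZ ha (r := -1) (by rw [powZ_neg ha, powZ_one ha, hab]) (-i)
  rw [mul_inv_eq_iff_eq_mul] at h
  rw [h]
  simp

/-! ### Homomorphisms out of dihedral and quaternion groups -/

/-- The map underlying `dihedralHom`. -/
def dihedralFun (m : ℕ) (a b : G) : DihedralGroup m → G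
  | .r i => powZ m a i
  | .sr i => b * powZ m a i

/-- The homomorphism from a dihedral group given by a pair satisfying the relations. -/
def dihedralHom {m : ℕ} [NeZero m] {a b : G} (ha : a ^ m = 1) (hb : b * b = 1)
    (hab : b * a * b⁻¹ = a⁻¹) : DihedralGroup m →* G :=
  MonoidHom.mk' (dihedralFun m a b) (by
    have hc := powZ_mul_of_inverts (N := m) ha hab
    rintro (i | i) (j | j)
    · exact powZ_add ha i j
    · show b * powZ m a (j - i) = powZ m a i * (b * powZ m a j)
      rw [← mul_assoc, hc, mul_assoc, ← powZ_add ha]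
      congr 2
      ring
    · show b * powZ m a (i + j) = b * powZ m a i * powZ m a j
      rw [powZ_add ha, mul_assoc]
    · show powZ m a (j - i) = b * powZ m a i * (b * powZ m a j)
      rw [mul_assoc b, ← mul_assoc _ b, hc, ← mul_assoc, ← mul_assoc, hb, one_mul, ← powZ_add ha]
      congr 1
      ring)

/-- The map underlying `quaternionHom`. -/
def quaternionFun (m : ℕ) (a b : G) : QuaternionGroup m → G
  | .a i => powZ (2 * m) a i
  | .xa i => b * powZ (2 * m) a i

/-- The homomorphism from a generalised quaternion group given by a pair satisfying the relations. -/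
def quaternionHom {m : ℕ} [NeZero m] {a b : G} (ha : a ^ (2 * m) = 1) (hb : b * b = a ^ m)
    (hab : b * a * b⁻¹ = a⁻¹) : QuaternionGroup m →* G :=
  MonoidHom.mk' (quaternionFun m a b) (by
    have hc := powZ_mul_of_inverts (N := 2 * m) ha hab
    rintro (i | i) (j | j)
    · exact powZ_add ha i j
    · show b * powZ (2 * m) a (j - i) = powZ (2 * m) a i * (b * powZ (2 * m) a j)
      rw [← mul_assoc, hc, mul_assoc, ← powZ_add ha]
      congr 2
      ring
    · show b * powZ (2 * m) a (i + j) = b * powZ (2 * m) a i * powZ (2 * m) a j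
      rw [powZ_add ha, mul_assoc]
    · show powZ (2 * m) a ((m : ZMod (2 * m)) + j - i) =
        b * powZ (2 * m) a i * (b * powZ (2 * m) a j)
      rw [mul_assoc b, ← mul_assoc _ b, hc, ← mul_assoc, ← mul_assoc, hb, ← powZ_natCast ha m,
        ← powZ_add ha, ← powZ_add ha]
      congr 1
      ring)

theorem dihedralHom_injective {m : ℕ} [NeZero m] {a b : G} (ha : orderOf a = m) (hb : b * b = 1)
    (hab : b * a * b⁻¹ = a⁻¹) (hmem : b ∉ zpowers a) :
    Function.Injective (dihedralHom (pow_eq_one_of_orderOf ha) hb hab) := by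
  rw [injective_iff_map_eq_one]
  rintro (i | i) h
  · change powZ m a i = 1 at h
    rw [← powZ_zero m a] at h
    rw [powZ_injective ha h]
    rfl
  · change b * powZ m a i = 1 at h
    exact absurd (eq_inv_of_mul_eq_one_left h ▸ inv_mem (powZ_mem_zpowers m a i)) hmem

theorem quaternionHom_injective {m : ℕ} [NeZero m] {a b : G} (ha : orderOf a = 2 * m)
    (hb : b * b = a ^ m) (hab : b * a * b⁻¹ = a⁻¹) (hmem : b ∉ zpowers a) :
    Function.Injective (quaternionHom (pow_eq_one_of_orderOf ha) hb hab) := by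
  rw [injective_iff_map_eq_one]
  rintro (i | i) h
  · change powZ (2 * m) a i = 1 at h
    rw [← powZ_zero (2 * m) a] at h
    rw [powZ_injective ha h]
    rfl
  · change b * powZ (2 * m) a i = 1 at h
    exact absurd (eq_inv_of_mul_eq_one_left h ▸ inv_mem (powZ_mem_zpowers _ a i)) hmem

theorem natCard_quaternion (m : ℕ) [NeZero m] : Nat.card (QuaternionGroup m) = 4 * m := by
  rw [Nat.card_eq_fintype_card, QuaternionGroup.card]

/-- A group of order `2 m` with a dihedral pair of elements is dihedral. -/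
theorem nonempty_dihedral [Finite G] {m : ℕ} [NeZero m] {a b : G} (ha : orderOf a = m)
    (hb : b * b = 1) (hab : b * a * b⁻¹ = a⁻¹) (hmem : b ∉ zpowers a)
    (hcard : Nat.card G = 2 * m) : Nonempty (G ≃* DihedralGroup m) :=
  ⟨(MulEquiv.ofBijective (dihedralHom (pow_eq_one_of_orderOf ha) hb hab)
    ((dihedralHom_injective ha hb hab hmem).bijective_of_nat_card_le
      (by rw [hcard, DihedralGroup.nat_card]))).symm⟩

/-- A group of order `4 m` with a quaternion pair of elements is generalised quaternion. -/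
theorem nonempty_quaternion [Finite G] {m : ℕ} [NeZero m] {a b : G} (ha : orderOf a = 2 * m)
    (hb : b * b = a ^ m) (hab : b * a * b⁻¹ = a⁻¹) (hmem : b ∉ zpowers a)
    (hcard : Nat.card G = 4 * m) : Nonempty (G ≃* QuaternionGroup m) :=
  ⟨(MulEquiv.ofBijective (quaternionHom (pow_eq_one_of_orderOf ha) hb hab)
    ((quaternionHom_injective ha hb hab hmem).bijective_of_nat_card_le
      (by rw [hcard, natCard_quaternion]))).symm⟩

/-- A subgroup of order `2 m` containing a dihedral pair is dihedral. -/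
theorem nonempty_dihedral_subgroup {H : Subgroup G} [Finite H] {m : ℕ} [NeZero m] {a b : G}
    (haH : a ∈ H) (hbH : b ∈ H) (ha : orderOf a = m) (hb : b * b = 1)
    (hab : b * a * b⁻¹ = a⁻¹) (hmem : b ∉ zpowers a) (hcard : Nat.card H = 2 * m) :
    Nonempty (H ≃* DihedralGroup m) := by
  refine nonempty_dihedral (a := (⟨a, haH⟩ : H)) (b := ⟨b, hbH⟩) ?_ (Subtype.ext hb)
    (Subtype.ext hab) ?_ hcard
  · rw [← ha]; exact (Subgroup.orderOf_coe _).symm
  · rintro ⟨k, hk⟩
    exact hmem ⟨k, congrArg Subtype.val hk⟩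

/-- A subgroup of order `4 m` containing a quaternion pair is generalised quaternion. -/
theorem nonempty_quaternion_subgroup {H : Subgroup G} [Finite H] {m : ℕ} [NeZero m] {a b : G}
    (haH : a ∈ H) (hbH : b ∈ H) (ha : orderOf a = 2 * m) (hb : b * b = a ^ m)
    (hab : b * a * b⁻¹ = a⁻¹) (hmem : b ∉ zpowers a) (hcard : Nat.card H = 4 * m) :
    Nonempty (H ≃* QuaternionGroup m) := by
  refine nonempty_quaternion (a := (⟨a, haH⟩ : H)) (b := ⟨b, hbH⟩) ?_ (Subtype.ext hb)
    (Subtype.ext hab) ?_ hcard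
  · rw [← ha]; exact (Subgroup.orderOf_coe _).symm
  · rintro ⟨k, hk⟩
    exact hmem ⟨k, congrArg Subtype.val hk⟩

/-! ### Invariants -/

/-- A quaternion group has only one involution. -/
theorem quaternion_invol_eq {m : ℕ} [NeZero m] {g : QuaternionGroup m} (hg : orderOf g = 2) :
    g = QuaternionGroup.a (m : ZMod (2 * m)) := by
  cases g with
  | a i =>
    have h1 : (QuaternionGroup.a i : QuaternionGroup m) * QuaternionGroup.a i = 1 := by
      rw [← pow_two, ← hg, pow_orderOf_eq_one]
    rw [QuaternionGroup.a_mul_a, QuaternionGroup.one_def, QuaternionGroup.a.injEq] at h1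
    rw [← ZMod.natCast_zmod_val i, ← Nat.cast_add, ZMod.natCast_eq_zero_iff] at h1
    obtain ⟨k, hk⟩ := h1
    have hlt : i.val < 2 * m := ZMod.val_lt i
    have hne : i.val ≠ 0 := by
      intro h0
      rw [ZMod.val_eq_zero] at h0
      subst h0
      simp at hg
    have hk2 : k < 2 := by
      by_contra hcon
      nlinarith
    have hk1 : 1 ≤ k := by
      rcases Nat.eq_zero_or_pos k with rfl | h
      · omega
      · exact h
    have : k = 1 := by omega
    subst this
    congr 1
    rw [← ZMod.natCast_zmod_val i]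
    congr 1
    omega
  | xa i =>
    rw [QuaternionGroup.orderOf_xa] at hg
    omega

/-- Any two involutions of a group isomorphic to a quaternion group coincide. -/
theorem invol_unique {H : Type*} [Group H] {m : ℕ} [NeZero m] (e : H ≃* QuaternionGroup m)
    {s t : H} (hs : orderOf s = 2) (ht : orderOf t = 2) : s = t :=
  e.injective ((quaternion_invol_eq (by rw [MulEquiv.orderOf_eq, hs])).trans
    (quaternion_invol_eq (by rw [MulEquiv.orderOf_eq, ht])).symm)

theorem quaternion_pow_four (g : QuaternionGroup 2) : g ^ 4 = 1 := by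
  revert g; decide

/-- A quaternion group of order eight is not commutative. -/
theorem quaternion_two_not_comm : ¬ IsMulCommutative (QuaternionGroup 2) := fun h =>
  absurd (mul_comm' (QuaternionGroup.a 1 : QuaternionGroup 2) (QuaternionGroup.xa 0)) (by decide)

/-- Two distinct commuting involutions generate a Klein four group. -/
theorem isKleinFour_of_card {H : Subgroup G} (hcard : Nat.card H = 4)
    (hsq : ∀ h ∈ H, h * h = 1) : IsKleinFour H where
  card_four := hcard
  exponent_two := by
    have : Fact (Nat.Prime 2) := ⟨Nat.prime_two⟩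
    have : Finite H := Nat.finite_of_card_ne_zero (by omega)
    have : Nontrivial H := Finite.one_lt_card_iff_nontrivial.mp (by omega)
    rw [Monoid.exponent_eq_prime_iff Nat.prime_two]
    intro g hg
    exact orderOf_eq_prime (by rw [pow_two]; exact Subtype.ext (hsq g g.2)) hg

theorem sq_of_mem_kleinFour {H : Subgroup G} (hH : IsKleinFour H) {h : G} (hh : h ∈ H) :
    h * h = 1 :=
  congrArg Subtype.val (IsKleinFour.mul_self (⟨h, hh⟩ : H))

/-- Two subgroups of the same order inside a finite cyclic subgroup are equal. -/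
theorem eq_of_card_eq_of_le_zpowers [Finite G] {x : G} {K₁ K₂ : Subgroup G}
    (h₁ : K₁ ≤ zpowers x) (h₂ : K₂ ≤ zpowers x) (h : Nat.card K₁ = Nat.card K₂) : K₁ = K₂ := by
  have key : ∀ K : Subgroup G, K ≤ zpowers x → K ≤ zpowers (x ^ (orderOf x / Nat.card K)) := by
    intro K hK g hg
    obtain ⟨k, rfl⟩ := mem_powers_iff_mem_zpowers.2 (hK hg)
    have hd : orderOf (x ^ k) ∣ Nat.card K := K.orderOf_dvd_natCard hg
    have hgK : orderOf x ∣ k * Nat.card K := by
      rw [orderOf_dvd_iff_pow_eq_one, pow_mul]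
      exact orderOf_dvd_iff_pow_eq_one.1 hd
    have hKd : Nat.card K ∣ orderOf x := Nat.card_zpowers x ▸ Subgroup.card_dvd_of_le hK
    have hdk : orderOf x / Nat.card K ∣ k := by
      obtain ⟨c, hc⟩ := hKd
      have hpos : 0 < Nat.card K := Nat.card_pos
      rw [hc, Nat.mul_div_cancel_left c hpos]
      rw [hc, mul_comm k] at hgK
      exact Nat.dvd_of_mul_dvd_mul_left hpos hgK
    obtain ⟨c, rfl⟩ := hdk
    show x ^ (_ * c) ∈ _
    rw [pow_mul]
    exact pow_mem (mem_zpowers _) c
  have hord : ∀ K : Subgroup G, K ≤ zpowers x →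
      K = zpowers (x ^ (orderOf x / Nat.card K)) := by
    intro K hK
    refine Subgroup.eq_of_le_of_card_ge (key K hK) ?_
    have hKd : Nat.card K ∣ orderOf x := Nat.card_zpowers x ▸ Subgroup.card_dvd_of_le hK
    rw [Nat.card_zpowers, orderOf_pow, Nat.gcd_eq_right (Nat.div_dvd_of_dvd hKd),
      Nat.div_div_self hKd (orderOf_pos x).ne']
  rw [hord K₁ h₁, hord K₂ h₂, h]

/-- A subgroup of a finite cyclic subgroup contains every element of that cyclic subgroup
whose power by the order of the subgroup is trivial. -/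
theorem mem_of_pow_card_eq_one [Finite G] {x g : G} {K : Subgroup G} (hK : K ≤ zpowers x)
    (hg : g ∈ zpowers x) (hgK : g ^ Nat.card K = 1) : g ∈ K := by
  obtain ⟨k, rfl⟩ := mem_powers_iff_mem_zpowers.2 hg
  have hKd : Nat.card K ∣ orderOf x := Nat.card_zpowers x ▸ Subgroup.card_dvd_of_le hK
  have hd : orderOf x ∣ k * Nat.card K := by
    rw [orderOf_dvd_iff_pow_eq_one, pow_mul]; exact hgK
  obtain ⟨c, hc⟩ := hKd
  have hpos : 0 < Nat.card K := Nat.card_pos
  have hz : zpowers (x ^ c) = K := by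
    refine eq_of_card_eq_of_le_zpowers (zpowers_le.2 (pow_mem (mem_zpowers x) c)) hK ?_
    have hcpos : c ≠ 0 := fun h0 => (orderOf_pos x).ne' (by rw [hc, h0, mul_zero])
    rw [Nat.card_zpowers, orderOf_pow' x hcpos, hc, Nat.gcd_eq_right (dvd_mul_left c _),
      Nat.mul_div_cancel _ (Nat.pos_of_ne_zero hcpos)]
  have hdk : c ∣ k := Nat.dvd_of_mul_dvd_mul_left hpos (by rw [mul_comm k] at hd; rwa [hc] at hd)
  obtain ⟨e, rfl⟩ := hdk
  rw [← hz]
  show x ^ (c * e) ∈ _
  rw [pow_mul]
  exact pow_mem (mem_zpowers _) _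

end Cfsg.Agent.Lib.TwoGroups.Recognition
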