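import Mathlib

/-!
Criteria for an automorphism of odd order of a 2-group to fix an element, and for an
automorphism group to be a 2-group.
-/

set_option autoImplicit false

namespace Cfsg.Agent.Lib.TwoGroups.OddAut

variable {X : Type*} [Group X]

/-- If every automorphism of odd order is trivial, the automorphism group is a 2-group. -/
theorem isPGroup_mulAut [Finite X] (h : ∀ φ : MulAut X, Odd (orderOf φ) → φ = 1) :
    IsPGroup 2 (MulAut X) := by
  have : Finite (MulAut X) := Finite.of_injective (fun φ => (φ : X → X)) DFunLike.coe_injective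
  intro φ
  obtain ⟨a, m, hm, hd⟩ := Nat.exists_eq_two_pow_mul_odd (orderOf_pos φ).ne'
  refine ⟨a, h _ ?_⟩
  rw [orderOf_pow' φ (pow_ne_zero _ two_ne_zero), hd, Nat.gcd_eq_right (dvd_mul_right _ _),
    Nat.mul_div_cancel_left _ (by positivity)]
  exact hm

/-- Iterating a translation by a fixed element. -/
theorem pow_apply_of_translate {φ : MulAut X} {g f : X} (hg : φ g = g * f) (hf : φ f = f) (j : ℕ) :
    (φ ^ j) g = g * f ^ j := by
  induction j with
  | zero => simp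
  | succ j ih => rw [pow_succ', MulAut.mul_apply, ih, map_mul, map_pow, hg, hf, mul_assoc,
      ← pow_succ']

/-- An automorphism of odd order translating `g` by a fixed 2-element fixes `g`. -/
theorem fix_of_translate {φ : MulAut X} {g f : X} (hφ : Odd (orderOf φ)) (hg : φ g = g * f)
    (hf : φ f = f) {n : ℕ} (hfn : f ^ 2 ^ n = 1) : φ g = g := by
  have h1 := pow_apply_of_translate hg hf (orderOf φ)
  rw [pow_orderOf_eq_one, MulAut.one_apply, left_eq_mul] at h1
  have h2 : orderOf f ∣ Nat.gcd (2 ^ n) (orderOf φ) :=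
    Nat.dvd_gcd (orderOf_dvd_of_pow_eq_one hfn) (orderOf_dvd_of_pow_eq_one h1)
  rw [show Nat.gcd (2 ^ n) (orderOf φ) = 1 from (Nat.coprime_two_left.2 hφ).pow_left n,
    Nat.dvd_one, orderOf_eq_one_iff] at h2
  rw [hg, h2, mul_one]

/-- A unit modulo a power of two of odd exponent is one. -/
theorem zmod_eq_one_of_odd_pow {n m : ℕ} {r : ZMod (2 ^ n)} (hm : Odd m) (hr : r ^ m = 1) :
    r = 1 := by
  rcases Nat.eq_zero_or_pos n with rfl | hn
  · exact Subsingleton.elim (α := ZMod 1) r 1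
  have : NeZero (2 ^ n) := ⟨by positivity⟩
  have hu : IsUnit r := IsUnit.of_pow_eq_one hr hm.pos.ne'
  obtain ⟨u, rfl⟩ := hu
  have h1 : u ^ m = 1 := Units.ext (by simpa using hr)
  have h2 : u ^ 2 ^ (n - 1) = 1 := by
    have h := pow_card_eq_one (x := u)
    rw [ZMod.card_units_eq_totient, Nat.totient_prime_pow Nat.prime_two hn] at h
    simpa using h
  have h3 := pow_gcd_eq_one.2 ⟨h1, h2⟩
  rw [show Nat.gcd m (2 ^ (n - 1)) = 1 from (Nat.coprime_two_right.2 hm).pow_right _,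
    pow_one] at h3
  rw [h3, Units.val_one]

/-- Iterating `a ↦ c * a ^ r` for a fixed central `c`. -/
theorem pow_apply_of_power {φ : MulAut X} {a : X} (C : Subgroup X) (hC : C ≤ Subgroup.center X)
    (hfix : ∀ c ∈ C, φ c = c) {r : ℕ} {c : X} (hc : c ∈ C) (ha : φ a = c * a ^ r) (j : ℕ) :
    ∃ d ∈ C, (φ ^ j) a = d * a ^ r ^ j := by
  induction j with
  | zero => exact ⟨1, one_mem _, by simp⟩
  | succ j ih =>
    obtain ⟨d, hd, hj⟩ := ih
    refine ⟨d * c ^ r ^ j, mul_mem hd (pow_mem hc _), ?_⟩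
    rw [pow_succ', MulAut.mul_apply, hj, map_mul, map_pow, hfix d hd, ha,
      (show Commute c (a ^ r) from (Subgroup.mem_center_iff.1 (hC hc) _).symm).mul_pow,
      ← pow_mul, ← mul_assoc, pow_succ r j, mul_comm (r ^ j) r]

/-- An automorphism of odd order fixing a central subgroup `C` fixes `a`, if it maps `a` into
`C * zpowers a` and the order of `a` modulo `C` is a power of two. -/
theorem fix_of_power_mod {φ : MulAut X} {a : X} (C : Subgroup X) (hC : C ≤ Subgroup.center X)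
    (hfix : ∀ c ∈ C, φ c = c) {r : ℕ} {c : X} (hc : c ∈ C) (ha : φ a = c * a ^ r)
    (hφ : Odd (orderOf φ)) {n l : ℕ}
    (hmod : ∀ i : ℕ, a ^ i ∈ C ↔ 2 ^ l ∣ i) (hn : ∀ f ∈ C, f ^ 2 ^ n = 1) : φ a = a := by
  obtain ⟨d, hd, hj⟩ := pow_apply_of_power C hC hfix hc ha (orderOf φ)
  rw [pow_orderOf_eq_one, MulAut.one_apply] at hj
  have key : ∀ i₁ i₂ : ℕ, (∃ f ∈ C, a ^ i₁ = f * a ^ i₂) →
      ((i₁ : ZMod (2 ^ l)) = (i₂ : ZMod (2 ^ l))) := by
    rintro i₁ i₂ ⟨f, hf, h⟩
    rw [ZMod.natCast_eq_natCast_iff]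
    rcases le_total i₂ i₁ with hle | hle
    · refine ((Nat.modEq_iff_dvd' hle).2 ((hmod _).1 ?_)).symm
      rwa [pow_sub a hle, h, mul_inv_cancel_right]
    · refine (Nat.modEq_iff_dvd' hle).2 ((hmod _).1 ?_)
      rw [pow_sub a hle, h, mul_inv_rev, mul_inv_cancel_left]
      exact inv_mem hf
  have h1 := key 1 (r ^ orderOf φ) ⟨d, hd, by rw [pow_one]; exact hj⟩
  rw [Nat.cast_one, Nat.cast_pow] at h1
  have h2 : (r : ZMod (2 ^ l)) = ((1 : ℕ) : ZMod (2 ^ l)) := by
    rw [Nat.cast_one]; exact zmod_eq_one_of_odd_pow hφ h1.symm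
  rw [ZMod.natCast_eq_natCast_iff] at h2
  -- `a ^ r` lies in `C * a`
  have h3 : ∃ f ∈ C, a ^ r = f * a := by
    rcases Nat.eq_zero_or_pos r with rfl | hr
    · have : a ^ 1 ∈ C := (hmod 1).2 ((Nat.modEq_iff_dvd' zero_le_one).1 h2)
      rw [pow_one] at this
      exact ⟨a⁻¹, inv_mem this, by rw [pow_zero, inv_mul_cancel]⟩
    · refine ⟨a ^ (r - 1), (hmod _).2 ((Nat.modEq_iff_dvd' hr).1 h2.symm), ?_⟩
      rw [← pow_succ, Nat.sub_add_cancel hr]
  obtain ⟨f, hf, hfa⟩ := h3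
  have h4 : φ a = a * (c * f) := by
    rw [ha, hfa, ← mul_assoc, ← (Subgroup.mem_center_iff.1 (hC (mul_mem hc hf)) a)]
  exact fix_of_translate hφ h4 (hfix _ (mul_mem hc hf)) (hn _ (mul_mem hc hf))

/-- An automorphism of odd order mapping a 2-element to one of its powers fixes it. -/
theorem fix_of_power {φ : MulAut X} {a : X} {r : ℕ} (ha : φ a = a ^ r) (hφ : Odd (orderOf φ))
    {n : ℕ} (hn : orderOf a = 2 ^ n) : φ a = a := by
  refine fix_of_power_mod (⊥ : Subgroup X) bot_le ?_ (one_mem _) (by rw [one_mul]; exact ha) hφ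
    (n := 0) (l := n) ?_ ?_
  · rintro c hc; rw [Subgroup.mem_bot] at hc; rw [hc, map_one]
  · intro i; rw [Subgroup.mem_bot, ← orderOf_dvd_iff_pow_eq_one, hn]
  · rintro f hf; rw [Subgroup.mem_bot] at hf; rw [hf, one_pow]

end Cfsg.Agent.Lib.TwoGroups.OddAut
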