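import Mathlib
import Cfsg.Prelude.Def_OddOrderLocal
import Cfsg.Prelude.Def_CaseTheorems
import Cfsg.Agent.Lib.TwoGroups.OddAut
import Cfsg.Agent.Lib.TwoGroups.Recognition
import Cfsg.Agent.Lib.LA5.HSub.Core
import Cfsg.Agent.Lib.PGroups.Frattini

/-!
Metacyclic 2-groups: automorphisms of odd order, homocyclic subgroups, subgroups of order eight.
-/

set_option autoImplicit false
set_option maxHeartbeats 400000
set_option linter.unusedSimpArgs false

namespace Cfsg.Agent.Lib.TwoGroups.MetacyclicTwo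

open Subgroup Cfsg.Agent.Lib.PGroups
open scoped commutatorElement

variable {X : Type*} [Group X]

/-- Subgroups of metacyclic groups are metacyclic. -/
theorem subgroup_metacyclic (hm : Cfsg.IsMetacyclic X) (H : Subgroup X) :
    Cfsg.IsMetacyclic H := by
  obtain ⟨N, hN, hNc, hQc⟩ := hm
  refine ⟨N.subgroupOf H, inferInstance, ?_, ?_⟩
  · let f : N.subgroupOf H →* N :=
      MonoidHom.mk' (fun h => ⟨((h : H) : X), Subgroup.mem_subgroupOf.1 h.2⟩) fun _ _ => rfl
    exact isCyclic_of_injective f fun a b h =>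
      Subtype.ext (Subtype.ext (congrArg (fun z : N => (z : X)) h))
  · refine isCyclic_of_injective
      (QuotientGroup.map (N.subgroupOf H) N H.subtype fun _ hx => hx) ?_
    refine (injective_iff_map_eq_one _).2 fun q hq => ?_
    obtain ⟨x, rfl⟩ := QuotientGroup.mk_surjective q
    have hq' : (((x : H) : X) : X ⧸ N) = 1 := hq
    exact (QuotientGroup.eq_one_iff x).2 (Subgroup.mem_subgroupOf.2 ((QuotientGroup.eq_one_iff (x : X)).1 hq'))

/-- Generators of a metacyclic group. -/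
theorem exists_gens [Finite X] (hm : Cfsg.IsMetacyclic X) :
    ∃ a b : X, (zpowers a).Normal ∧ (∀ x : X, ∃ i j : ℤ, x = a ^ i * b ^ j) ∧
      commutator X ≤ zpowers a := by
  obtain ⟨N, hN, hNc, hQc⟩ := hm
  obtain ⟨a, ha⟩ := hNc.exists_generator
  obtain ⟨q, hq⟩ := hQc.exists_generator
  obtain ⟨b, rfl⟩ := QuotientGroup.mk_surjective q
  have hNa : N = zpowers (a : X) := by
    refine le_antisymm (fun x hx => ?_) (zpowers_le.2 a.2)
    obtain ⟨i, hi⟩ := mem_zpowers_iff.1 (ha ⟨x, hx⟩)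
    exact ⟨i, congrArg Subtype.val hi⟩
  have : IsMulCommutative (X ⧸ N) := @IsCyclic.isMulCommutative _ _ hQc
  refine ⟨a, b, hNa ▸ hN, fun x => ?_, hNa ▸ Normal.quotient_commutative_iff_commutator_le.1 this⟩
  obtain ⟨j, hj⟩ := mem_zpowers_iff.1 (hq (x : X ⧸ N))
  rw [← QuotientGroup.mk_zpow, QuotientGroup.eq] at hj
  have h1 : x * (b ^ j)⁻¹ ∈ zpowers (a : X) := by
    rw [← hNa]
    have := hN.conj_mem _ hj (b ^ j)
    simpa [mul_assoc] using this
  obtain ⟨i, hi⟩ := mem_zpowers_iff.1 h1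
  exact ⟨i, j, by rw [hi, inv_mul_cancel_right]⟩

/-- The square of a class two element is affected by the commutator. -/
theorem mul_pow_two_mul {x y : X} (h : ⁅y, x⁆ ∈ center X) (j : ℕ) :
    (x * y) ^ (2 * j) = x ^ (2 * j) * y ^ (2 * j) * ⁅y, x⁆ ^ (j * (2 * j - 1)) := by
  have hc : ∀ z : X, z * ⁅y, x⁆ = ⁅y, x⁆ * z := mem_center_iff.1 h
  have hswap : ∀ n : ℕ, y ^ n * x = x * y ^ n * ⁅y, x⁆ ^ n := by
    intro n
    induction n with
    | zero => simp
    | succ n ih =>
      have hyx : y * x = ⁅y, x⁆ * (x * y) := by rw [commutatorElement_def]; group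
      have hcn : Commute (⁅y, x⁆ ^ n) y := Commute.pow_left (hc y).symm n
      calc y ^ (n + 1) * x = y * (y ^ n * x) := by rw [pow_succ', mul_assoc]
        _ = y * (x * y ^ n * ⁅y, x⁆ ^ n) := by rw [ih]
        _ = (y * x) * y ^ n * ⁅y, x⁆ ^ n := by simp only [mul_assoc]
        _ = ⁅y, x⁆ * (x * y) * y ^ n * ⁅y, x⁆ ^ n := by rw [hyx]
        _ = (x * y) * y ^ n * (⁅y, x⁆ * ⁅y, x⁆ ^ n) := by
          rw [show ⁅y, x⁆ * (x * y) * y ^ n = (x * y) * y ^ n * ⁅y, x⁆ by
            rw [mul_assoc, ← hc]]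
          simp only [mul_assoc]
        _ = _ := by rw [← pow_succ', mul_assoc x y, ← pow_succ']
  have hgen : ∀ n : ℕ, (x * y) ^ n = x ^ n * y ^ n * ⁅y, x⁆ ^ (n.choose 2) := by
    intro n
    induction n with
    | zero => simp
    | succ n ih =>
      have hk : ∀ (k : ℕ) (z : X), ⁅y, x⁆ ^ k * z = z * ⁅y, x⁆ ^ k := fun k z =>
        (Commute.pow_left (hc z).symm k).eq
      calc (x * y) ^ (n + 1) = x ^ n * y ^ n * ⁅y, x⁆ ^ (n.choose 2) * (x * y) := by
            rw [pow_succ, ih]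
        _ = x ^ n * (y ^ n * x) * y * ⁅y, x⁆ ^ (n.choose 2) := by
            rw [mul_assoc, hk]; simp only [mul_assoc]
        _ = x ^ n * (x * y ^ n * ⁅y, x⁆ ^ n) * y * ⁅y, x⁆ ^ (n.choose 2) := by rw [hswap]
        _ = x ^ (n + 1) * y ^ (n + 1) * (⁅y, x⁆ ^ n * ⁅y, x⁆ ^ (n.choose 2)) := by
            rw [pow_succ x, pow_succ y]
            simp only [mul_assoc]
            rw [← mul_assoc (⁅y, x⁆ ^ n) y, hk n y, mul_assoc]
        _ = _ := by
            rw [← pow_add, Nat.choose_succ_succ' n 1, Nat.choose_one_right]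
  rw [hgen, Nat.choose_two_right, show 2 * j * (2 * j - 1) / 2 = j * (2 * j - 1) by
    rw [mul_assoc]; exact Nat.mul_div_cancel_left _ two_pos]

section Aut

variable [Finite X]

/-- An automorphism of odd order of a noncyclic two-generated 2-group acts without fixed points on
the Frattini quotient, which it permutes irreducibly. -/
theorem frattini_moves (hX : IsPGroup 2 X) {a b : X} (hgen : ∀ x : X, ∃ i j : ℤ, x = a ^ i * b ^ j)
    {φ : MulAut X} (hφ : Odd (orderOf φ)) (h1 : φ ≠ 1) :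
    (∀ x : X, x⁻¹ * φ x ∈ frattini X → x ∈ frattini X) ∧
    (∀ x : X, x ∈ frattini X ∨ x * a⁻¹ ∈ frattini X ∨ x * b⁻¹ ∈ frattini X ∨
      x * (a * b)⁻¹ ∈ frattini X) ∧
    (∀ K : Subgroup X, (∀ x ∈ K, φ x ∈ K) → (∃ x ∈ K, x ∉ frattini X) → K = ⊤) := by
  classical
  have hcomm : ∀ u v : X ⧸ frattini X, u * v = v * u := fun u v =>
    (Normal.quotient_commutative_iff_commutator_le.mpr (commutator_le_frattini hX)).is_comm.comm u v
  have hsq : ∀ u : X ⧸ frattini X, u * u = 1 := fun u => by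
    obtain ⟨x, rfl⟩ := QuotientGroup.mk_surjective u
    rw [← QuotientGroup.mk_mul, QuotientGroup.eq_one_iff, ← pow_two]
    exact pow_mem_frattini hX x
  set A : X ⧸ frattini X := (a : X ⧸ frattini X) with hA
  set B : X ⧸ frattini X := (b : X ⧸ frattini X) with hB
  have hzp : ∀ (u : X ⧸ frattini X) (i : ℤ), u ^ i = 1 ∨ u ^ i = u := fun u i => by
    rcases Int.even_or_odd' i with ⟨k, rfl | rfl⟩
    · left; rw [_root_.zpow_mul, zpow_two, hsq, one_zpow]
    · right; rw [zpow_add_one, _root_.zpow_mul, zpow_two, hsq, one_zpow, one_mul]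
  have hfour : ∀ u : X ⧸ frattini X, u = 1 ∨ u = A ∨ u = B ∨ u = A * B := fun u => by
    obtain ⟨x, rfl⟩ := QuotientGroup.mk_surjective u
    obtain ⟨i, j, rfl⟩ := hgen x
    rw [QuotientGroup.mk_mul, QuotientGroup.mk_zpow, QuotientGroup.mk_zpow, ← hA, ← hB]
    rcases hzp A i with h | h <;> rcases hzp B j with h' | h' <;> rw [h, h'] <;> simp
  have hmap : (frattini X).map φ.toMonoidHom = frattini X := by
    have := Subgroup.characteristic_iff_map_eq.1 (inferInstance : (frattini X).Characteristic) φ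
    exact this
  let ψ : MulAut (X ⧸ frattini X) := QuotientGroup.congr _ _ φ hmap
  have hψ : ∀ x : X, ψ (x : X ⧸ frattini X) = ((φ x : X) : X ⧸ frattini X) := fun _ => rfl
  have hψpow : ∀ (n : ℕ) (x : X),
      (ψ ^ n) (x : X ⧸ frattini X) = (((φ ^ n) x : X) : X ⧸ frattini X) := by
    intro n x
    induction n with
    | zero => rfl
    | succ n ih => rw [pow_succ', MulAut.mul_apply, ih, hψ, pow_succ', MulAut.mul_apply]
  have hψm : ∀ u, (ψ ^ orderOf φ) u = u := fun u => by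
    obtain ⟨x, rfl⟩ := QuotientGroup.mk_surjective u
    rw [hψpow, pow_orderOf_eq_one]; rfl
  have hfix : ∀ v, v ≠ 1 → ψ v = v → ∀ u, ψ u = u := by
    intro v hv hvf u
    by_contra hu
    have hu1 : u ≠ 1 := fun h => hu (by rw [h, map_one])
    have huv : u ≠ v := fun h => hu (by rw [h, hvf])
    have h2 : ψ (ψ u) = u := by
      have e1 : ψ u ≠ 1 := fun h => hu1 ((MulEquiv.map_eq_one_iff ψ).1 h)
      have e2 : ψ u ≠ v := fun h => huv (ψ.injective (h.trans hvf.symm))
      have e3 : ψ (ψ u) ≠ 1 := fun h => e1 ((MulEquiv.map_eq_one_iff ψ).1 h)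
      have e4 : ψ (ψ u) ≠ v := fun h => e2 (ψ.injective (h.trans hvf.symm))
      have e5 : ψ (ψ u) ≠ ψ u := fun h => hu (ψ.injective h)
      generalize ψ (ψ u) = w at e3 e4 e5 ⊢
      generalize ψ u = z at e1 e2 e5 hu ⊢
      rcases hfour u with rfl | rfl | rfl | rfl <;> rcases hfour v with rfl | rfl | rfl | rfl <;>
        rcases hfour z with rfl | rfl | rfl | rfl <;> rcases hfour w with rfl | rfl | rfl | rfl <;>
        first | rfl | simp_all
    have h3 : ∀ k : ℕ, (ψ ^ (2 * k)) u = u := by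
      intro k
      induction k with
      | zero => rfl
      | succ k ih => rw [Nat.mul_succ, pow_add, MulAut.mul_apply, pow_two, MulAut.mul_apply, h2, ih]
    obtain ⟨k, hk⟩ := hφ
    have h4 := hψm u
    rw [hk, pow_succ', MulAut.mul_apply, h3] at h4
    exact hu h4
  have hmoves : ∀ v, ψ v = v → v = 1 := by
    intro v hv
    by_contra hv1
    refine h1 (Cfsg.Agent.Lib.LA5.HSub.Core.eq_one_of_mod φ hX (Nat.coprime_two_right.2 hφ)
      (N := frattini X) (fun x => ?_) (Or.inr le_rfl))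
    rw [← QuotientGroup.eq_one_iff, QuotientGroup.mk_mul, QuotientGroup.mk_inv, ← hψ,
      hfix v hv1 hv, mul_inv_cancel]
  have hm' : ∀ x : X, x⁻¹ * φ x ∈ frattini X → x ∈ frattini X := fun x hx => by
    rw [← QuotientGroup.eq_one_iff]
    refine hmoves _ ?_
    rw [hψ, eq_comm, QuotientGroup.eq]
    exact hx
  refine ⟨hm', fun x => ?_, ?_⟩
  · rcases hfour (x : X ⧸ frattini X) with h | h | h | h
    · exact Or.inl ((QuotientGroup.eq_one_iff x).1 h)
    · refine Or.inr (Or.inl ((QuotientGroup.eq_one_iff _).1 ?_))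
      rw [QuotientGroup.mk_mul, QuotientGroup.mk_inv, h, ← hA, mul_inv_cancel]
    · refine Or.inr (Or.inr (Or.inl ((QuotientGroup.eq_one_iff _).1 ?_)))
      rw [QuotientGroup.mk_mul, QuotientGroup.mk_inv, h, ← hB, mul_inv_cancel]
    · refine Or.inr (Or.inr (Or.inr ((QuotientGroup.eq_one_iff _).1 ?_)))
      rw [QuotientGroup.mk_mul, QuotientGroup.mk_inv, h, QuotientGroup.mk_mul, ← hA, ← hB,
        mul_inv_cancel]
  · rintro K hK ⟨x, hxK, hx⟩
    refine frattini_nongenerating (eq_top_iff.2 fun y _ => ?_)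
    set u : X ⧸ frattini X := (x : X ⧸ frattini X) with hu
    have hu1 : u ≠ 1 := fun h => hx ((QuotientGroup.eq_one_iff x).1 h)
    have hu2 : ψ u ≠ u := fun h => hu1 (hmoves u h)
    have hu3 : ψ u ≠ 1 := fun h => hu1 ((MulEquiv.map_eq_one_iff ψ).1 h)
    have hy : (y : X ⧸ frattini X) = 1 ∨ (y : X ⧸ frattini X) = u ∨ (y : X ⧸ frattini X) = ψ u ∨
        (y : X ⧸ frattini X) = u * ψ u := by
      generalize (y : X ⧸ frattini X) = z
      generalize ψ u = w at hu2 hu3 ⊢
      clear_value u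
      have hAA := hsq A
      have hBB := hsq B
      have hBA : B * A = A * B := hcomm B A
      have e1 : A * (A * B) = B := by rw [← mul_assoc, hAA, one_mul]
      have e2 : A * B * A = B := by rw [hcomm (A * B) A, e1]
      have e3 : B * (A * B) = A := by rw [hcomm A B, ← mul_assoc, hBB, one_mul]
      have e4 : A * B * B = A := by rw [mul_assoc, hBB, mul_one]
      rcases hfour z with h | h | h | h <;> rcases hfour u with h' | h' | h' | h' <;>
        rcases hfour w with h'' | h'' | h'' | h'' <;> rw [h, h', h''] <;>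
        first
        | exact absurd h' hu1 | exact absurd h'' hu3
        | exact absurd (h''.trans h'.symm) hu2
        | simp [hAA, hBB, hBA, e1, e2, e3, e4]
    have key : ∀ z : X, (y : X ⧸ frattini X) = (z : X ⧸ frattini X) → z ∈ K →
        y ∈ K ⊔ frattini X := fun z h hz => by
      rw [show y = z * (z⁻¹ * y) by group]
      exact mul_mem (mem_sup_left hz) (mem_sup_right (QuotientGroup.eq.1 h.symm))
    rcases hy with h | h | h | h
    · exact key 1 h (one_mem _)
    · exact key x h hxK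
    · exact key (φ x) (h.trans (hψ x)) (hK x hxK)
    · exact key (x * φ x) (by rw [h, hu, hψ, QuotientGroup.mk_mul]) (mul_mem hxK (hK x hxK))

/-- Automorphisms of odd order of metacyclic 2-groups. -/
theorem aut_cases (hX : IsPGroup 2 X) (hm : Cfsg.IsMetacyclic X)
    {φ : MulAut X} (hφ : Odd (orderOf φ)) (h1 : φ ≠ 1) :
    Nonempty (X ≃* QuaternionGroup 2) ∨
      ∃ n : ℕ, 0 < n ∧
        Nonempty (X ≃* Multiplicative (ZMod (2 ^ n)) × Multiplicative (ZMod (2 ^ n))) := by
  classical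
  obtain ⟨a, b, hNn, hgen, hDN⟩ := exists_gens hm
  obtain ⟨hmoves, hfour, hfull⟩ := frattini_moves hX hgen hφ h1
  set Φ := frattini X with hΦ
  set D := commutator X with hD
  have hDΦ : D ≤ Φ := commutator_le_frattini hX
  obtain ⟨x₀, hx₀⟩ : ∃ x : X, x ∉ Φ := by
    by_contra! h
    exact h1 (Cfsg.Agent.Lib.LA5.HSub.Core.eq_one_of_mod φ hX (Nat.coprime_two_right.2 hφ)
      (N := Φ) (fun u => h _) (Or.inr le_rfl))
  -- `a`, `b`, `a * b` are outside the Frattini subgroup
  have hout : a ∉ Φ ∧ b ∉ Φ ∧ a * b ∉ Φ := by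
    refine ⟨fun ha => ?_, fun hb => ?_, fun hab => ?_⟩
    · have htop : zpowers b ⊔ Φ = ⊤ := eq_top_iff.2 fun x _ => by
        obtain ⟨i, j, rfl⟩ := hgen x
        exact mul_mem (mem_sup_right (zpow_mem ha i)) (mem_sup_left (zpow_mem (mem_zpowers b) j))
      have hb' := frattini_nongenerating htop
      have : φ b ∈ zpowers b := hb' ▸ mem_top _
      obtain ⟨r, hr⟩ := mem_powers_iff_mem_zpowers.2 this
      obtain ⟨k, hk⟩ := IsPGroup.iff_orderOf.1 hX b
      have hfb := OddAut.fix_of_power hr.symm hφ hk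
      exact h1 (MulEquiv.ext fun x => by
        obtain ⟨i, rfl⟩ := mem_zpowers_iff.1 (hb' ▸ mem_top x : x ∈ zpowers b)
        rw [map_zpow, hfb]; rfl)
    · have htop : zpowers a ⊔ Φ = ⊤ := eq_top_iff.2 fun x _ => by
        obtain ⟨i, j, rfl⟩ := hgen x
        exact mul_mem (mem_sup_left (zpow_mem (mem_zpowers a) i)) (mem_sup_right (zpow_mem hb j))
      have ha' := frattini_nongenerating htop
      have : φ a ∈ zpowers a := ha' ▸ mem_top _
      obtain ⟨r, hr⟩ := mem_powers_iff_mem_zpowers.2 this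
      obtain ⟨k, hk⟩ := IsPGroup.iff_orderOf.1 hX a
      have hfa := OddAut.fix_of_power hr.symm hφ hk
      exact h1 (MulEquiv.ext fun x => by
        obtain ⟨i, rfl⟩ := mem_zpowers_iff.1 (ha' ▸ mem_top x : x ∈ zpowers a)
        rw [map_zpow, hfa]; rfl)
    · have htop : zpowers a ⊔ Φ = ⊤ := eq_top_iff.2 fun x _ => by
        obtain ⟨i, j, rfl⟩ := hgen x
        have hb : b ∈ zpowers a ⊔ Φ := by
          rw [show b = a⁻¹ * (a * b) by group]
          exact mul_mem (mem_sup_left (inv_mem (mem_zpowers a))) (mem_sup_right hab)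
        exact mul_mem (mem_sup_left (zpow_mem (mem_zpowers a) i)) (zpow_mem hb j)
      have ha' := frattini_nongenerating htop
      have : φ a ∈ zpowers a := ha' ▸ mem_top _
      obtain ⟨r, hr⟩ := mem_powers_iff_mem_zpowers.2 this
      obtain ⟨k, hk⟩ := IsPGroup.iff_orderOf.1 hX a
      have hfa := OddAut.fix_of_power hr.symm hφ hk
      exact h1 (MulEquiv.ext fun x => by
        obtain ⟨i, rfl⟩ := mem_zpowers_iff.1 (ha' ▸ mem_top x : x ∈ zpowers a)
        rw [map_zpow, hfa]; rfl)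
  obtain ⟨haΦ, hbΦ, habΦ⟩ := hout
  -- `φ` fixes `D` pointwise and `D` is central
  have hDfix : ∀ d ∈ D, φ d = d := by
    intro d hd
    have hchar : φ d ∈ D := by
      have := Subgroup.characteristic_iff_map_eq.1 (inferInstance : (commutator X).Characteristic) φ
      rw [hD, ← this]
      exact ⟨d, hd, rfl⟩
    obtain ⟨i, rfl⟩ := mem_zpowers_iff.1 (hDN hd)
    have hmem : φ (a ^ i) ∈ zpowers (a ^ i) := by
      have heq : Nat.card ((zpowers (a ^ i)).map φ.toMonoidHom) = Nat.card (zpowers (a ^ i)) :=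
        Subgroup.card_map_of_injective φ.injective
      have hle : (zpowers (a ^ i)).map φ.toMonoidHom ≤ zpowers a := by
        rw [MonoidHom.map_zpowers, zpowers_le]
        exact hDN hchar
      have hle' : zpowers (a ^ i) ≤ zpowers a := zpowers_le.2 (zpow_mem (mem_zpowers a) i)
      rw [← Recognition.eq_of_card_eq_of_le_zpowers hle hle' heq]
      exact mem_map_of_mem _ (mem_zpowers _)
    obtain ⟨r, hr⟩ := mem_powers_iff_mem_zpowers.2 hmem
    obtain ⟨k, hk⟩ := IsPGroup.iff_orderOf.1 hX (a ^ i)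
    exact OddAut.fix_of_power hr.symm hφ hk
  have hDc : D ≤ center X := by
    have hK := hfull (centralizer (D : Set X)) ?_ ?_
    · intro d hd
      rw [mem_center_iff]
      intro x
      exact (mem_centralizer_iff.1 (hK ▸ mem_top x : x ∈ centralizer (D : Set X)) d hd).symm
    · intro x hx
      rw [mem_centralizer_iff] at hx ⊢
      intro d hd
      have := congrArg φ (hx d hd)
      rwa [map_mul, map_mul, hDfix d hd] at this
    · refine ⟨x₀⁻¹ * φ x₀, ?_, fun h => hx₀ (hmoves _ h)⟩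
      rw [mem_centralizer_iff]
      intro d hd
      have hconj : x₀ * d * x₀⁻¹ ∈ D := (inferInstance : (commutator X).Normal).conj_mem d hd x₀
      have h2 := hDfix _ hconj
      rw [map_mul, map_mul, map_inv, hDfix d hd] at h2
      calc d * (x₀⁻¹ * φ x₀) = x₀⁻¹ * (x₀ * d * x₀⁻¹) * φ x₀ := by group
        _ = x₀⁻¹ * (φ x₀ * d * (φ x₀)⁻¹) * φ x₀ := by rw [h2]
        _ = x₀⁻¹ * φ x₀ * d := by group
  -- all elements outside the Frattini subgroup have one order modulo `D`
  have hKj : ∀ (j : ℕ) (x : X), x ∉ Φ → x ^ 2 ^ j ∈ D → ∀ y : X, y ^ 2 ^ j ∈ D := by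
    intro j x hx hxj
    let K : Subgroup X :=
      { carrier := {y | y ^ 2 ^ j ∈ D}
        one_mem' := by simp
        mul_mem' := fun {u v} hu hv => by
          show (u * v) ^ 2 ^ j ∈ D
          rw [← QuotientGroup.eq_one_iff, QuotientGroup.mk_pow, QuotientGroup.mk_mul,
            Commute.mul_pow ((Normal.quotient_commutative_iff_commutator_le.mpr (le_refl (commutator X))).is_comm.comm _ _),
            ← QuotientGroup.mk_pow, ← QuotientGroup.mk_pow,
            (QuotientGroup.eq_one_iff _).2 hu, (QuotientGroup.eq_one_iff _).2 hv, one_mul]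
        inv_mem' := fun {u} hu => by
          show u⁻¹ ^ 2 ^ j ∈ D
          rw [inv_pow]; exact inv_mem hu }
    have := hfull K (fun y hy => by
      show φ y ^ 2 ^ j ∈ D
      rw [← map_pow, hDfix _ hy]; exact hy) ⟨x, hxj, hx⟩
    exact fun y => (this ▸ mem_top y : y ∈ K)
  have hex : ∀ x : X, ∃ j : ℕ, x ^ 2 ^ j ∈ D := fun x => by
    obtain ⟨k, hk⟩ := hX x
    exact ⟨k, by rw [hk]; exact one_mem _⟩
  set m := Nat.find (hex a) with hm'
  have hall : ∀ y : X, y ^ 2 ^ m ∈ D := hKj m a haΦ (Nat.find_spec (hex a))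
  have hmin : ∀ x : X, x ∉ Φ → ∀ j : ℕ, x ^ 2 ^ j ∈ D → m ≤ j := fun x hx j hj =>
    Nat.find_min' _ (hKj j x hx hj a)
  have hm1 : 1 ≤ m := by
    by_contra h
    have h0 : m = 0 := by omega
    have := hall a
    rw [h0, pow_zero, pow_one] at this
    exact haΦ (hDΦ this)
  have hodd : ∀ x : X, x ∉ Φ → ∀ k : ℤ, Odd k → x ^ k ∉ Φ := by
    rintro x hx k ⟨l, rfl⟩ h
    refine hx ?_
    have h2 : (x ^ 2) ^ l ∈ Φ := zpow_mem (pow_mem_frattini hX x) l
    rw [zpow_add_one, _root_.zpow_mul] at h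
    have := mul_mem (inv_mem h2) h
    rwa [← zpow_natCast, Nat.cast_ofNat, ← mul_assoc, inv_mul_cancel, one_mul] at this
  have hmemD : ∀ i : ℤ, a ^ i ∈ D → ((2 ^ m : ℕ) : ℤ) ∣ i := by
    intro i hi
    by_contra hndvd
    have hi0 : i ≠ 0 := fun h => hndvd (h ▸ dvd_zero _)
    obtain ⟨s, k, hk, hik⟩ := Nat.exists_eq_two_pow_mul_odd (Int.natAbs_ne_zero.2 hi0)
    have hk' : a ^ (2 ^ s * k) ∈ D := by
      rcases Int.natAbs_eq i with h | h
      · rw [h, zpow_natCast, hik] at hi; exact hi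
      · rw [h, zpow_neg, inv_mem_iff, zpow_natCast, hik] at hi; exact hi
    have hs : m ≤ s := hmin (a ^ k) (by
      have := hodd a haΦ k (by exact_mod_cast hk)
      rwa [zpow_natCast] at this) s
      (by rw [← pow_mul, mul_comm]; exact hk')
    exact hndvd (Int.natCast_dvd.2 (hik ▸ dvd_mul_of_dvd_left (pow_dvd_pow 2 hs) k))
  have hDeq : ∀ d ∈ D, ∃ i : ℤ, d = (a ^ 2 ^ m) ^ i := by
    intro d hd
    obtain ⟨i, rfl⟩ := mem_zpowers_iff.1 (hDN hd)
    obtain ⟨l, rfl⟩ := hmemD i hd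
    exact ⟨l, by rw [← zpow_natCast a, ← _root_.zpow_mul]⟩
  by_cases hD0 : D = ⊥
  · -- abelian
    right
    refine ⟨m, hm1, ?_⟩
    have hab : ∀ u v : X, u * v = v * u := fun u v => by
      rw [← commutatorElement_eq_one_iff_mul_comm, ← Subgroup.mem_bot, ← hD0]
      exact commutator_mem_commutator (mem_top _) (mem_top _)
    have hpow : ∀ y : X, y ^ 2 ^ m = 1 := fun y => by
      have := hall y; rwa [hD0, Subgroup.mem_bot] at this
    have : NeZero (2 ^ m) := ⟨by positivity⟩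
    let f : Multiplicative (ZMod (2 ^ m)) × Multiplicative (ZMod (2 ^ m)) →* X :=
      MonoidHom.mk' (fun p => a ^ (Multiplicative.toAdd p.1).val * b ^ (Multiplicative.toAdd p.2).val)
        fun p q => by
          have key : ∀ (z : X) (i j : ZMod (2 ^ m)), z ^ (i + j).val = z ^ i.val * z ^ j.val := by
            intro z i j
            rw [ZMod.val_add, ← pow_add]
            exact (pow_eq_pow_mod _ (hpow z)).symm
          simp only [Prod.fst_mul, Prod.snd_mul, toAdd_mul, key]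
          rw [mul_assoc, ← mul_assoc (a ^ (Multiplicative.toAdd q.1).val),
            hab (a ^ (Multiplicative.toAdd q.1).val), ← mul_assoc, ← mul_assoc, ← mul_assoc]
    refine ⟨(MulEquiv.ofBijective f ⟨?_, ?_⟩).symm⟩
    · rw [injective_iff_map_eq_one]
      rintro ⟨i, j⟩ h
      change a ^ (Multiplicative.toAdd i).val * b ^ (Multiplicative.toAdd j).val = 1 at h
      have hzero : ∀ p q : ℕ, p < 2 ^ m → q < 2 ^ m → a ^ p * b ^ q = 1 → p = 0 ∧ q = 0 := by
        intro p q hp hq hpq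
        by_contra hne
        obtain ⟨s, hs⟩ : ∃ s, 2 ^ s ∣ p ∧ 2 ^ s ∣ q ∧ s < m ∧ (Odd (p / 2 ^ s) ∨ Odd (q / 2 ^ s)) := by
          let s := Nat.findGreatest (fun s => 2 ^ s ∣ p ∧ 2 ^ s ∣ q) m
          have hspec : 2 ^ s ∣ p ∧ 2 ^ s ∣ q :=
            Nat.findGreatest_spec (P := fun s => 2 ^ s ∣ p ∧ 2 ^ s ∣ q) (Nat.zero_le m)
              ⟨one_dvd _, one_dvd _⟩
          have hsm : s < m := by
            refine lt_of_le_of_ne (Nat.findGreatest_le m) fun e => hne ⟨?_, ?_⟩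
            · exact Nat.eq_zero_of_dvd_of_lt (e ▸ hspec.1) hp
            · exact Nat.eq_zero_of_dvd_of_lt (e ▸ hspec.2) hq
          refine ⟨s, hspec.1, hspec.2, hsm, ?_⟩
          by_contra hno
          rw [not_or, Nat.not_odd_iff_even, Nat.not_odd_iff_even] at hno
          refine Nat.findGreatest_is_greatest (P := fun s => 2 ^ s ∣ p ∧ 2 ^ s ∣ q) (k := s + 1)
            (Nat.lt_succ_self s) hsm ⟨?_, ?_⟩
          · rw [pow_succ]; exact Nat.mul_dvd_of_dvd_div hspec.1 hno.1.two_dvd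
          · rw [pow_succ]; exact Nat.mul_dvd_of_dvd_div hspec.2 hno.2.two_dvd
        obtain ⟨h1', h2', hsm, hodd'⟩ := hs
        set p' := p / 2 ^ s with hp'
        set q' := q / 2 ^ s with hq'
        have hz : (a ^ p' * b ^ q') ^ 2 ^ s ∈ D := by
          rw [Commute.mul_pow (hab _ _), ← pow_mul, ← pow_mul, hp', hq', Nat.div_mul_cancel h1',
            Nat.div_mul_cancel h2', hpq]
          exact one_mem _
        have hnot : a ^ p' * b ^ q' ∉ Φ := by
          intro hmem
          have h2n : ∀ (z : X) (k : ℕ), Even k → z ^ k ∈ Φ := fun z k ⟨l, hl⟩ => by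
            rw [hl, ← two_mul, pow_mul]; exact pow_mem (pow_mem_frattini hX z) l
          have h2o : ∀ (z : X) (k : ℕ), Odd k → z ∉ Φ → z ^ k ∉ Φ := fun z k hk hz h' => by
            refine hodd z hz k (by exact_mod_cast hk) ?_
            rwa [zpow_natCast]
          rcases Nat.even_or_odd p' with hpe | hpo <;> rcases Nat.even_or_odd q' with hqe | hqo
          · rcases hodd' with h' | h' <;> rw [← Nat.not_even_iff_odd] at h'
            · exact h' hpe
            · exact h' hqe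
          · exact h2o b q' hqo hbΦ ((Φ.mul_mem_cancel_left (h2n a p' hpe)).1 hmem)
          · exact h2o a p' hpo haΦ ((Φ.mul_mem_cancel_right (h2n b q' hqe)).1 hmem)
          · obtain ⟨l, hl⟩ := hpo
            obtain ⟨l', hl'⟩ := hqo
            rw [hl, hl', pow_succ, pow_succ,
              show a ^ (2 * l) * a * (b ^ (2 * l') * b) = (a ^ (2 * l) * b ^ (2 * l')) * (a * b) by
                rw [mul_assoc, ← mul_assoc a, hab a]; simp only [mul_assoc]] at hmem
            exact habΦ ((Φ.mul_mem_cancel_left (mul_mem (h2n a _ (even_two_mul l))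
              (h2n b _ (even_two_mul l')))).1 hmem)
        exact absurd (hmin _ hnot s hz) (by omega)
      obtain ⟨hi, hj⟩ := hzero _ _ (ZMod.val_lt _) (ZMod.val_lt _) h
      rw [ZMod.val_eq_zero] at hi hj
      exact Prod.ext hi hj
    · intro x
      obtain ⟨i, j, rfl⟩ := hgen x
      refine ⟨(Multiplicative.ofAdd (i : ZMod (2 ^ m)), Multiplicative.ofAdd (j : ZMod (2 ^ m))), ?_⟩
      have key : ∀ (z : X) (k : ℤ), z ^ ((k : ZMod (2 ^ m)).val) = z ^ k := by
        intro z k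
        rw [← zpow_natCast, ZMod.val_intCast]
        exact (zpow_eq_zpow_emod' _ (hpow z)).symm
      show a ^ (i : ZMod (2 ^ m)).val * b ^ (j : ZMod (2 ^ m)).val = _
      rw [key, key]
  · -- nonabelian
    left
    have hcc : ∀ x y : X, ⁅x, y⁆ ∈ center X := fun x y =>
      hDc (commutator_mem_commutator (mem_top _) (mem_top _))
    set e := a ^ 2 ^ m with he
    have heD : e ∈ D := hall a
    let D2 : Subgroup X := zpowers (e ^ 2)
    have hD2 : ∀ d ∈ D, d ^ 2 ∈ D2 := fun d hd => by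
      obtain ⟨i, rfl⟩ := hDeq d hd
      refine ⟨i, ?_⟩
      show (e ^ 2) ^ i = (e ^ i) ^ 2
      rw [← zpow_natCast e, ← zpow_natCast (e ^ i), ← _root_.zpow_mul, ← _root_.zpow_mul, mul_comm]
    have hm2 : m = 1 := by
      by_contra hne
      have heven : ∀ x y : X, (x * y) ^ 2 ^ m * (x ^ 2 ^ m * y ^ 2 ^ m)⁻¹ ∈ D2 := by
        intro x y
        obtain ⟨m', hm''⟩ : ∃ m', m = m' + 2 := ⟨m - 2, by omega⟩
        rw [show 2 ^ m = 2 * 2 ^ (m' + 1) by rw [hm'', pow_succ']]
        rw [mul_pow_two_mul (hcc y x)]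
        have hce : ∀ z : X, z * ⁅y, x⁆ ^ (2 ^ (m' + 1) * (2 * 2 ^ (m' + 1) - 1)) * z⁻¹ =
            ⁅y, x⁆ ^ (2 ^ (m' + 1) * (2 * 2 ^ (m' + 1) - 1)) := fun z => by
          rw [mem_center_iff.1 (pow_mem (hcc y x) _) z, mul_inv_cancel_right]
        rw [hce, pow_succ' 2 m', mul_assoc 2, pow_mul]
        exact pow_mem (hD2 _ (commutator_mem_commutator (mem_top _) (mem_top _))) _
      let K : Subgroup X :=
        { carrier := {x | x ^ 2 ^ m ∈ D2}
          one_mem' := by simp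
          mul_mem' := fun {u v} hu hv => by
            show (u * v) ^ 2 ^ m ∈ D2
            have := mul_mem (heven u v) (mul_mem hu hv)
            rwa [inv_mul_cancel_right] at this
          inv_mem' := fun {u} hu => by
            show u⁻¹ ^ 2 ^ m ∈ D2
            rw [inv_pow]; exact inv_mem hu }
      have hK := hfull K (fun x hx => by
        show φ x ^ 2 ^ m ∈ D2
        rw [← map_pow, hDfix _ (hall x)]; exact hx)
        ⟨a⁻¹ * φ a, ?_, fun h => haΦ (hmoves a h)⟩
      · have hd : e ∈ D2 := (hK ▸ mem_top a : a ∈ K)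
        obtain ⟨i, hi⟩ := mem_zpowers_iff.1 hd
        have he1 : e ^ (2 * i - 1) = 1 := by
          rw [zpow_sub, zpow_one, _root_.zpow_mul, zpow_two, ← pow_two, hi, mul_inv_cancel]
        obtain ⟨k, hk⟩ := IsPGroup.iff_orderOf.1 hX e
        have hdvd := orderOf_dvd_iff_zpow_eq_one.2 he1
        rcases Nat.eq_zero_or_pos k with rfl | hk0
        · apply hD0
          rw [pow_zero, orderOf_eq_one_iff] at hk
          refine (Subgroup.eq_bot_iff_forall _).2 fun d hd' => ?_
          obtain ⟨j, rfl⟩ := hDeq d hd'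
          rw [hk, one_zpow]
        · have h2 : ((2 : ℕ) : ℤ) ∣ 2 * i - 1 :=
            dvd_trans (Int.natCast_dvd_natCast.2 (hk ▸ dvd_pow_self 2 hk0.ne')) hdvd
          omega
      · show (a⁻¹ * φ a) ^ 2 ^ m ∈ D2
        have h3 := heven a⁻¹ (φ a)
        rwa [inv_pow, ← map_pow, ← he, hDfix e heD, inv_mul_cancel, inv_one, mul_one] at h3
    -- order eight
    have hsq : ∀ x : X, x ^ 2 ∈ D := fun x => by have := hall x; rwa [hm2, pow_one] at this
    have heq : e = a ^ 2 := by rw [he, hm2, pow_one]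
    have hba : ⁅b, a⁆ ∈ D := commutator_mem_commutator (mem_top _) (mem_top _)
    obtain ⟨i, hi⟩ := hDeq _ hba
    have he2 : e ^ 2 = 1 := by
      have h0 : ⁅b, a⁆ ^ 2 = ⁅b, a ^ 2⁆ := by
        have hc := mem_center_iff.1 (hcc b a)
        simp only [commutatorElement_def] at hc ⊢
        calc (b * a * b⁻¹ * a⁻¹) ^ 2 = (b * a * b⁻¹ * a⁻¹) * (b * a * b⁻¹ * a⁻¹) := pow_two _
          _ = b * a * b⁻¹ * (a⁻¹ * (b * a * b⁻¹ * a⁻¹)) := by group
          _ = b * a * b⁻¹ * ((b * a * b⁻¹ * a⁻¹) * a⁻¹) := by rw [hc]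
          _ = _ := by rw [pow_two a]; group
      have h1' : ⁅b, a ^ 2⁆ = 1 := commutatorElement_eq_one_iff_mul_comm.2
        (mem_center_iff.1 (hDc (hsq a)) b)
      rw [h1', hi] at h0
      have hgenD : ∀ d ∈ D, ∃ j : ℤ, d = ⁅b, a⁆ ^ j := by
        intro d hd
        have hle : commutator X ≤ zpowers ⁅b, a⁆ := by
          have hN : (zpowers ⁅b, a⁆).Normal := ⟨fun z hz g => by
            obtain ⟨j, rfl⟩ := mem_zpowers_iff.1 hz
            rw [mem_center_iff.1 (zpow_mem (hcc b a) j) g, mul_inv_cancel_right]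
            exact hz⟩
          refine Normal.quotient_commutative_iff_commutator_le.1 ⟨⟨fun u v => ?_⟩⟩
          have hab' : Commute (b : X ⧸ zpowers ⁅b, a⁆) (a : X ⧸ zpowers ⁅b, a⁆) := by
            rw [← commutatorElement_eq_one_iff_commute, ← QuotientGroup.mk'_apply,
              ← QuotientGroup.mk'_apply, ← map_commutatorElement, QuotientGroup.mk'_apply,
              QuotientGroup.eq_one_iff]
            exact mem_zpowers _
          obtain ⟨x, rfl⟩ := QuotientGroup.mk_surjective u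
          obtain ⟨y, rfl⟩ := QuotientGroup.mk_surjective v
          obtain ⟨i₁, j₁, rfl⟩ := hgen x
          obtain ⟨i₂, j₂, rfl⟩ := hgen y
          simp only [QuotientGroup.mk_mul, QuotientGroup.mk_zpow]
          exact Commute.mul_left
            (Commute.mul_right (Commute.zpow_zpow (Commute.refl _) _ _)
              ((hab'.symm).zpow_zpow _ _))
            (Commute.mul_right (hab'.zpow_zpow _ _) (Commute.zpow_zpow (Commute.refl _) _ _))
        obtain ⟨j, hj⟩ := mem_zpowers_iff.1 (hle hd)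
        exact ⟨j, hj.symm⟩
      obtain ⟨j, hj⟩ := hgenD e heD
      rw [hj, hi, ← zpow_natCast, ← _root_.zpow_mul, mul_comm, _root_.zpow_mul, zpow_natCast, h0,
        one_zpow]
    have hene : e ≠ 1 := fun h => hD0 ((Subgroup.eq_bot_iff_forall _).2 fun d hd => by
      obtain ⟨j, rfl⟩ := hDeq d hd
      rw [h, one_zpow])
    have hDel : ∀ d ∈ D, d = 1 ∨ d = e := fun d hd => by
      obtain ⟨j, rfl⟩ := hDeq d hd
      rcases Int.even_or_odd' j with ⟨l, rfl | rfl⟩
      · left; rw [_root_.zpow_mul, zpow_two, ← pow_two, he2, one_zpow]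
      · right; rw [zpow_add_one, _root_.zpow_mul, zpow_two, ← pow_two, he2, one_zpow, one_mul]
    have hΦD : Φ ≤ D := frattini_le_of_pow_commutator D hsq le_rfl
    have haord : orderOf a = 4 :=
      orderOf_eq_prime_pow (p := 2) (n := 1)
        (by rw [pow_one, ← heq]; exact hene)
        (by rw [show 2 ^ (1 + 1) = 2 * 2 from rfl, pow_mul, ← heq, he2])
    have hb2e : b ^ 2 = e := by
      have hfin : ∀ z : X, z ^ 2 = e → b * z⁻¹ ∈ Φ → b ^ 2 = e := by
        intro z hz hzb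
        rw [show b = b * z⁻¹ * z by group, Commute.mul_pow
          (Commute.symm (mem_center_iff.1 (hDc (hΦD hzb)) z)), hz]
        rcases hDel _ (hΦD hzb) with h | h
        · rw [h, one_pow, one_mul]
        · rw [h, he2, one_mul]
      have hswap : ∀ z : X, z * b⁻¹ ∈ Φ → b * z⁻¹ ∈ Φ := fun z h => by
        have := inv_mem h; rwa [mul_inv_rev, inv_inv] at this
      have cls : ∀ {x y c : X}, x * c⁻¹ ∈ Φ → y * c⁻¹ ∈ Φ → x⁻¹ * y ∈ Φ := by
        intro x y c hx hy
        have := (inferInstance : (frattini X).Normal).conj_mem _ (mul_mem (inv_mem hx) hy) c⁻¹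
        rw [show c⁻¹ * ((x * c⁻¹)⁻¹ * (y * c⁻¹)) * c⁻¹⁻¹ = x⁻¹ * y by group] at this
        exact this
      have haa : a * a⁻¹ ∈ Φ := by rw [mul_inv_cancel]; exact one_mem _
      have hnotΦ : ∀ z : X, z ∉ Φ → φ z ∉ Φ := fun z hz h => by
        have hmap : Φ.map φ.toMonoidHom = Φ :=
          Subgroup.characteristic_iff_map_eq.1 (inferInstance : (frattini X).Characteristic) φ
        rw [← hmap] at h
        obtain ⟨u, hu, hue⟩ := h
        exact hz (φ.injective hue ▸ hu)
      have hsq1 : φ a ^ 2 = e := by rw [← map_pow, ← heq, hDfix e heD]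
      have hsq2 : φ (φ a) ^ 2 = e := by rw [← map_pow, hsq1, hDfix e heD]
      have h12 : a⁻¹ * φ a ∉ Φ := fun h => haΦ (hmoves a h)
      rcases hfour (φ a) with g | g | g | g
      · exact absurd g (hnotΦ a haΦ)
      · exact absurd (cls haa g) h12
      · exact hfin _ hsq1 (hswap _ g)
      · rcases hfour (φ (φ a)) with g' | g' | g' | g'
        · exact absurd g' (hnotΦ _ (hnotΦ a haΦ))
        · exfalso
          -- `a * φ a` would be fixed modulo the Frattini subgroup
          have h1' : (a * φ a)⁻¹ * (φ a * a) ∈ Φ := by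
            rw [show (a * φ a)⁻¹ * (φ a * a) = ⁅(φ a)⁻¹, a⁻¹⁆ by
              rw [commutatorElement_def]; group]
            exact commutatorElement_mem_frattini hX _ _
          have h2' : (a * φ a)⁻¹ * φ (a * φ a) ∈ Φ := by
            rw [map_mul, show (a * φ a)⁻¹ * (φ a * φ (φ a)) =
              (a * φ a)⁻¹ * (φ a * a) * (a⁻¹ * φ (φ a)) by group]
            exact mul_mem h1' (cls haa g')
          refine h12 ?_
          have := mul_mem (inv_mem (pow_mem_frattini hX a)) (hmoves _ h2')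
          rwa [show (a ^ 2)⁻¹ * (a * φ a) = a⁻¹ * φ a by group] at this
        · exact hfin _ hsq2 (hswap _ g')
        · exact absurd (hmoves _ (cls g g')) (hnotΦ a haΦ)
    have hcard : Nat.card X = 4 * 2 := by
      have hinj : Function.Injective (fun p : Fin 2 × zpowers a => b ^ (p.1 : ℕ) * (p.2 : X)) := by
        have hbN : b ∉ zpowers a := fun h => by
          obtain ⟨j, hj⟩ := mem_zpowers_iff.1 h
          have hall' : ∀ x : X, x ∈ zpowers a := fun x => by
            obtain ⟨p, q, rfl⟩ := hgen x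
            exact mul_mem (zpow_mem (mem_zpowers a) p) (zpow_mem h q)
          apply hD0
          refine (Subgroup.eq_bot_iff_forall _).2 fun d hd => ?_
          have : commutator X ≤ ⊥ := by
            rw [_root_.commutator_def, Subgroup.commutator_le]
            intro u _ v _
            rw [Subgroup.mem_bot, commutatorElement_eq_one_iff_mul_comm]
            obtain ⟨p, rfl⟩ := mem_zpowers_iff.1 (hall' u)
            obtain ⟨q, rfl⟩ := mem_zpowers_iff.1 (hall' v)
            exact (Commute.refl a).zpow_zpow p q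
          exact Subgroup.mem_bot.1 (this hd)
        rintro ⟨p, u⟩ ⟨q, v⟩ h
        change b ^ (p : ℕ) * (u : X) = b ^ (q : ℕ) * (v : X) at h
        fin_cases p <;> fin_cases q <;> simp at h
        · exact Prod.ext rfl h
        · exact absurd (by rw [show b = (u : X) * (v : X)⁻¹ by rw [h]; group]
                           exact mul_mem u.2 (inv_mem v.2)) hbN
        · exact absurd (by rw [show b = (v : X) * (u : X)⁻¹ by rw [← h]; group]
                           exact mul_mem v.2 (inv_mem u.2)) hbN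
        · exact Prod.ext rfl h
      have hsurj : Function.Surjective (fun p : Fin 2 × zpowers a => b ^ (p.1 : ℕ) * (p.2 : X)) := by
        intro x
        obtain ⟨i', j', rfl⟩ := hgen x
        have hN := hNn
        have hb2 : b ^ 2 ∈ zpowers a := hDN (hsq b)
        rcases Int.even_or_odd' j' with ⟨l, rfl | rfl⟩
        · refine ⟨⟨0, ⟨a ^ i' * b ^ (2 * l), mul_mem (zpow_mem (mem_zpowers a) _) ?_⟩⟩, by simp⟩
          rw [_root_.zpow_mul]
          exact zpow_mem (by exact_mod_cast hb2) l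
        · refine ⟨⟨1, ⟨b⁻¹ * (a ^ i' * b ^ (2 * l + 1)), ?_⟩⟩, by simp⟩
          rw [zpow_add_one, _root_.zpow_mul,
            show b⁻¹ * (a ^ i' * ((b ^ (2 : ℤ)) ^ l * b)) = b⁻¹ * (a ^ i' * (b ^ (2 : ℤ)) ^ l) * b⁻¹⁻¹ by
              group]
          refine hN.conj_mem _ (mul_mem (zpow_mem (mem_zpowers a) _) (zpow_mem ?_ l)) _
          exact_mod_cast hb2
      rw [← Nat.card_congr (Equiv.ofBijective _ ⟨hinj, hsurj⟩), Nat.card_prod, Nat.card_zpowers,
        haord, Nat.card_eq_fintype_card, Fintype.card_fin]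
    have hcom : ⁅b, a⁆ = e := by
      rcases hDel _ hba with h | h
      · exfalso
        apply hD0
        refine (Subgroup.eq_bot_iff_forall _).2 fun d hd => ?_
        have hc := commutatorElement_eq_one_iff_commute.1 h
        have : commutator X ≤ ⊥ := by
          rw [_root_.commutator_def, Subgroup.commutator_le]
          intro u _ v _
          obtain ⟨i₁, j₁, rfl⟩ := hgen u
          obtain ⟨i₂, j₂, rfl⟩ := hgen v
          rw [Subgroup.mem_bot, commutatorElement_eq_one_iff_mul_comm]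
          exact (Commute.mul_left
            (Commute.mul_right (Commute.zpow_zpow (Commute.refl _) _ _)
              ((hc.symm).zpow_zpow _ _))
            (Commute.mul_right (hc.zpow_zpow _ _) (Commute.zpow_zpow (Commute.refl _) _ _))).eq
        exact Subgroup.mem_bot.1 (this hd)
      · exact h
    refine Recognition.nonempty_quaternion (a := a) (b := b) (by rw [haord])
      (by rw [← pow_two, hb2e, heq]) ?_ ?_ (by rw [hcard])
    · calc b * a * b⁻¹ = ⁅b, a⁆ * a := by rw [commutatorElement_def]; group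
        _ = e * a := by rw [hcom]
        _ = a⁻¹ := eq_inv_of_mul_eq_one_left (by
            rw [mul_assoc, ← pow_two, ← heq, ← pow_two, he2])
    · intro h
      apply hD0
      refine (Subgroup.eq_bot_iff_forall _).2 fun d hd => ?_
      obtain ⟨p, hp⟩ := mem_zpowers_iff.1 h
      have : ⁅b, a⁆ = 1 := commutatorElement_eq_one_iff_mul_comm.2
        (hp ▸ ((Commute.refl a).zpow_left p).eq)
      exact absurd (hcom.symm.trans this) hene

end Aut

section Structure

variable [Finite X]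

/-- In a cyclic 2-group, of two elements one is a power of the other, or of its square. -/
theorem cyclic_dichotomy {Q : Type*} [Group Q] [Finite Q] [IsCyclic Q] (hQ : IsPGroup 2 Q)
    (u v : Q) : u ∈ zpowers v ∨ v ∈ zpowers (u ^ 2) := by
  obtain ⟨g, hg⟩ := IsCyclic.exists_generator (α := Q)
  obtain ⟨c, hc⟩ := IsPGroup.iff_orderOf.1 hQ g
  obtain ⟨i, rfl⟩ := mem_zpowers_iff.1 (hg u)
  obtain ⟨j, rfl⟩ := mem_zpowers_iff.1 (hg v)
  have key : ∀ p : ℤ, ∃ s : ℕ, s ≤ c ∧ (∀ q : ℤ, g ^ q ∈ zpowers (g ^ p) ↔ ((2 ^ s : ℕ) : ℤ) ∣ q) := by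
    intro p
    obtain ⟨s, hsc, hs⟩ := (Nat.dvd_prime_pow Nat.prime_two).1
      (Nat.gcd_dvd_right p.natAbs (2 ^ c))
    refine ⟨s, hsc, fun q => ⟨?_, ?_⟩⟩
    · rintro ⟨l, hl⟩
      change (g ^ p) ^ l = g ^ q at hl
      rw [← _root_.zpow_mul, ← orderOf_dvd_sub_iff_zpow_eq_zpow, hc] at hl
      have h1 : ((2 ^ s : ℕ) : ℤ) ∣ p := Int.natCast_dvd.2 (hs ▸ Nat.gcd_dvd_left _ _)
      have h2 : ((2 ^ s : ℕ) : ℤ) ∣ p * l - q :=
        dvd_trans (Int.natCast_dvd_natCast.2 (hs ▸ Nat.gcd_dvd_right _ _)) hl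
      simpa using dvd_sub (h1.mul_right l) h2
    · rintro ⟨l, rfl⟩
      have hb : ((2 ^ s : ℕ) : ℤ) =
          p * p.gcdA (2 ^ c : ℕ) + ((2 ^ c : ℕ) : ℤ) * p.gcdB (2 ^ c : ℕ) := by
        rw [← Int.gcd_eq_gcd_ab, Int.gcd, Int.natAbs_natCast, hs]
      refine mem_zpowers_iff.2 ⟨p.gcdA (2 ^ c : ℕ) * l, ?_⟩
      rw [← _root_.zpow_mul, ← orderOf_dvd_sub_iff_zpow_eq_zpow, hc]
      exact ⟨-p.gcdB (2 ^ c : ℕ) * l, by rw [hb]; ring⟩
  obtain ⟨si, hsi, hi⟩ := key i
  obtain ⟨sj, hsj, hj⟩ := key j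
  obtain ⟨s2, hs2, h2⟩ := key (2 * i)
  have hii := (hi i).1 (mem_zpowers _)
  have hjj := (hj j).1 (mem_zpowers _)
  rcases le_or_gt sj si with h | h
  · exact Or.inl ((hj i).2 (dvd_trans (Int.natCast_dvd_natCast.2 (pow_dvd_pow 2 h)) hii))
  · right
    have he : (g ^ i) ^ 2 = g ^ (2 * i) := by
      rw [← zpow_natCast (g ^ i), ← _root_.zpow_mul, mul_comm]; rfl
    rw [he]
    refine (h2 j).2 (dvd_trans ?_ hjj)
    -- the exponent of `g ^ (2 * i)` is at most one more than that of `g ^ i`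
    have h3 : g ^ ((2 ^ (si + 1) : ℕ) : ℤ) ∈ zpowers (g ^ (2 * i)) := by
      obtain ⟨l, hl⟩ := (hi ((2 ^ si : ℕ) : ℤ)).2 dvd_rfl
      change (g ^ i) ^ l = _ at hl
      refine mem_zpowers_iff.2 ⟨l, ?_⟩
      rw [← he, ← zpow_natCast (g ^ i) 2, ← _root_.zpow_mul, mul_comm _ l, _root_.zpow_mul, hl,
        ← _root_.zpow_mul, pow_succ]
      push_cast
      rfl
    exact dvd_trans ((h2 _).1 h3) (Int.natCast_dvd_natCast.2 (pow_dvd_pow 2 h))

/-- A homocyclic subgroup of exponent at least four of a metacyclic 2-group is centralised modulo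
its squares by every element normalising it whose square lies in it. -/
theorem homocyclic_square (hX : IsPGroup 2 X) (hm : Cfsg.IsMetacyclic X) {T : Subgroup X} {n : ℕ}
    (hn : 2 ≤ n)
    (e : T ≃* Multiplicative (ZMod (2 ^ n)) × Multiplicative (ZMod (2 ^ n)))
    {g : X} (hg : g ∈ normalizer (T : Set X)) (hg2 : g ^ 2 ∈ T) (t : X) (ht : t ∈ T) :
    ∃ u ∈ T, g * t * g⁻¹ = t * u ^ 2 := by
  classical
  have : NeZero (2 ^ n) := ⟨by positivity⟩
  obtain ⟨N, hN, hNc, hQc⟩ := hm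
  have hQab : ∀ u v : X ⧸ N, u * v = v * u :=
    fun u v => (@IsCyclic.isMulCommutative _ _ hQc).is_comm.comm u v
  have hTcomm : ∀ u ∈ T, ∀ v ∈ T, u * v = v * u := fun u hu v hv => by
    have h' : (⟨u, hu⟩ : T) * ⟨v, hv⟩ = ⟨v, hv⟩ * ⟨u, hu⟩ :=
      e.injective (by rw [map_mul, map_mul, mul_comm])
    exact congrArg Subtype.val h'
  have hexp : ∀ u ∈ T, u ^ 2 ^ n = 1 := fun u hu => by
    have h' : (⟨u, hu⟩ : T) ^ 2 ^ n = 1 := e.injective (by
      rw [map_pow, map_one]
      refine Prod.ext ?_ ?_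
      · rw [Prod.pow_fst, Prod.fst_one, ← orderOf_dvd_iff_pow_eq_one]
        exact (_root_.orderOf_dvd_natCard _).trans (by rw [Nat.card_eq_fintype_card]; simp)
      · rw [Prod.pow_snd, Prod.snd_one, ← orderOf_dvd_iff_pow_eq_one]
        exact (_root_.orderOf_dvd_natCard _).trans (by rw [Nat.card_eq_fintype_card]; simp))
    exact congrArg Subtype.val h'
  have hcardT : Nat.card T = 2 ^ n * 2 ^ n := by
    rw [Nat.card_congr e.toEquiv, Nat.card_prod, Nat.card_eq_fintype_card]; simp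
  have : IsCyclic (N ⊓ T : Subgroup X) :=
    isCyclic_of_injective (Subgroup.inclusion inf_le_left) (Subgroup.inclusion_injective _)
  obtain ⟨u₀, hu₀⟩ := IsCyclic.exists_generator (α := (N ⊓ T : Subgroup X))
  set u : X := (u₀ : X) with hu
  have hCu : ∀ x ∈ N ⊓ T, ∃ i : ℤ, x = u ^ i := fun x hx => by
    obtain ⟨i, hi⟩ := mem_zpowers_iff.1 (hu₀ ⟨x, hx⟩)
    exact ⟨i, (congrArg Subtype.val hi).symm⟩
  have huN : u ∈ N := u₀.2.1
  have huT : u ∈ T := u₀.2.2
  let f : T →* X ⧸ N := (QuotientGroup.mk' N).comp T.subtype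
  obtain ⟨q₀, hq₀⟩ := IsCyclic.exists_generator (α := f.range)
  obtain ⟨v₀, hv₀⟩ := q₀.2
  set v : X := (v₀ : X) with hv
  have hvT : v ∈ T := v₀.2
  have hrep : ∀ x ∈ T, ∃ i j : ℤ, x = u ^ i * v ^ j := by
    intro x hx
    obtain ⟨j, hj⟩ := mem_zpowers_iff.1 (hq₀ ⟨f ⟨x, hx⟩, ⟨_, rfl⟩⟩)
    have hj' : (q₀ : X ⧸ N) ^ j = (x : X ⧸ N) := congrArg Subtype.val hj
    rw [← hv₀] at hj'
    change (v : X ⧸ N) ^ j = (x : X ⧸ N) at hj'
    rw [← QuotientGroup.mk_zpow, QuotientGroup.eq] at hj'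
    obtain ⟨i, hi⟩ := hCu ((v ^ j)⁻¹ * x) ⟨hj', T.mul_mem (inv_mem (T.zpow_mem hvT j)) hx⟩
    exact ⟨i, j, by rw [← hi, hTcomm _ (T.mul_mem (inv_mem (T.zpow_mem hvT j)) hx) _
      (T.zpow_mem hvT j), mul_inv_cancel_left]⟩
  -- `T` is the product of `⟨u⟩` and `⟨v⟩`
  have hzf : ∀ (x : X), x ∈ T → ∀ k : ℤ, x ^ ((k : ZMod (2 ^ n)).val) = x ^ k := fun x hx k => by
    rw [← zpow_natCast, ZMod.val_intCast]
    exact (zpow_eq_zpow_emod' _ (hexp x hx)).symm
  let F : ZMod (2 ^ n) × ZMod (2 ^ n) → T :=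
    fun p => ⟨u ^ p.1.val * v ^ p.2.val, mul_mem (pow_mem huT _) (pow_mem hvT _)⟩
  have hFs : Function.Surjective F := fun x => by
    obtain ⟨i, j, hij⟩ := hrep x x.2
    exact ⟨((i : ZMod (2 ^ n)), (j : ZMod (2 ^ n))), Subtype.ext (by
      show u ^ _ * v ^ _ = (x : X)
      rw [hzf u huT, hzf v hvT, hij])⟩
  have hF : Function.Injective F := (hFs.bijective_of_nat_card_le (by
    rw [Nat.card_prod, Nat.card_zmod, hcardT])).1
  have hindep : ∀ i j : ℤ, u ^ i * v ^ j = 1 →
      (((2 ^ n : ℕ) : ℤ) ∣ i ∧ ((2 ^ n : ℕ) : ℤ) ∣ j) := by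
    intro i j h
    have h' : F ((i : ZMod (2 ^ n)), (j : ZMod (2 ^ n))) = F (0, 0) := Subtype.ext (by
      show u ^ _ * v ^ _ = u ^ (0 : ZMod (2 ^ n)).val * v ^ (0 : ZMod (2 ^ n)).val
      rw [hzf u huT, hzf v hvT, h, ZMod.val_zero, pow_zero, pow_zero, one_mul])
    obtain ⟨h1, h2⟩ := Prod.ext_iff.1 (hF h')
    exact ⟨(ZMod.intCast_zmod_eq_zero_iff_dvd _ _).1 h1, (ZMod.intCast_zmod_eq_zero_iff_dvd _ _).1 h2⟩
  have hindep' : ∀ i : ℤ, u ^ i = 1 → ((2 ^ n : ℕ) : ℤ) ∣ i := fun i h =>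
    (hindep i 0 (by rw [h, zpow_zero, one_mul])).1
  have heven2 : ∀ m : ℤ, ((2 ^ n : ℕ) : ℤ) ∣ m → Even m := fun m h => by
    rw [even_iff_two_dvd]
    exact dvd_trans (Int.natCast_dvd_natCast.2 (dvd_pow_self 2 (by omega : n ≠ 0))) h
  -- the action of `g`
  have hgT : ∀ x ∈ T, g * x * g⁻¹ ∈ T := fun x hx => (mem_normalizer_iff.1 hg x).1 hx
  obtain ⟨r, hr⟩ := hCu (g * u * g⁻¹) ⟨hN.conj_mem u huN g, hgT u huT⟩
  obtain ⟨k, hk⟩ : ∃ k : ℤ, g * v * g⁻¹ = v * u ^ k := by
    have hmem : v⁻¹ * (g * v * g⁻¹) ∈ N := by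
      rw [← QuotientGroup.eq, QuotientGroup.mk_mul, QuotientGroup.mk_mul, QuotientGroup.mk_inv,
        hQab (g : X ⧸ N) (v : X ⧸ N), mul_inv_cancel_right]
    obtain ⟨k, hk⟩ := hCu _ ⟨hmem, T.mul_mem (inv_mem hvT) (hgT v hvT)⟩
    exact ⟨k, by rw [← hk, mul_inv_cancel_left]⟩
  have hr' : Odd r := by
    rw [← Int.not_even_iff_odd]
    rintro ⟨l, rfl⟩
    have h0 : (g * u * g⁻¹) ^ 2 ^ (n - 1) = 1 := by
      rw [hr, ← two_mul, _root_.zpow_mul, ← zpow_natCast, ← _root_.zpow_mul, ← _root_.zpow_mul,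
        show (2 : ℤ) * (l * ((2 ^ (n - 1) : ℕ) : ℤ)) = ((2 ^ n : ℕ) : ℤ) * l by
          rw [show 2 ^ n = 2 * 2 ^ (n - 1) by rw [← pow_succ', Nat.sub_add_cancel (by omega)]]
          push_cast; ring,
        _root_.zpow_mul, zpow_natCast, hexp u huT, one_zpow]
    rw [conj_pow, conj_eq_one_iff, ← zpow_natCast] at h0
    have h1 := hindep' _ h0
    rw [Int.natCast_dvd_natCast, Nat.pow_dvd_pow_iff_le_right (by norm_num)] at h1
    omega
  have hkeven : Even k := by
    rw [← Int.not_odd_iff_even]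
    intro hkodd
    have hgu : ∀ i : ℤ, g * u ^ i * g⁻¹ = u ^ (r * i) := fun i => by
      rw [← conj_zpow, hr, _root_.zpow_mul]
    rcases cyclic_dichotomy (Q := X ⧸ N) (hX.to_quotient N) (g : X ⧸ N) (v : X ⧸ N) with h | h
    · obtain ⟨t', ht'⟩ := mem_zpowers_iff.1 h
      rw [← QuotientGroup.mk_zpow, QuotientGroup.eq] at ht'
      set c := (v ^ t')⁻¹ * g with hc
      have hvg : g = v ^ t' * c := by rw [hc, mul_inv_cancel_left]
      have hcu : c * u = u * c := congrArg Subtype.val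
        ((@IsCyclic.isMulCommutative _ _ hNc).is_comm.comm (⟨c, ht'⟩ : N) ⟨u, huN⟩)
      have hcv : c * v * c⁻¹ = v * u ^ k := by
        have h2 : c * v * c⁻¹ = (v ^ t')⁻¹ * (g * v * g⁻¹) * v ^ t' := by rw [hc]; group
        rw [h2, hk, mul_assoc, hTcomm _ (T.mul_mem hvT (T.zpow_mem huT k)) _ (T.zpow_mem hvT t'),
          inv_mul_cancel_left]
      have hc2 : c * c ∈ T := by
        have h2 : c * c = (v ^ t')⁻¹ * (g * (v ^ t')⁻¹ * g⁻¹) * (g ^ 2) := by
          rw [hc, pow_two]; group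
        rw [h2]
        exact T.mul_mem (T.mul_mem (inv_mem (T.zpow_mem hvT t'))
          (hgT _ (inv_mem (T.zpow_mem hvT t')))) hg2
      have hfix : c * c * v = v * (c * c) := hTcomm _ hc2 _ hvT
      have h4 : c * c * v * (c * c)⁻¹ = v * u ^ (2 * k) := by
        calc c * c * v * (c * c)⁻¹ = c * (c * v * c⁻¹) * c⁻¹ := by group
          _ = c * (v * u ^ k) * c⁻¹ := by rw [hcv]
          _ = c * v * c⁻¹ * (c * u ^ k * c⁻¹) := by group
          _ = v * u ^ k * u ^ k := by
              rw [hcv, show c * u ^ k = u ^ k * c from (Commute.zpow_right hcu k).eq,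
                mul_inv_cancel_right]
          _ = _ := by rw [mul_assoc, ← zpow_add, two_mul]
      rw [hfix, mul_inv_cancel_right, left_eq_mul] at h4
      have h5 := hindep' _ h4
      obtain ⟨l, rfl⟩ := hkodd
      have h6 : ((4 : ℕ) : ℤ) ∣ 2 * (2 * l + 1) :=
        dvd_trans (Int.natCast_dvd_natCast.2 (pow_dvd_pow 2 hn)) h5
      omega
    · rw [← QuotientGroup.mk_pow] at h
      obtain ⟨i, hi⟩ := mem_zpowers_iff.1 h
      rw [← QuotientGroup.mk_zpow, QuotientGroup.eq] at hi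
      obtain ⟨l, hl⟩ := hCu _ ⟨hi, T.mul_mem (inv_mem (T.zpow_mem hg2 i)) hvT⟩
      have hv' : v = (g ^ 2) ^ i * u ^ l := by rw [← hl, mul_inv_cancel_left]
      have hcg : g * (g ^ 2) ^ i * g⁻¹ = (g ^ 2) ^ i := by
        rw [((Commute.self_pow g 2).zpow_right i).eq, mul_inv_cancel_right]
      have h2 : g * v * g⁻¹ = (g ^ 2) ^ i * u ^ (r * l) := by
        rw [hv', show g * ((g ^ 2) ^ i * u ^ l) * g⁻¹ = (g * (g ^ 2) ^ i * g⁻¹) * (g * u ^ l * g⁻¹) by
          group, hcg, hgu]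
      rw [hk, hv', mul_assoc, ← zpow_add] at h2
      have h3 : u ^ (l + k - r * l) = 1 := by rw [zpow_sub, mul_left_cancel h2, mul_inv_cancel]
      have h4 := heven2 _ (hindep' _ h3)
      obtain ⟨r', rfl⟩ := hr'
      rw [show l + k - (2 * r' + 1) * l = k + 2 * (-r' * l) by ring, Int.even_add] at h4
      exact (Int.not_even_iff_odd.2 hkodd) (h4.2 (even_two_mul _))
  obtain ⟨i, j, rfl⟩ := hrep t ht
  obtain ⟨r', rfl⟩ := hr'
  obtain ⟨k', rfl⟩ := hkeven
  refine ⟨u ^ (r' * i + k' * j), T.zpow_mem huT _, ?_⟩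
  have hconj : g * (u ^ i * v ^ j) * g⁻¹ = (g * u * g⁻¹) ^ i * (g * v * g⁻¹) ^ j := by
    rw [conj_zpow, conj_zpow]; group
  rw [hconj, hr, hk, Commute.mul_zpow (hTcomm _ hvT _ (T.zpow_mem huT _)), ← _root_.zpow_mul,
    ← _root_.zpow_mul, ← zpow_natCast, ← _root_.zpow_mul,
    hTcomm _ (T.zpow_mem hvT j) _ (T.zpow_mem huT _), ← mul_assoc, ← zpow_add,
    mul_assoc (u ^ i), hTcomm _ (T.zpow_mem hvT j) _ (T.zpow_mem huT _), ← mul_assoc, ← zpow_add]
  congr 2
  push_cast
  ring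

/-- A metacyclic 2-group with a nonabelian subgroup of order eight is dihedral, generalised
quaternion or semidihedral. -/
theorem eight_cases (hX : IsPGroup 2 X) (hm : Cfsg.IsMetacyclic X) {E : Subgroup X}
    (hE : Nat.card E = 8) {x y : X} (hx : x ∈ E) (hy : y ∈ E) (hxy : x * y ≠ y * x) :
    (∃ m : ℕ, Nonempty (X ≃* DihedralGroup m)) ∨ (∃ m : ℕ, Nonempty (X ≃* QuaternionGroup m)) ∨
      Cfsg.IsQuasiDihedral X := by
  classical
  obtain ⟨N, hN, hNc, hQc⟩ := hm
  obtain ⟨a₀, ha₀⟩ := hNc.exists_generator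
  set a : X := (a₀ : X) with ha
  have hNa : ∀ z ∈ N, ∃ i : ℤ, z = a ^ i := fun z hz => by
    obtain ⟨i, hi⟩ := mem_zpowers_iff.1 (ha₀ ⟨z, hz⟩)
    exact ⟨i, (congrArg Subtype.val hi).symm⟩
  obtain ⟨k, hk⟩ := IsPGroup.iff_orderOf.1 hX a
  let C : Subgroup E := N.subgroupOf E
  have hinjC : Function.Injective (fun z : C => (⟨((z : E) : X), Subgroup.mem_subgroupOf.1 z.2⟩ : N)) :=
    fun z w h => Subtype.ext (Subtype.ext (congrArg (fun q : N => (q : X)) h))
  have hCc : IsCyclic C :=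
    isCyclic_of_injective (MonoidHom.mk'
      (fun z : C => (⟨((z : E) : X), Subgroup.mem_subgroupOf.1 z.2⟩ : N)) fun _ _ => rfl) hinjC
  have hEC : IsCyclic (E ⧸ C) := by
    have := subgroup_metacyclic (X := X) ⟨N, hN, hNc, hQc⟩ E
    refine isCyclic_of_injective (QuotientGroup.map C N E.subtype fun _ h => h) ?_
    refine (injective_iff_map_eq_one _).2 fun q hq => ?_
    obtain ⟨z, rfl⟩ := QuotientGroup.mk_surjective q
    have hq' : (((z : E) : X) : X ⧸ N) = 1 := hq
    exact (QuotientGroup.eq_one_iff z).2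
      (Subgroup.mem_subgroupOf.2 ((QuotientGroup.eq_one_iff (z : X)).1 hq'))
  have hncomm : ¬ IsMulCommutative E := fun h => hxy
    (congrArg Subtype.val (h.is_comm.comm ⟨x, hx⟩ ⟨y, hy⟩))
  have hcard : Nat.card C = 4 := by
    have hd : Nat.card C ∣ 2 ^ 3 := by
      have := Subgroup.card_subgroup_dvd_card C; rw [hE] at this; exact this
    obtain ⟨l, hl, hl'⟩ := (Nat.dvd_prime_pow Nat.prime_two).1 hd
    interval_cases l
    · exfalso
      refine hncomm ?_
      have hC : C = ⊥ := Subgroup.card_eq_one.1 (by simpa using hl')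
      have : IsCyclic E := isCyclic_of_injective (QuotientGroup.mk' C)
        ((QuotientGroup.mk' C).ker_eq_bot_iff.1 (by rw [QuotientGroup.ker_mk', hC]))
      exact IsCyclic.isMulCommutative
    · exfalso
      refine hncomm ?_
      have hC2 : Nat.card C = 2 := by simpa using hl'
      have hcen : C ≤ center E := by
        intro c hc
        rw [mem_center_iff]
        intro z
        obtain ⟨w, hw⟩ := Nat.card_eq_two_iff' (1 : C) |>.1 hC2
        by_cases hc1 : c = 1
        · simp [hc1]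
        have hcw : (⟨c, hc⟩ : C) = w := hw.2 _ (fun h => hc1 (congrArg Subtype.val h))
        have hzc : z * c * z⁻¹ ∈ C := (inferInstance : C.Normal).conj_mem c hc z
        have hzw : (⟨z * c * z⁻¹, hzc⟩ : C) = w := hw.2 _ (fun h => hc1 (by
          have := congrArg Subtype.val h
          simpa using this))
        have := congrArg Subtype.val (hzw.trans hcw.symm)
        exact mul_inv_eq_iff_eq_mul.1 this
      exact MonoidHom.isMulCommutative_of_isCyclic_of_ker_le_center (QuotientGroup.mk' C)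
        (by rw [QuotientGroup.ker_mk']; exact hcen)
    · simpa using hl'
    · exfalso
      refine hncomm ?_
      have : C = ⊤ := Subgroup.eq_top_of_card_eq _ (by rw [hl', hE]; rfl)
      have h' : IsCyclic (⊤ : Subgroup E) := this ▸ hCc
      have : IsCyclic E := Subgroup.topEquiv.isCyclic.1 h'
      exact IsCyclic.isMulCommutative
  obtain ⟨r₀, hr₀⟩ := hCc.exists_generator
  set r : E := (r₀ : E) with hr
  have hro : orderOf r = 4 := by
    rw [hr, Subgroup.orderOf_coe, orderOf_eq_card_of_forall_mem_zpowers hr₀, hcard]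
  obtain ⟨t, ht⟩ : ∃ t : E, t ∉ C := by
    by_contra! h
    have : C = ⊤ := eq_top_iff.2 fun z _ => h z
    rw [this, Subgroup.card_top, hE] at hcard
    omega
  have hidx : C.index = 2 := by
    have := C.card_mul_index; rw [hcard, hE] at this; omega
  have hrC : r ∈ C := r₀.2
  have htr : t * r * t⁻¹ = r⁻¹ := by
    have hmem : t * r * t⁻¹ ∈ C := (inferInstance : C.Normal).conj_mem r hrC t
    obtain ⟨i, hi⟩ := mem_zpowers_iff.1 (hr₀ ⟨_, hmem⟩)
    have hi' : r ^ i = t * r * t⁻¹ := congrArg Subtype.val hi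
    have hord : orderOf (r ^ i) = 4 := by rw [hi', ← MulAut.conj_apply, MulEquiv.orderOf_eq, hro]
    have hmod : r ^ i = r ^ (i % 4) := by
      have := zpow_mod_orderOf r i; rw [hro] at this; exact this.symm
    have h4 : r ^ (4 : ℕ) = 1 := hro ▸ pow_orderOf_eq_one r
    have h40 : (0 : ℤ) ≤ i % 4 := Int.emod_nonneg _ (by norm_num)
    have h44 : i % 4 < 4 := Int.emod_lt_of_pos _ (by norm_num)
    rw [hmod] at hi' hord
    generalize i % 4 = j at *
    interval_cases j
    · simp at hord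
    · exfalso
      rw [zpow_one] at hi'
      refine hncomm ⟨⟨fun u v => ?_⟩⟩
      have hc : Commute t r := (mul_inv_eq_iff_eq_mul.1 hi'.symm)
      have hrep : ∀ z : E, ∃ (p : ℕ) (q : ℤ), z = t ^ p * r ^ q := by
        intro z
        by_cases hz : z ∈ C
        · obtain ⟨q, hq⟩ := mem_zpowers_iff.1 (hr₀ ⟨z, hz⟩)
          exact ⟨0, q, by rw [pow_zero, one_mul]; exact (congrArg Subtype.val hq).symm⟩
        · have h2 : t⁻¹ * z ∈ C :=
            (Subgroup.mul_mem_iff_of_index_two hidx).2 (by simp [ht, hz])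
          obtain ⟨q, hq⟩ := mem_zpowers_iff.1 (hr₀ ⟨_, h2⟩)
          exact ⟨1, q, by
            rw [pow_one, show r ^ q = t⁻¹ * z from congrArg Subtype.val hq, mul_inv_cancel_left]⟩
      obtain ⟨p, q, rfl⟩ := hrep u
      obtain ⟨p', q', rfl⟩ := hrep v
      exact (Commute.mul_left
        (Commute.mul_right (Commute.pow_pow (Commute.refl t) p p')
          ((hc.zpow_right q').pow_left p))
        (Commute.mul_right (((hc.zpow_right q).pow_left p').symm)
          (Commute.zpow_zpow (Commute.refl r) q q'))).eq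
    · exfalso
      have h2 : orderOf (r ^ (2 : ℤ)) ∣ 2 := orderOf_dvd_of_pow_eq_one (by
        rw [← zpow_natCast, ← _root_.zpow_mul]
        exact_mod_cast h4)
      rw [hord] at h2; norm_num at h2
    · rw [← hi', eq_inv_iff_mul_eq_one, ← zpow_add_one]
      exact_mod_cast h4
  -- `t ^ 2` is central in `E`
  have ht2C : t * t ∈ C := C.mul_self_mem_of_index_two hidx t
  obtain ⟨q, hq⟩ := mem_zpowers_iff.1 (hr₀ ⟨_, ht2C⟩)
  have hq' : r ^ q = t * t := congrArg Subtype.val hq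
  have hq2 : r ^ (2 * q) = 1 := by
    have h1 : t * r ^ q * t⁻¹ = r ^ q := by rw [hq']; group
    rw [← conj_zpow, htr, inv_zpow, inv_eq_iff_mul_eq_one, ← zpow_add, ← two_mul] at h1
    exact h1
  -- coordinates in `N`
  obtain ⟨p, hp⟩ := hNa (r : X) (Subgroup.mem_subgroupOf.1 hrC)
  have hk2 : 2 ≤ k := by
    have h1 : orderOf (r : X) ∣ orderOf a := orderOf_dvd_of_mem_zpowers ⟨p, hp.symm⟩
    rw [Subgroup.orderOf_coe, hro, hk, show 4 = 2 ^ 2 from rfl,
      Nat.pow_dvd_pow_iff_le_right (by norm_num)] at h1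
    exact h1
  obtain ⟨s, hs⟩ := hNa ((t : X) * a * (t : X)⁻¹) (hN.conj_mem a a₀.2 _)
  have hordz : ∀ i : ℤ, a ^ i = 1 ↔ ((2 ^ k : ℕ) : ℤ) ∣ i := fun i => by
    rw [← orderOf_dvd_iff_zpow_eq_one, hk]
  have hsconj : ∀ i : ℤ, (t : X) * a ^ i * (t : X)⁻¹ = a ^ (s * i) := fun i => by
    rw [← conj_zpow, hs, _root_.zpow_mul]
  obtain ⟨m, hm⟩ : ∃ m, k = m + 2 := ⟨k - 2, by omega⟩
  -- `p` is an odd multiple of `2 ^ m`
  obtain ⟨p', hp', hp'o⟩ : ∃ p' : ℤ, p = ((2 ^ m : ℕ) : ℤ) * p' ∧ Odd p' := by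
    have hr4 : a ^ (4 * p) = 1 := by
      rw [mul_comm, _root_.zpow_mul, ← hp, ← Subgroup.coe_zpow]
      have h4 : r ^ (4 : ℕ) = 1 := hro ▸ pow_orderOf_eq_one r
      rw [show (4 : ℤ) = ((4 : ℕ) : ℤ) from rfl, zpow_natCast, h4, Subgroup.coe_one]
    rw [hordz, hm, show 2 ^ (m + 2) = 4 * 2 ^ m by ring] at hr4
    push_cast at hr4
    obtain ⟨p', hp'⟩ := (mul_dvd_mul_iff_left (by norm_num : (4 : ℤ) ≠ 0)).1 hr4
    refine ⟨p', by push_cast; exact hp', ?_⟩
    rw [← Int.not_even_iff_odd]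
    rintro ⟨l, rfl⟩
    have h2 : r ^ (2 : ℕ) = 1 := Subtype.ext (by
      rw [Subgroup.coe_pow, Subgroup.coe_one, hp, ← zpow_natCast, ← _root_.zpow_mul, hordz, hm, hp']
      push_cast
      exact ⟨l, by ring⟩)
    have := orderOf_dvd_of_pow_eq_one h2
    rw [hro] at this; norm_num at this
  -- the squares
  have ht2 : (t : X) * t = a ^ (p * q) := by
    rw [_root_.zpow_mul, ← hp, ← Subgroup.coe_zpow, hq', Subgroup.coe_mul]
  have hs1 : ((4 : ℤ) ∣ s + 1) := by
    have h1 : a ^ (s * p) = a ^ (-p) := by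
      rw [← hsconj, zpow_neg, ← hp]
      have := congrArg Subtype.val htr
      simpa using this
    rw [← orderOf_dvd_sub_iff_zpow_eq_zpow, hk, hm, hp', show 2 ^ (m + 2) = 4 * 2 ^ m by ring] at h1
    push_cast at h1
    rw [show s * ((2 : ℤ) ^ m * p') - -((2 : ℤ) ^ m * p') = (s + 1) * p' * 2 ^ m by ring] at h1
    have h2 := Int.dvd_of_mul_dvd_mul_right (by positivity) h1
    have hcop : IsCoprime (4 : ℤ) p' := by
      have : IsCoprime (2 : ℤ) p' := by
        rw [Int.isCoprime_iff_gcd_eq_one]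
        exact Nat.coprime_two_left.2 (Int.natAbs_odd.2 hp'o)
      simpa using this.mul_left this
    exact hcop.dvd_of_dvd_mul_right h2
  have hss : ((2 ^ k : ℕ) : ℤ) ∣ s * s - 1 := by
    rw [← hordz, zpow_sub, zpow_one, mul_inv_eq_one, ← hsconj, ← hs]
    calc (t : X) * ((t : X) * a * (t : X)⁻¹) * (t : X)⁻¹
        = ((t : X) * t) * a * ((t : X) * t)⁻¹ := by group
      _ = a := by
          rw [ht2, ((Commute.refl a).zpow_left (p * q)).eq, mul_inv_cancel_right]
  have hs3 : ((2 ^ (k - 1) : ℕ) : ℤ) ∣ s + 1 := by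
    obtain ⟨w, hw⟩ := hs1
    obtain ⟨z, hz⟩ := hss
    have hodd : IsCoprime ((2 ^ (k - 1) : ℕ) : ℤ) (2 * w - 1) := by
      push_cast
      refine IsCoprime.pow_left ?_
      exact ⟨w, -1, by ring⟩
    refine hodd.dvd_of_dvd_mul_right ⟨z, ?_⟩
    have h2k : ((2 ^ k : ℕ) : ℤ) = 2 * ((2 ^ (k - 1) : ℕ) : ℤ) := by
      rw [show 2 ^ k = 2 * 2 ^ (k - 1) by rw [← pow_succ', Nat.sub_add_cancel (by omega)]]
      push_cast; ring
    rw [h2k] at hz
    have hsw : s = 4 * w - 1 := by linarith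
    subst hsw
    linarith
  -- `t` generates modulo `N`
  have htN : (t : X) ∉ N := fun h => ht (Subgroup.mem_subgroupOf.2 h)
  have hQtop : ∀ z : X, ∃ i j : ℤ, z = a ^ i * (t : X) ^ j := by
    have hgenQ : ∀ z : X, (z : X ⧸ N) ∈ zpowers ((t : X) : X ⧸ N) := by
      intro z
      rcases cyclic_dichotomy (Q := X ⧸ N) (hX.to_quotient N) (z : X ⧸ N) ((t : X) : X ⧸ N) with
        h | h
      · exact h
      · exfalso
        obtain ⟨l, hl⟩ := mem_zpowers_iff.1 h
        rw [← QuotientGroup.mk_pow, ← QuotientGroup.mk_zpow, QuotientGroup.eq] at hl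
        obtain ⟨i, hi⟩ := hNa _ hl
        obtain ⟨s', hs'⟩ := hNa (z ^ l * a * (z ^ l)⁻¹) (hN.conj_mem a a₀.2 _)
        have h2 : (z ^ 2) ^ l = z ^ l * z ^ l := by
          rw [← zpow_natCast z 2, ← _root_.zpow_mul, mul_comm, _root_.zpow_mul, zpow_natCast, pow_two]
        have hta : (t : X) * a * (t : X)⁻¹ = a ^ (s' * s') := by
          have he : (t : X) = (z ^ 2) ^ l * a ^ i := by rw [← hi, mul_inv_cancel_left]
          rw [he, h2]
          calc z ^ l * z ^ l * a ^ i * a * (z ^ l * z ^ l * a ^ i)⁻¹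
              = z ^ l * (z ^ l * a * (z ^ l)⁻¹) * (z ^ l)⁻¹ := by group
            _ = z ^ l * a ^ s' * (z ^ l)⁻¹ := by rw [hs']
            _ = (z ^ l * a * (z ^ l)⁻¹) ^ s' := conj_zpow.symm
            _ = _ := by rw [hs', _root_.zpow_mul]
        rw [hs, ← orderOf_dvd_sub_iff_zpow_eq_zpow, hk] at hta
        have h4 : (4 : ℤ) ∣ s - s' * s' :=
          dvd_trans (by rw [hm]; push_cast; exact ⟨2 ^ m, by ring⟩) hta
        have hmod : (4 : ℤ) ∣ s' * s' + 1 := by simpa [add_comm] using dvd_sub hs1 h4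
        obtain ⟨d, rfl | rfl⟩ := Int.even_or_odd' s'
        · obtain ⟨e', he'⟩ := hmod
          rw [show 2 * d * (2 * d) = 4 * (d * d) by ring] at he'
          omega
        · obtain ⟨e', he'⟩ := hmod
          rw [show (2 * d + 1) * (2 * d + 1) = 4 * (d * d + d) + 1 by ring] at he'
          omega
    intro z
    obtain ⟨j, hj⟩ := mem_zpowers_iff.1 (hgenQ z)
    rw [← QuotientGroup.mk_zpow, QuotientGroup.eq] at hj
    have h1 := hN.conj_mem _ hj ((t : X) ^ j)
    obtain ⟨i, hi⟩ := hNa _ h1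
    exact ⟨i, j, by rw [← hi]; group⟩
  have hNz : N = zpowers a := le_antisymm
    (fun z hz => by obtain ⟨i, hi⟩ := hNa z hz; exact ⟨i, hi.symm⟩) (zpowers_le.2 a₀.2)
  have hcardX : Nat.card X = 2 * 2 ^ k := by
    have hidxN : N.index = 2 := by
      rw [Subgroup.index_eq_two_iff]
      refine ⟨(t : X), fun z => ?_⟩
      obtain ⟨i, j, rfl⟩ := hQtop z
      have ht2' : (t : X) * t ∈ N := by rw [ht2]; exact zpow_mem a₀.2 _
      rcases Int.even_or_odd' j with ⟨l, rfl | rfl⟩
      · right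
        have h1 : a ^ i * (t : X) ^ (2 * l) ∈ N :=
          mul_mem (zpow_mem a₀.2 _) (by rw [_root_.zpow_mul, zpow_two]; exact zpow_mem ht2' l)
        exact ⟨h1, fun h => htN ((N.mul_mem_cancel_left h1).1 h)⟩
      · left
        have h1 : a ^ i * (t : X) ^ (2 * l) ∈ N :=
          mul_mem (zpow_mem a₀.2 _) (by rw [_root_.zpow_mul, zpow_two]; exact zpow_mem ht2' l)
        rw [zpow_add_one, ← mul_assoc]
        refine ⟨?_, fun h => htN ((N.mul_mem_cancel_left h1).1 h)⟩
        rw [mul_assoc]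
        exact mul_mem h1 ht2'
    rw [← N.index_mul_card, hidxN, hNz, Nat.card_zpowers, hk]
  have hnota : (t : X) ∉ zpowers a := hNz ▸ htN
  -- the two possibilities for `t ^ 2`
  have hpq : (t : X) * t = 1 ∨ (t : X) * t = a ^ ((2 ^ (k - 1) : ℕ) : ℤ) := by
    rw [ht2]
    have h4 : ((4 : ℕ) : ℤ) ∣ 2 * q := by rw [← hro, orderOf_dvd_iff_zpow_eq_one, hq2]
    obtain ⟨l, hl⟩ := h4
    have hql : q = 2 * l := by push_cast at hl; linarith
    obtain ⟨p'', rfl⟩ := hp'o
    rcases Int.even_or_odd' l with ⟨l', rfl | rfl⟩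
    · left
      rw [hordz, hql, hp', hm]
      push_cast
      exact ⟨(2 * p'' + 1) * l', by ring⟩
    · right
      rw [← orderOf_dvd_sub_iff_zpow_eq_zpow, hk, hql, hp', hm, show m + 2 - 1 = m + 1 by omega]
      push_cast
      exact ⟨2 * p'' * l' + p'' + l', by ring⟩
  obtain ⟨w, hw⟩ := hs3
  have hh : ((2 ^ k : ℕ) : ℤ) = 2 * ((2 ^ (k - 1) : ℕ) : ℤ) := by
    rw [show 2 ^ k = 2 * 2 ^ (k - 1) by rw [← pow_succ', Nat.sub_add_cancel (by omega)]]
    push_cast; ring
  rcases Int.even_or_odd' w with ⟨w', rfl | rfl⟩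
  · -- inversion
    have hinv : (t : X) * a * (t : X)⁻¹ = a⁻¹ := by
      rw [hs, ← zpow_neg_one, ← orderOf_dvd_sub_iff_zpow_eq_zpow, hk, hh]
      exact ⟨w', by linarith⟩
    rcases hpq with h | h
    · left
      have : NeZero (2 ^ k) := ⟨by positivity⟩
      exact ⟨2 ^ k, Recognition.nonempty_dihedral hk h hinv hnota hcardX⟩
    · right; left
      have : NeZero (2 ^ (k - 1)) := ⟨by positivity⟩
      refine ⟨2 ^ (k - 1), Recognition.nonempty_quaternion (a := a) (b := (t : X)) ?_ ?_ hinv hnota ?_⟩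
      · rw [hk, ← pow_succ', Nat.sub_add_cancel (by omega)]
      · rw [h, zpow_natCast]
      · rw [hcardX, show 2 ^ k = 2 * 2 ^ (k - 1) by
          rw [← pow_succ', Nat.sub_add_cancel (by omega)]]
        ring
  · -- semidihedral
    right; right
    have hk3 : 3 ≤ k := by
      by_contra h
      have hk' : k = 2 := by omega
      obtain ⟨c, hc⟩ := hs1
      rw [hk'] at hw
      norm_num at hw
      omega
    have hsemi : a ^ s = a ^ (2 ^ (k - 1) - 1 : ℕ) := by
      rw [← zpow_natCast, ← orderOf_dvd_sub_iff_zpow_eq_zpow, hk, hh,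
        Nat.cast_sub Nat.one_le_two_pow]
      exact ⟨w', by push_cast at hw ⊢; linarith⟩
    refine ⟨k, hk3, by rw [hcardX, pow_succ'], a, ?_⟩
    rcases hpq with h | h
    · refine ⟨(t : X), hk, orderOf_eq_prime (by rw [pow_two, h]) (fun e => htN (e ▸ N.one_mem)), ?_⟩
      rw [hs, hsemi]
    · refine ⟨a * (t : X), hk, orderOf_eq_prime ?_ (fun e => ?_), ?_⟩
      · rw [pow_two, show a * (t : X) * (a * t) = a * ((t : X) * a * (t : X)⁻¹) * ((t : X) * t) by group,
          hs, h, ← zpow_one_add, ← zpow_add, hordz, hh]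
        exact ⟨w' + 1, by linarith⟩
      · exact htN ((N.mul_mem_cancel_left a₀.2).1 (e ▸ N.one_mem))
      · rw [show a * (t : X) * a * (a * (t : X))⁻¹ = a * ((t : X) * a * (t : X)⁻¹) * a⁻¹ by group, hs,
          ← hsemi, ((Commute.refl a).zpow_right s).eq, mul_inv_cancel_right]

end Structure

end Cfsg.Agent.Lib.TwoGroups.MetacyclicTwo
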