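import Cfsg.Agent.Lib.TwoGroups.MetacyclicTwo
import Cfsg.Agent.Lib.FusionSystem.Essential
import Cfsg.Agent.Lib.FusionSystem.Normal

/-!
In a saturated fusion system over a 2-group a strongly closed metacyclic subgroup that is neither
dihedral, semidihedral nor quaternion is normal.
-/

set_option autoImplicit false
set_option maxHeartbeats 400000
set_option linter.style.haveILetI false

namespace Cfsg.Agent.Lib.TwoGroups.MetacyclicFusion

open scoped Pointwise
open Cfsg Cfsg.FusionSystem Cfsg.Agent.Lib.FS Cfsg.Agent.Lib.TwoGroups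

variable {Ω : Type*} [Group Ω] {S : Subgroup Ω} [Finite S] {F : Cfsg.FusionSystem S}

/-- The automorphisms of odd order of a group of automorphisms decide whether it is a 2-group. -/
theorem isPGroup_of_odd {X : Type*} [Group X] [Finite X] (K : Subgroup (MulAut X))
    (h : ∀ φ ∈ K, Odd (orderOf φ) → φ = 1) : IsPGroup 2 K := by
  have : Finite (MulAut X) := Finite.of_injective (fun φ => (φ : X → X)) DFunLike.coe_injective
  rintro ⟨φ, hφ⟩
  obtain ⟨a, m, hm, hd⟩ := Nat.exists_eq_two_pow_mul_odd (orderOf_pos φ).ne'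
  refine ⟨a, Subtype.ext (h _ (K.pow_mem hφ _) ?_)⟩
  show Odd (orderOf (φ ^ 2 ^ a))
  rw [orderOf_pow' φ (pow_ne_zero _ two_ne_zero), hd, Nat.gcd_eq_right (dvd_mul_right _ _),
    Nat.mul_div_cancel_left _ (by positivity)]
  exact hm

theorem le_of_essential (hS : IsPGroup 2 S) (hF : F.IsSaturated 2) {P : Subgroup Ω}
    (hP : F.StronglyClosed P) (hm : Cfsg.IsMetacyclic ↥P)
    (hd : ¬ ∃ m : ℕ, Nonempty (↥P ≃* DihedralGroup m))
    (hq : ¬ ∃ m : ℕ, Nonempty (↥P ≃* QuaternionGroup m)) (hsd : ¬ Cfsg.IsQuasiDihedral ↥P)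
    {R : Subgroup Ω} (hR : F.IsEssential 2 R) : P ≤ R := by
  classical
  by_contra hPR
  have hRS : R ≤ S := hR.2.1.1
  have hrad := radical_of_essential hS hF hR
  have hC : centralizerIn S R ≤ R := hR.1.2 R (isConj_refl F hRS)
  haveI := finite_sub hRS
  haveI := finite_sub hP.1
  have hP2 : IsPGroup 2 P := isPGroup_of_le hS hP.1
  have hR2 : IsPGroup 2 R := isPGroup_of_le hS hRS
  have hPn := stronglyClosed_le_normalizer hP
  have hinn : ¬ autInducedBy P R ≤ Inn R := fun h =>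
    hPR (le_of_autInducedBy_le_inn hS hRS hP.1 hPn hC h)
  -- an element of `P` normalising `R` with square in `R`
  obtain ⟨x, hxP, hxN, hxR, hx2⟩ : ∃ x, x ∈ P ∧ x ∈ Subgroup.normalizer (R : Set Ω) ∧ x ∉ R ∧
      x ^ 2 ∈ R := by
    obtain ⟨α, hα, hαI⟩ := SetLike.not_le_iff_exists.1 hinn
    obtain ⟨g, hg, hgα⟩ := mem_autInducedBy.1 hα
    have hgN : g ∈ Subgroup.normalizer (R : Set Ω) :=
      mem_normalizer_of_conj_mem fun r hr => by
        have := (α ⟨r, hr⟩).2
        rwa [hgα] at this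
    have hgR : g ∉ R := fun h => hαI ⟨⟨g, h⟩, MulEquiv.ext fun r => Subtype.ext (hgα r).symm⟩
    have hex : ∃ i : ℕ, g ^ 2 ^ i ∈ R := by
      obtain ⟨i, hi⟩ := hS ⟨g, hP.1 hg⟩
      exact ⟨i, by rw [show g ^ 2 ^ i = 1 from congrArg Subtype.val hi]; exact R.one_mem⟩
    obtain ⟨j, hj⟩ : ∃ j, Nat.find hex = j + 1 := by
      refine ⟨Nat.find hex - 1, (Nat.sub_add_cancel ?_).symm⟩
      by_contra h
      have h0 : Nat.find hex = 0 := by omega
      have := Nat.find_spec hex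
      rw [h0, pow_zero, pow_one] at this
      exact hgR this
    refine ⟨g ^ 2 ^ j, P.pow_mem hg _, Subgroup.pow_mem _ hgN _,
      Nat.find_min hex (by omega), ?_⟩
    rw [← pow_mul, ← pow_succ, ← hj]
    exact Nat.find_spec hex
  set T := R ⊓ P with hT
  have hTfin : Finite T := finite_sub (inf_le_left.trans hRS)
  have hxS : x ∈ S := hP.1 hxP
  have hxnotInn : ∀ α : MulAut R, (∀ r : R, ((α r : R) : Ω) = x * r * x⁻¹) → α ∉ Inn R :=
    fun α hα hαI => by
      have hauto : α = R.normalizerMonoidHom ⟨x, hxN⟩ := MulEquiv.ext fun r => Subtype.ext (hα r)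
      exact not_inn_of_not_mem hC hRS ⟨hxS, hxN⟩ hxR (hauto ▸ hαI)
  let αx : MulAut R := R.normalizerMonoidHom ⟨x, hxN⟩
  have hαx : ∀ r : R, ((αx r : R) : Ω) = x * r * x⁻¹ := fun _ => rfl
  have hαxF : αx ∈ F.autGroup R :=
    autInducedBy_le_autGroup F hRS (mem_autInducedBy.2 ⟨x, hxS, hαx⟩)
  have hαxI := hxnotInn αx hαx
  -- the stabiliser of the series `R ≥ T`
  have hstabP : ∀ α ∈ F.autGroup R, ∀ r : R, (r : Ω) ∈ P ↔ ((α r : R) : Ω) ∈ P :=
    fun α hα r => autGroup_mem_iff_of_stronglyClosed hP hRS hα r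
  let K1 : Subgroup (MulAut R) :=
    layerStab R (fun _ : Unit => P) (fun _ : Unit => R) ⊓ F.autGroup R
  have hK1n : ∀ α ∈ F.autGroup R, ∀ k ∈ K1, α * k * α⁻¹ ∈ K1 := fun α hα k hk =>
    ⟨layerStab_conj_mem (fun _ => hstabP α hα) (fun _ r => ⟨fun _ => (α r).2, fun _ => r.2⟩) hk.1,
      (F.autGroup R).mul_mem ((F.autGroup R).mul_mem hα hk.2) ((F.autGroup R).inv_mem hα)⟩
  have hcommP : ∀ r : R, (r : Ω)⁻¹ * (x * r * x⁻¹) ∈ P := fun r =>
    comm_mem_of_le_normalizer (hPn (hRS r.2)) hxP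
  have hxK1 : αx ∈ K1 :=
    ⟨fun _ => ⟨fun r => hstabP αx hαxF r, fun r _ => by rw [hαx]; exact hcommP r⟩, hαxF⟩
  obtain ⟨φ, hφK, hφodd, hφ1⟩ : ∃ φ ∈ K1, Odd (orderOf φ) ∧ φ ≠ 1 := by
    by_contra hno
    exact hαxI (le_inn_of_radical hrad inf_le_right hK1n
      (isPGroup_of_odd K1 fun φ h1 h2 => by_contra fun h => hno ⟨φ, h1, h2, h⟩) hxK1)
  -- restriction to `T`
  let TR : Subgroup R := P.subgroupOf R
  have hmapTR : ∀ α ∈ F.autGroup R, TR.map α.toMonoidHom = TR := by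
    intro α hα
    ext r
    obtain ⟨r', rfl⟩ := α.surjective r
    refine ⟨fun ⟨w, hw, hwe⟩ => ?_, fun h => ⟨r', ?_, rfl⟩⟩
    · obtain rfl : w = r' := α.injective hwe
      exact Subgroup.mem_subgroupOf.2 ((hstabP α hα w).1 (Subgroup.mem_subgroupOf.1 hw))
    · exact Subgroup.mem_subgroupOf.2 ((hstabP α hα r').2 (Subgroup.mem_subgroupOf.1 h))
  haveI hTRn : TR.Normal := ⟨fun w hw r => Subgroup.mem_subgroupOf.2
    (conj_mem_of_normalizer (hPn (hRS r.2)) (Subgroup.mem_subgroupOf.1 hw))⟩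
  have hrestrict : ∀ ψ ∈ K1, Odd (orderOf ψ) → (∀ w ∈ TR, ψ w = w) → ψ = 1 :=
    fun ψ hψ hodd hfix => LA5.HSub.Core.eq_one_of_mod ψ hR2 (Nat.coprime_two_right.2 hodd)
      (N := TR) (fun u => by
        have h := (hψ.1 ()).2 u u.2
        refine (Subgroup.Normal.mem_comm_iff hTRn).1 (Subgroup.mem_subgroupOf.2 ?_)
        simpa using h) (Or.inl hfix)
  let res : ∀ α, α ∈ F.autGroup R → MulAut TR := fun α hα =>
    (α.subgroupMap TR).trans (MulEquiv.subgroupCongr (hmapTR α hα))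
  have hres : ∀ α hα (w : TR), ((res α hα w : TR) : R) = α w := fun _ _ _ => rfl
  have hresodd : ∀ α hα, Odd (orderOf α) → Odd (orderOf (res α hα)) := by
    intro α hα hodd
    refine hodd.of_dvd_nat (orderOf_dvd_of_pow_eq_one ?_)
    have hpow : ∀ (k : ℕ) (w : TR), (((res α hα) ^ k) w : R) = (α ^ k) w := by
      intro k w
      induction k with
      | zero => rfl
      | succ k ih => rw [pow_succ', MulAut.mul_apply, hres α hα, ih, pow_succ', MulAut.mul_apply]
    exact MulEquiv.ext fun w => Subtype.ext (by rw [hpow, pow_orderOf_eq_one]; rfl)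
  -- `T` as a subgroup of `P`
  let TP : Subgroup P := R.subgroupOf P
  let eT : TR ≃* TP :=
    { toFun := fun w => ⟨⟨((w : R) : Ω), Subgroup.mem_subgroupOf.1 w.2⟩,
        Subgroup.mem_subgroupOf.2 (w : R).2⟩
      invFun := fun w => ⟨⟨((w : P) : Ω), Subgroup.mem_subgroupOf.1 w.2⟩,
        Subgroup.mem_subgroupOf.2 (w : P).2⟩
      left_inv := fun _ => rfl
      right_inv := fun _ => rfl
      map_mul' := fun _ _ => rfl }
  have hTm : Cfsg.IsMetacyclic ↥TP := MetacyclicTwo.subgroup_metacyclic hm TP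
  let φT : MulAut TP := MulAut.congr eT (res φ hφK.2)
  have hφTodd : Odd (orderOf φT) := by
    rw [MulEquiv.orderOf_eq]; exact hresodd φ hφK.2 hφodd
  have hφT1 : φT ≠ 1 := fun h => by
    have h' : res φ hφK.2 = 1 := (MulAut.congr eT).injective (h.trans (map_one _).symm)
    refine hφ1 (hrestrict φ hφK hφodd fun w hw => ?_)
    have := congrArg (fun f : MulAut TR => ((f ⟨w, hw⟩ : TR) : R)) h'
    simpa [hres] using this
  rcases MetacyclicTwo.aut_cases (hP2.to_subgroup TP) hTm hφTodd hφT1 with ⟨⟨e⟩⟩ | ⟨n, hn, ⟨e⟩⟩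
  · -- quaternion intersection
    have hnc : ∃ u v : TP, u * v ≠ v * u := by
      by_contra! h
      exact Recognition.quaternion_two_not_comm ⟨⟨fun u v => e.symm.injective (by
        rw [map_mul, map_mul]; exact h _ _)⟩⟩
    obtain ⟨u, v, huv⟩ := hnc
    rcases MetacyclicTwo.eight_cases hP2 hm (E := TP)
        (by rw [Nat.card_congr e.toEquiv, Recognition.natCard_quaternion])
        u.2 v.2 (fun h => huv (Subtype.ext h)) with h | h | h
    · exact hd h
    · exact hq h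
    · exact hsd h
  · -- homocyclic intersection
    let SQ : Subgroup Ω := Subgroup.closure {z | ∃ t ∈ T, z = t ^ 2}
    have hSQT : SQ ≤ T := (Subgroup.closure_le _).2 fun z ⟨t, ht, hz⟩ => hz ▸ T.pow_mem ht 2
    have hstabT : ∀ α ∈ F.autGroup R, ∀ r : R, (r : Ω) ∈ T ↔ ((α r : R) : Ω) ∈ T := fun α hα r =>
      ⟨fun h => ⟨(α r).2, (hstabP α hα r).1 h.2⟩, fun h => ⟨r.2, (hstabP α hα r).2 h.2⟩⟩
    have hstabSQ : ∀ α ∈ F.autGroup R, ∀ r : R, (r : Ω) ∈ SQ → ((α r : R) : Ω) ∈ SQ := by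
      intro α hα r hr
      have hle : SQ ≤ ((SQ.subgroupOf R).comap α.toMonoidHom).map R.subtype := by
        refine (Subgroup.closure_le _).2 ?_
        rintro z ⟨t, ht, rfl⟩
        refine ⟨⟨t, ht.1⟩ ^ 2, ?_, rfl⟩
        show α (⟨t, ht.1⟩ ^ 2) ∈ SQ.subgroupOf R
        rw [map_pow, Subgroup.mem_subgroupOf, Subgroup.coe_pow]
        exact Subgroup.subset_closure ⟨_, (hstabT α hα ⟨t, ht.1⟩).1 ht, rfl⟩
      obtain ⟨w, hw, hwe⟩ := hle hr
      rw [show w = r from Subtype.ext hwe] at hw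
      exact hw
    have hstabSQ' : ∀ α ∈ F.autGroup R, ∀ r : R, (r : Ω) ∈ SQ ↔ ((α r : R) : Ω) ∈ SQ :=
      fun α hα r => ⟨hstabSQ α hα r, fun h => by
        have := hstabSQ α⁻¹ ((F.autGroup R).inv_mem hα) _ h
        rwa [MulAut.inv_apply_self] at this⟩
    let A : Bool → Subgroup Ω := fun b => bif b then P else SQ
    let B : Bool → Subgroup Ω := fun b => bif b then R else T
    have hA : ∀ α ∈ F.autGroup R, ∀ i, ∀ r : R, (r : Ω) ∈ A i ↔ ((α r : R) : Ω) ∈ A i := by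
      intro α hα i r
      cases i
      · exact hstabSQ' α hα r
      · exact hstabP α hα r
    have hB : ∀ α ∈ F.autGroup R, ∀ i, ∀ r : R, (r : Ω) ∈ B i ↔ ((α r : R) : Ω) ∈ B i := by
      intro α hα i r
      cases i
      · exact hstabT α hα r
      · exact ⟨fun _ => (α r).2, fun _ => r.2⟩
    let K2 : Subgroup (MulAut R) := layerStab R A B ⊓ F.autGroup R
    have hK2n : ∀ α ∈ F.autGroup R, ∀ k ∈ K2, α * k * α⁻¹ ∈ K2 := fun α hα k hk =>
      ⟨layerStab_conj_mem (hA α hα) (hB α hα) hk.1, (F.autGroup R).mul_mem ((F.autGroup R).mul_mem hα hk.2) ((F.autGroup R).inv_mem hα)⟩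
    have hK2p : IsPGroup 2 K2 := by
      refine isPGroup_of_odd K2 fun ψ hψ hodd => ?_
      have hψ1 : ψ ∈ K1 := ⟨fun _ => hψ.1 true, hψ.2⟩
      refine hrestrict ψ hψ1 hodd fun w hw => ?_
      have hmoves : ∀ u : TR, res ψ hψ.2 u * u⁻¹ ∈ frattini TR := by
        intro u
        have h := (hψ.1 false).2 (u : R) ⟨(u : R).2, Subgroup.mem_subgroupOf.1 u.2⟩
        have hle : SQ ≤ (frattini TR).map (R.subtype.comp TR.subtype) := by
          refine (Subgroup.closure_le _).2 ?_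
          rintro z ⟨t, ht, rfl⟩
          exact ⟨⟨⟨t, ht.1⟩, Subgroup.mem_subgroupOf.2 ht.2⟩ ^ 2,
            PGroups.pow_mem_frattini (hR2.to_subgroup TR) _, rfl⟩
        obtain ⟨z, hz, hze⟩ := hle h
        have : u⁻¹ * res ψ hψ.2 u ∈ frattini TR := by
          rw [show u⁻¹ * res ψ hψ.2 u = z from Subtype.ext (Subtype.ext hze.symm)]
          exact hz
        exact ((inferInstance : (frattini TR).Normal).mem_comm_iff).1 this
      have h1 := LA5.HSub.Core.eq_one_of_mod (res ψ hψ.2) (hR2.to_subgroup TR)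
        (Nat.coprime_two_right.2 (hresodd ψ hψ.2 hodd)) (N := frattini TR) hmoves (Or.inr le_rfl)
      have := congrArg (fun f : MulAut TR => ((f ⟨w, hw⟩ : TR) : R)) h1
      simpa [hres] using this
    by_cases htriv : ∀ t ∈ T, t⁻¹ * (x * t * x⁻¹) ∈ SQ
    · refine hαxI (le_inn_of_radical hrad inf_le_right hK2n hK2p ⟨fun i => ⟨hA αx hαxF i, ?_⟩, hαxF⟩)
      intro r hr
      rw [hαx]
      cases i
      · exact htriv r hr
      · exact hcommP r
    have hxTP : (⟨x, hxP⟩ : P) ∈ Subgroup.normalizer (TP : Set P) := by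
      refine Subgroup.mem_normalizer_iff.2 fun z => ?_
      show (z : Ω) ∈ R ↔ x * (z : Ω) * x⁻¹ ∈ R
      exact Subgroup.mem_normalizer_iff.1 hxN z
    have hx2TP : (⟨x, hxP⟩ : P) ^ 2 ∈ TP := Subgroup.mem_subgroupOf.2 hx2
    apply htriv
    intro t ht
    rcases Nat.lt_or_ge n 2 with hn1 | hn2
    · -- four-group: otherwise a dihedral subgroup of order eight
      obtain rfl : n = 1 := by omega
      have hcardT : Nat.card TP = 4 := by
        rw [Nat.card_congr e.toEquiv, Nat.card_prod, Nat.card_eq_fintype_card]; simp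
      by_contra hne
      set tp : P := ⟨t, ht.2⟩
      have htTP : tp ∈ TP := Subgroup.mem_subgroupOf.2 ht.1
      have hne' : (⟨x, hxP⟩ : P) * tp ≠ tp * ⟨x, hxP⟩ := fun h => hne (by
        rw [show x * t = t * x from congrArg Subtype.val h, mul_inv_cancel_right, inv_mul_cancel]
        exact SQ.one_mem)
      have hxnT : (⟨x, hxP⟩ : P) ∉ TP := fun h => hxR (Subgroup.mem_subgroupOf.1 h)
      let E : Subgroup P := TP ⊔ Subgroup.zpowers ⟨x, hxP⟩
      have hxE : (⟨x, hxP⟩ : P) ∈ E := Subgroup.mem_sup_right (Subgroup.mem_zpowers _)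
      haveI : (TP.subgroupOf E).Normal := by
        rw [Subgroup.normal_subgroupOf_iff_le_normalizer le_sup_left]
        exact sup_le Subgroup.le_normalizer (Subgroup.zpowers_le.2 hxTP)
      have hidx : (TP.subgroupOf E).index = 2 := by
        rw [Subgroup.index_eq_two_iff]
        refine ⟨⟨⟨x, hxP⟩, hxE⟩, fun z => ?_⟩
        have hmul : ∀ b : P, b ∈ TP → ((b * ⟨x, hxP⟩ ∈ TP) ↔ False) := fun b hb =>
          ⟨fun h => hxnT ((TP.mul_mem_cancel_left hb).1 h), False.elim⟩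
        obtain ⟨b, hb, c, hc, hbc⟩ : ∃ b ∈ TP, ∃ c ∈ Subgroup.zpowers (⟨x, hxP⟩ : P), b * c = z := by
          have hzE := z.2
          have := (Subgroup.coe_mul_of_right_le_normalizer_left TP (Subgroup.zpowers (⟨x, hxP⟩ : P))
            (Subgroup.zpowers_le.2 hxTP))
          have hz' : (z : P) ∈ ((TP : Set P) * (Subgroup.zpowers (⟨x, hxP⟩ : P) : Set P)) :=
            by rw [← this]; exact hzE
          obtain ⟨b, hb, c, hc, hbc⟩ := hz'
          exact ⟨b, hb, c, hc, hbc⟩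
        obtain ⟨k, rfl⟩ := Subgroup.mem_zpowers_iff.1 hc
        simp only [Subgroup.mem_subgroupOf, Subgroup.coe_mul, ← hbc]
        have heven : ∀ l : ℤ, (⟨x, hxP⟩ : P) ^ (2 * l) ∈ TP := fun l => by
          rw [_root_.zpow_mul, zpow_two, ← pow_two]; exact TP.zpow_mem hx2TP l
        rcases Int.even_or_odd' k with ⟨l, rfl | rfl⟩
        · right
          exact ⟨TP.mul_mem hb (heven l), (hmul _ (TP.mul_mem hb (heven l))).1⟩
        · left
          rw [zpow_add_one, ← mul_assoc]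
          refine ⟨?_, (hmul _ (TP.mul_mem hb (heven l))).1⟩
          rw [mul_assoc, ← pow_two]
          exact TP.mul_mem (TP.mul_mem hb (heven l)) hx2TP
      have hE8 : Nat.card E = 8 := by
        rw [← (TP.subgroupOf E).index_mul_card, hidx,
          Nat.card_congr (Subgroup.subgroupOfEquivOfLe (le_sup_left : TP ≤ E)).toEquiv, hcardT]
      rcases MetacyclicTwo.eight_cases hP2 hm hE8 hxE (Subgroup.mem_sup_left htTP) hne' with h | h | h
      · exact hd h
      · exact hq h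
      · exact hsd h
    · obtain ⟨u, hu, hue⟩ := MetacyclicTwo.homocyclic_square hP2 hm hn2 e hxTP hx2TP
        ⟨t, ht.2⟩ (Subgroup.mem_subgroupOf.2 ht.1)
      have hue' : x * t * x⁻¹ = t * (u : Ω) ^ 2 := congrArg Subtype.val hue
      rw [hue', inv_mul_cancel_left]
      exact Subgroup.subset_closure ⟨u, ⟨Subgroup.mem_subgroupOf.1 hu, u.2⟩, rfl⟩

theorem isNormal_of_metacyclic (hS : IsPGroup 2 S) (hF : F.IsSaturated 2) {P : Subgroup Ω}
    (hP : F.StronglyClosed P) (hm : Cfsg.IsMetacyclic ↥P)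
    (hd : ¬ ∃ m : ℕ, Nonempty (↥P ≃* DihedralGroup m))
    (hq : ¬ ∃ m : ℕ, Nonempty (↥P ≃* QuaternionGroup m)) (hsd : ¬ Cfsg.IsQuasiDihedral ↥P) :
    F.IsNormal P := by
  refine (isNormal_iff_essential hS hF).2 fun R hR => ?_
  have hRS : R ≤ S := by
    rcases hR with rfl | h
    · exact le_rfl
    · exact h.2.1.1
  refine ⟨?_, fun α hα => ?_⟩
  · rcases hR with rfl | h
    · exact hP.1
    · exact le_of_essential hS hF hP hm hd hq hsd h
  · have hiff := autGroup_mem_iff_of_stronglyClosed hP hRS hα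
    ext y
    obtain ⟨z, rfl⟩ := α.surjective y
    refine ⟨fun ⟨w, hw, hwe⟩ => ?_, fun hz => ⟨z, Subgroup.mem_subgroupOf.2 ((hiff z).2
      (Subgroup.mem_subgroupOf.1 hz)), rfl⟩⟩
    rw [α.injective hwe] at hw
    exact Subgroup.mem_subgroupOf.2 ((hiff z).1 (Subgroup.mem_subgroupOf.1 hw))

/-- Fusion over metacyclic 2-groups outside the exceptional families is inner. -/
theorem eq_inner (hS : IsPGroup 2 S) (hF : F.IsSaturated 2) (hm : Cfsg.IsMetacyclic ↥S)
    (hh : ∀ n : ℕ, 0 < n →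
      IsEmpty (↥S ≃* Multiplicative (ZMod (2 ^ n)) × Multiplicative (ZMod (2 ^ n))))
    (hd : ¬ ∃ m : ℕ, Nonempty (↥S ≃* DihedralGroup m))
    (hq : ¬ ∃ m : ℕ, Nonempty (↥S ≃* QuaternionGroup m)) (hsd : ¬ Cfsg.IsQuasiDihedral ↥S) :
    F = innerFusionSystem S := by
  classical
  have hAut : IsPGroup 2 (MulAut S) := OddAut.isPGroup_mulAut fun φ hφ => by
    by_contra h1
    rcases MetacyclicTwo.aut_cases hS hm hφ h1 with h | ⟨n, hn, ⟨e⟩⟩
    · exact hq ⟨2, h⟩
    · exact (hh n hn).false e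
  have hn := isNormal_of_metacyclic hS hF
    (P := S) ⟨le_rfl, fun R _ φ hφ r => apply_mem hφ r⟩ hm hd hq hsd
  refine eq_inner_of_pGroup hS hF fun P hP => ?_
  rintro ⟨α, hα⟩
  haveI := finite_sub hP
  obtain ⟨φ, hφ, -, he⟩ := exists_hom_of_aut hP hα
  obtain ⟨ψ, hψ, hψP, hψS⟩ := hn.2 P φ hφ
  have hsup : P ⊔ S = S := sup_eq_right.2 hP
  -- the automorphism of `S`
  let f : S →* S :=
    MonoidHom.mk' (fun s => ⟨ψ (Subgroup.inclusion le_sup_right s), apply_mem hψ _⟩)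
      fun a b => Subtype.ext (by simp [map_mul])
  have hf : Function.Injective f := fun a b h => Subgroup.inclusion_injective _
    (F.injective_of_mem hψ (congrArg Subtype.val h))
  let β : MulAut S := MulEquiv.ofBijective f ⟨hf, Finite.surjective_of_injective hf⟩
  have hres : ∀ (k : ℕ) (z : P), (((β ^ k) ⟨z, hP z.2⟩ : S) : Ω) = (((α ^ k) z : P) : Ω) := by
    intro k z
    induction k with
    | zero => rfl
    | succ k ih =>
      rw [pow_succ', MulAut.mul_apply, pow_succ', MulAut.mul_apply]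
      have h1 : (β ^ k) ⟨z, hP z.2⟩ = ⟨((α ^ k) z : P), hP ((α ^ k) z).2⟩ := Subtype.ext ih
      rw [h1, ← he, ← hψP]
      rfl
  obtain ⟨k, hk⟩ := hAut β
  refine ⟨k, Subtype.ext (MulEquiv.ext fun z => Subtype.ext ?_)⟩
  rw [SubmonoidClass.coe_pow, ← hres, hk]
  rfl

end Cfsg.Agent.Lib.TwoGroups.MetacyclicFusion
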