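import Mathlib
import Cfsg.Prelude.Def_Transfer
import Cfsg.Agent.Lib.Fusion.Alperin
import Cfsg.Agent.Lib.Transfer.PResidual

/-!
Fusion invariants tested on centric subgroups whose automorphism group is not a `p`-group, and
normal subgroups cut out by a fusion invariant subgroup of a Sylow subgroup.
-/

set_option autoImplicit false

namespace Cfsg.Agent.Lib.TwoGroups.FusionCentric

open Subgroup Cfsg.Agent.Lib.Fusion.Alperin
open scoped commutatorElement

variable {G : Type*} [Group G] [Finite G] {p : ℕ} [Fact p.Prime]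

/-- A property of the elements of `P` is preserved by `G`-fusion if it is preserved by `P` and by
the normalisers of the centric subgroups whose automorphism group is not a `p`-group. -/
theorem fusion_invariant_centric (P : Sylow p G) (Φ : G → Prop)
    (hP : ∀ s ∈ P, ∀ x ∈ P, Φ x → Φ (s * x * s⁻¹))
    (hR : ∀ R : Subgroup G, R ≤ P → (P : Subgroup G) ⊓ centralizer (R : Set G) ≤ R →
      ¬ IsPGroup p (MulAut R) → ∀ n ∈ normalizer (R : Set G), ∀ x ∈ R, Φ x → Φ (n * x * n⁻¹))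
    (x g : G) (hx : x ∈ P) (hgx : g * x * g⁻¹ ∈ P) (h : Φ x) : Φ (g * x * g⁻¹) := by
  refine fusion_invariant P Φ ?_ x g hx hgx h
  rintro R ⟨hRP, hfn, -⟩ n hn a ha hΦ
  -- `T = R * C_P(R)` is a Sylow subgroup of the normal subgroup `R * C_G(R)` of `N_G(R)`
  set C := centralizer (R : Set G) with hC
  set N := normalizer (R : Set G) with hN
  set T := R ⊔ ((P : Subgroup G) ⊓ C) with hT
  set K := R ⊔ C with hK
  have hCN : C ≤ N := centralizer_le_normalizer (R : Set G)
  have hRN : R ≤ N := le_normalizer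
  have hTP : T ≤ P := sup_le hRP inf_le_left
  have hTN : T ≤ N := sup_le hRN (inf_le_right.trans hCN)
  have hTK : T ≤ K := sup_le le_sup_left (inf_le_right.trans le_sup_right)
  have hKN : K ≤ N := sup_le hRN hCN
  have hmemK : ∀ w ∈ K, ∃ r ∈ R, ∃ c ∈ C, r * c = w := by
    intro w hw
    have hCR : C ≤ normalizer (R : Set G) := hCN
    rw [hK, ← SetLike.mem_coe, Subgroup.coe_mul_of_right_le_normalizer_left R C hCR,
      Set.mem_mul] at hw
    obtain ⟨r, hr, c, hc, rfl⟩ := hw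
    exact ⟨r, hr, c, hc, rfl⟩
  -- `T` is the part of `K` in `P`
  have hTeq : (P : Subgroup G) ⊓ K ≤ T := by
    rintro w ⟨hwP, hwK⟩
    obtain ⟨r, hr, c, hc, rfl⟩ := hmemK w hwK
    refine mul_mem (mem_sup_left hr) (mem_sup_right ⟨?_, hc⟩)
    exact ((P : Subgroup G).mul_mem_cancel_left (hRP hr)).1 hwP
  -- maximality of `T` among the `p`-subgroups of `K`
  have hTmax : ∀ U : Subgroup G, IsPGroup p U → U ≤ K → T ≤ U → U = T := by
    intro U hU hUK hTU
    obtain ⟨m, hm, hmU⟩ := exists_conj_le_of_maximal (P.2.to_le inf_le_left)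
      (inf_le_right (a := (P : Subgroup G))) hfn hU (hUK.trans hKN)
    refine (eq_of_le_of_card_ge hTU ?_).symm
    rw [← card_conjS m U]
    refine card_le_of_le ((le_inf (hmU.trans inf_le_left) ?_).trans hTeq)
    rintro w ⟨u, hu, rfl⟩
    obtain ⟨r, hr, c, hc, rfl⟩ := hmemK u (hUK hu)
    show m * (r * c) * m⁻¹ ∈ K
    have h1 : m * r * m⁻¹ ∈ R := (mem_normalizer_iff.1 hm r).1 hr
    have h2 : m * c * m⁻¹ ∈ C := by
      intro y hy
      have hy' : m⁻¹ * y * m ∈ R := (mem_normalizer_iff''.1 hm y).1 hy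
      have := hc _ hy'
      calc y * (m * c * m⁻¹) = m * (m⁻¹ * y * m * c) * m⁻¹ := by group
        _ = m * (c * (m⁻¹ * y * m)) * m⁻¹ := by rw [this]
        _ = m * c * m⁻¹ * y := by group
    rw [show m * (r * c) * m⁻¹ = (m * r * m⁻¹) * (m * c * m⁻¹) by group]
    exact mul_mem (mem_sup_left h1) (mem_sup_right h2)
  -- Frattini
  have hnK : conjS n T ≤ K := by
    rintro w ⟨u, hu, rfl⟩
    obtain ⟨r, hr, c, hc, rfl⟩ := hmemK u (hTK hu)
    show n * (r * c) * n⁻¹ ∈ K
    have h1 : n * r * n⁻¹ ∈ R := (mem_normalizer_iff.1 hn r).1 hr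
    have h2 : n * c * n⁻¹ ∈ C := by
      intro y hy
      have hy' : n⁻¹ * y * n ∈ R := (mem_normalizer_iff''.1 hn y).1 hy
      have := hc _ hy'
      calc y * (n * c * n⁻¹) = n * (n⁻¹ * y * n * c) * n⁻¹ := by group
        _ = n * (c * (n⁻¹ * y * n)) * n⁻¹ := by rw [this]
        _ = n * c * n⁻¹ * y := by group
    rw [show n * (r * c) * n⁻¹ = (n * r * n⁻¹) * (n * c * n⁻¹) by group]
    exact mul_mem (mem_sup_left h1) (mem_sup_right h2)
  obtain ⟨k, hk, hkT⟩ := exists_conj_le_of_maximal (P.2.to_le hTP) hTK hTmax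
    ((P.2.to_le hTP).map _) hnK
  change conjS k (conjS n T) ≤ T at hkT
  rw [← conjS_mul] at hkT
  have hnT : k * n ∈ normalizer (T : Set G) :=
    mem_normalizer_of_conjS_eq (eq_of_le_of_card_ge hkT (card_conjS _ _).ge)
  have hnR : k * n ∈ N := mul_mem (hKN hk) hn
  obtain ⟨r, hr, c, hc, hrc⟩ := hmemK k⁻¹ (inv_mem hk)
  have hb : k * n * a * (k * n)⁻¹ ∈ R := (mem_normalizer_iff.1 hnR a).1 ha
  have hcb := hc _ hb
  have hval : n * a * n⁻¹ = r * (k * n * a * (k * n)⁻¹) * r⁻¹ := by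
    calc n * a * n⁻¹ = k⁻¹ * (k * n * a * (k * n)⁻¹) * k⁻¹⁻¹ := by group
      _ = r * (c * (k * n * a * (k * n)⁻¹)) * c⁻¹ * r⁻¹ := by rw [← hrc]; group
      _ = r * (k * n * a * (k * n)⁻¹) * r⁻¹ := by rw [← hcb]; group
  rw [hval]
  refine hP r (hRP hr) _ (hRP hb) ?_
  set m := k * n with hm
  have hTC : (P : Subgroup G) ⊓ centralizer (T : Set G) ≤ T := fun w hw =>
    mem_sup_right ⟨hw.1, fun y hy => hw.2 y (mem_sup_left hy)⟩
  by_cases hA : IsPGroup p (MulAut T)
  swap
  · exact hR T hTP hTC hA m hnT a (mem_sup_left ha) hΦ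
  -- the automorphisms induced on `T` form a `p`-group
  set H := normalizer (T : Set G) ⊓ N with hH
  set S₀ := (P : Subgroup G) ⊓ N with hS₀
  have hS₀T : S₀ ≤ normalizer (T : Set G) := by
    intro s hs
    apply mem_normalizer_of_conjS_eq
    refine eq_of_le_of_card_ge ?_ (card_conjS s T).ge
    rintro w ⟨u, hu, rfl⟩
    show s * u * s⁻¹ ∈ T
    refine hTeq (Subgroup.mem_inf.2 ⟨mul_mem (mul_mem hs.1 (hTP hu)) (inv_mem hs.1), ?_⟩)
    obtain ⟨r, hr, c, hc, rfl⟩ := hmemK u (hTK hu)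
    have h1 : s * r * s⁻¹ ∈ R := (mem_normalizer_iff.1 hs.2 r).1 hr
    have h2 : s * c * s⁻¹ ∈ C := by
      intro y hy
      have hy' : s⁻¹ * y * s ∈ R := (mem_normalizer_iff''.1 hs.2 y).1 hy
      have := hc _ hy'
      calc y * (s * c * s⁻¹) = s * (s⁻¹ * y * s * c) * s⁻¹ := by group
        _ = s * (c * (s⁻¹ * y * s)) * s⁻¹ := by rw [this]
        _ = s * c * s⁻¹ * y := by group
    rw [show s * (r * c) * s⁻¹ = (s * r * s⁻¹) * (s * c * s⁻¹) by group]
    exact mul_mem (mem_sup_left h1) (mem_sup_right h2)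
  let φ : H →* MulAut T :=
    (T.normalizerMonoidHom).comp (Subgroup.inclusion (inf_le_left : H ≤ normalizer (T : Set G)))
  -- the image of `S₀` is everything
  obtain ⟨Q, hQ⟩ : ∃ Q : Sylow p H, (Q : Subgroup H) = S₀.subgroupOf H := by
    obtain ⟨Q, hQ⟩ := ((P.2.to_le inf_le_left : IsPGroup p S₀).comap_subtype (K := H)).exists_le_sylow
    refine ⟨Q, le_antisymm ?_ hQ⟩
    have hmap := hfn ((Q : Subgroup H).map H.subtype) (Q.2.map _)
      ((map_subtype_le _).trans inf_le_right) (fun s hs => ⟨⟨s, hS₀T hs, hs.2⟩,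
        hQ (mem_comap.2 hs), rfl⟩)
    intro q hq
    exact mem_comap.2 (hmap.le ⟨q, hq, rfl⟩)
  have hrange : IsPGroup p φ.range := fun u => by
    obtain ⟨i, hi⟩ := hA (u : MulAut T)
    exact ⟨i, Subtype.ext (by rw [SubmonoidClass.coe_pow]; exact hi)⟩
  have htop : (Q : Subgroup H).map φ.rangeRestrict = ⊤ := by
    set M := (Q : Subgroup H).map φ.rangeRestrict with hM
    have hdvd : M.index ∣ (Q : Subgroup H).index :=
      Subgroup.index_map_dvd _ φ.rangeRestrict_surjective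
    rw [← Subgroup.index_eq_one]
    obtain ⟨i, hi⟩ := hrange.index M
    refine Nat.eq_one_of_dvd_coprimes ?_ (dvd_refl _) hdvd
    rw [hi]
    exact ((Fact.out : p.Prime).coprime_iff_not_dvd.2 Q.not_dvd_index).pow_left i
  obtain ⟨q, hq, hqm⟩ : φ.rangeRestrict ⟨m, hnT, hnR⟩ ∈ (Q : Subgroup H).map φ.rangeRestrict :=
    htop ▸ mem_top _
  rw [hQ] at hq
  have heq : φ q = φ ⟨m, hnT, hnR⟩ := congrArg Subtype.val hqm
  have h3 : (q : G) * a * (q : G)⁻¹ = m * a * m⁻¹ :=
    congrArg Subtype.val (DFunLike.congr_fun heq (⟨a, mem_sup_left ha⟩ : T))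
  rw [← h3]
  exact hP q hq.1 a (hRP ha) hΦ

/-- A normal subgroup `M` of a Sylow subgroup with abelian quotient, whose cosets are preserved by
fusion, is the trace of a normal subgroup with isomorphic quotient. -/
theorem exists_normal_of_invariant (P : Sylow p G) (M : Subgroup G) (hMP : M ≤ P)
    (h : ∀ x ∈ P, ∀ g : G, g * x * g⁻¹ ∈ P → x⁻¹ * (g * x * g⁻¹) ∈ M) :
    ∃ K : Subgroup G, K.Normal ∧ (P : Subgroup G) ⊓ K = M ∧ K.index = M.relIndex P ∧
      ∀ u : G, (orderOf u).Coprime p → u ∈ K := by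
  classical
  set N₀ := commutator G ⊔ M with hN₀
  have hnorm : N₀.Normal := Subgroup.Normal.of_commutator_le G le_sup_left
  have hfoc : commutator G ⊓ (P : Subgroup G) ≤ M := by
    rw [Subgroup.commutator_inf_eq_focalSubgroup, Subgroup.focalSubgroup_def, Subgroup.closure_le]
    rintro z ⟨hz, x, hx, u, rfl⟩
    have h1 : u * x⁻¹ * u⁻¹ ∈ P := by
      have : u * x⁻¹ * u⁻¹ = x⁻¹ * ⁅x, u⁆ := by rw [commutatorElement_def]; group
      rw [this]
      exact mul_mem (inv_mem hx) hz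
    have h2 := h x⁻¹ (inv_mem hx) u h1
    rw [inv_inv] at h2
    rw [show ⁅x, u⁆ = x * (u * x⁻¹ * u⁻¹) by rw [commutatorElement_def]; group]
    exact h2
  have hinf : (P : Subgroup G) ⊓ N₀ ≤ M := by
    rintro w ⟨hwP, hwN⟩
    obtain ⟨c, hc, m, hm, rfl⟩ := (mem_sup_of_normal_left (s := commutator G)).1 hwN
    exact mul_mem (hfoc ⟨hc, ((P : Subgroup G).mul_mem_cancel_right (hMP hm)).1 hwP⟩) hm
  have hab : ∀ a b : G ⧸ N₀, a * b = b * a := by
    intro a b
    obtain ⟨a, rfl⟩ := QuotientGroup.mk_surjective a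
    obtain ⟨b, rfl⟩ := QuotientGroup.mk_surjective b
    rw [← QuotientGroup.mk_mul, ← QuotientGroup.mk_mul, QuotientGroup.eq]
    have hmem : ⁅b⁻¹, a⁻¹⁆ ∈ commutator G :=
      commutator_mem_commutator (mem_top _) (mem_top _)
    have : (a * b)⁻¹ * (b * a) = ⁅b⁻¹, a⁻¹⁆ := by rw [commutatorElement_def]; group
    rw [this]
    exact mem_sup_left hmem
  have hpos : Nat.card (G ⧸ N₀) ≠ 0 := Nat.card_pos.ne'
  obtain ⟨l, m, hm, hcard⟩ :=
    Nat.exists_eq_pow_mul_and_not_dvd hpos p (Fact.out : p.Prime).ne_one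
  let f : G →* G ⧸ N₀ :=
    MonoidHom.mk' (fun g => (QuotientGroup.mk g : G ⧸ N₀) ^ m) fun a b => by
      rw [QuotientGroup.mk_mul, Commute.mul_pow (hab _ _)]
  have himage : ∀ g : G, f g ^ p ^ l = 1 := fun g => by
    show ((QuotientGroup.mk g : G ⧸ N₀) ^ m) ^ p ^ l = 1
    rw [← pow_mul, mul_comm, ← hcard, pow_card_eq_one']
  have hker : (P : Subgroup G) ⊓ f.ker = M := by
    apply le_antisymm
    · rintro w ⟨hwP, hwK⟩
      obtain ⟨j, hj⟩ := P.2 ⟨w, hwP⟩
      have h1 : (QuotientGroup.mk w : G ⧸ N₀) ^ p ^ j = 1 := by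
        rw [← QuotientGroup.mk_pow,
          show w ^ p ^ j = 1 from congrArg Subtype.val hj, QuotientGroup.mk_one]
      have h2 : (QuotientGroup.mk w : G ⧸ N₀) ^ m = 1 := hwK
      have h3 := pow_gcd_eq_one.2 ⟨h1, h2⟩
      rw [show Nat.gcd (p ^ j) m = 1 from
        ((Fact.out : p.Prime).coprime_iff_not_dvd.2 hm).pow_left j, pow_one,
        QuotientGroup.eq_one_iff] at h3
      exact hinf ⟨hwP, h3⟩
    · intro w hw
      refine ⟨hMP hw, ?_⟩
      show (QuotientGroup.mk w : G ⧸ N₀) ^ m = 1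
      rw [(QuotientGroup.eq_one_iff w).2 (mem_sup_right hw), one_pow]
  have hO : pResidual p G ≤ f.ker := by
    refine Transfer.PResidual.pResidual_le_iff.2 fun g hg => ?_
    have h1 : f g ^ orderOf g = 1 := by rw [← map_pow, pow_orderOf_eq_one, map_one]
    have h3 := pow_gcd_eq_one.2 ⟨h1, himage g⟩
    rw [show Nat.gcd (orderOf g) (p ^ l) = 1 from Nat.Coprime.pow_right l hg, pow_one] at h3
    exact h3
  refine ⟨f.ker, inferInstance, hker, ?_,
    fun u hu => hO (Transfer.PResidual.mem_pResidual hu)⟩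
  have htop : f.ker ⊔ (P : Subgroup G) = ⊤ :=
    top_le_iff.1 ((Transfer.PResidual.sup_sylow_eq_top P).ge.trans (sup_le_sup_right hO _))
  have h1 : f.ker.index = f.ker.relIndex (P : Subgroup G) := by
    rw [← Subgroup.relIndex_top_right, ← htop, sup_comm, Subgroup.relIndex_sup_right]
  rw [h1, ← hker, Subgroup.inf_relIndex_left]

/-- The restriction to the Sylow subgroups of the group `K` found above. -/
theorem sylow_subgroup_equiv (P : Sylow p G) (K : Subgroup G) [K.Normal] (Q : Sylow p K) :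
    Nonempty ((Q : Subgroup K) ≃* ((P : Subgroup G) ⊓ K : Subgroup G)) := by
  set R : Subgroup K := (P : Subgroup G).subgroupOf K with hR
  have hRp : IsPGroup p R := P.2.comap_subtype
  obtain ⟨R', hR'⟩ := hRp.exists_le_sylow
  have hRR : (R' : Subgroup K) = R := by
    refine (eq_of_le_of_card_ge hR' ?_).symm
    obtain ⟨P', hP'⟩ := ((R'.2).map K.subtype).exists_le_sylow
    obtain ⟨g, hg⟩ := MulAction.exists_smul_eq G P' P
    have hle : ((R' : Subgroup K).map K.subtype).map (MulAut.conj g).toMonoidHom ≤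
        (P : Subgroup G) ⊓ K := by
      rintro w ⟨u, ⟨u', hu', rfl⟩, rfl⟩
      refine ⟨?_, Subgroup.Normal.conj_mem inferInstance _ u'.2 g⟩
      rw [← hg]
      exact ⟨u', hP' ⟨u', hu', rfl⟩, rfl⟩
    calc Nat.card (R' : Subgroup K)
        = Nat.card (((R' : Subgroup K).map K.subtype).map (MulAut.conj g).toMonoidHom) := by
          rw [Subgroup.card_map_of_injective (MulAut.conj g).injective,
            Subgroup.card_map_of_injective K.subtype_injective]
      _ ≤ Nat.card ((P : Subgroup G) ⊓ K : Subgroup G) := card_le_of_le hle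
      _ = Nat.card R := by
          rw [hR, ← Nat.card_congr (Subgroup.subgroupOfEquivOfLe inf_le_right).toEquiv,
            Subgroup.inf_subgroupOf_right]
  exact ⟨(Q.equiv R').trans ((MulEquiv.subgroupCongr (hRR.trans
    (Subgroup.inf_subgroupOf_right _ K).symm)).trans
      (Subgroup.subgroupOfEquivOfLe inf_le_right))⟩

end Cfsg.Agent.Lib.TwoGroups.FusionCentric
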