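import Mathlib

/-!
Counting the conjugacy classes of elements with a given property.
-/

set_option autoImplicit false

namespace Cfsg.Agent.Lib.TwoGroups.Classes

variable {G : Type*} [Group G] {P : G → Prop}

theorem natCard_classes_eq_one (a : G) (ha : P a) (hall : ∀ t, P t → IsConj a t) :
    Nat.card {C : ConjClasses G // ∃ t : G, P t ∧ ConjClasses.mk t = C} = 1 := by
  have h : {C : ConjClasses G | ∃ t : G, P t ∧ ConjClasses.mk t = C} = {ConjClasses.mk a} := by
    ext C
    simp only [Set.mem_setOf_eq, Set.mem_singleton_iff]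
    constructor
    · rintro ⟨t, ht, rfl⟩
      exact (ConjClasses.mk_eq_mk_iff_isConj.2 (hall t ht)).symm
    · rintro rfl
      exact ⟨a, ha, rfl⟩
  show Nat.card ↥{C : ConjClasses G | ∃ t : G, P t ∧ ConjClasses.mk t = C} = 1
  rw [Nat.card_coe_set_eq, h, Set.ncard_singleton]

theorem natCard_classes_eq_two (a b : G) (ha : P a) (hb : P b) (hab : ¬ IsConj a b)
    (hall : ∀ t, P t → IsConj a t ∨ IsConj b t) :
    Nat.card {C : ConjClasses G // ∃ t : G, P t ∧ ConjClasses.mk t = C} = 2 := by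
  have h : {C : ConjClasses G | ∃ t : G, P t ∧ ConjClasses.mk t = C} =
      {ConjClasses.mk a, ConjClasses.mk b} := by
    ext C
    simp only [Set.mem_setOf_eq, Set.mem_singleton_iff, Set.mem_insert_iff]
    constructor
    · rintro ⟨t, ht, rfl⟩
      exact (hall t ht).imp (fun h => (ConjClasses.mk_eq_mk_iff_isConj.2 h).symm)
        (fun h => (ConjClasses.mk_eq_mk_iff_isConj.2 h).symm)
    · rintro (rfl | rfl)
      exacts [⟨a, ha, rfl⟩, ⟨b, hb, rfl⟩]
  show Nat.card ↥{C : ConjClasses G | ∃ t : G, P t ∧ ConjClasses.mk t = C} = 2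
  rw [Nat.card_coe_set_eq, h, Set.ncard_pair fun e => hab (ConjClasses.mk_eq_mk_iff_isConj.1 e)]

theorem natCard_classes_eq_three (a b c : G) (ha : P a) (hb : P b) (hc : P c)
    (hab : ¬ IsConj a b) (hac : ¬ IsConj a c) (hbc : ¬ IsConj b c)
    (hall : ∀ t, P t → IsConj a t ∨ IsConj b t ∨ IsConj c t) :
    Nat.card {C : ConjClasses G // ∃ t : G, P t ∧ ConjClasses.mk t = C} = 3 := by
  have h : {C : ConjClasses G | ∃ t : G, P t ∧ ConjClasses.mk t = C} =
      {ConjClasses.mk a, ConjClasses.mk b, ConjClasses.mk c} := by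
    ext C
    simp only [Set.mem_setOf_eq, Set.mem_singleton_iff, Set.mem_insert_iff]
    constructor
    · rintro ⟨t, ht, rfl⟩
      exact (hall t ht).imp (fun h => (ConjClasses.mk_eq_mk_iff_isConj.2 h).symm)
        (Or.imp (fun h => (ConjClasses.mk_eq_mk_iff_isConj.2 h).symm)
          (fun h => (ConjClasses.mk_eq_mk_iff_isConj.2 h).symm))
    · rintro (rfl | rfl | rfl)
      exacts [⟨a, ha, rfl⟩, ⟨b, hb, rfl⟩, ⟨c, hc, rfl⟩]
  show Nat.card ↥{C : ConjClasses G | ∃ t : G, P t ∧ ConjClasses.mk t = C} = 3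
  rw [Nat.card_coe_set_eq, h, Set.ncard_insert_of_notMem, Set.ncard_pair]
  · exact fun e => hbc (ConjClasses.mk_eq_mk_iff_isConj.1 e)
  · simp only [Set.mem_insert_iff, Set.mem_singleton_iff, not_or]
    exact ⟨fun e => hab (ConjClasses.mk_eq_mk_iff_isConj.1 e),
      fun e => hac (ConjClasses.mk_eq_mk_iff_isConj.1 e)⟩

end Cfsg.Agent.Lib.TwoGroups.Classes
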