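import Mathlib
import Cfsg.Agent.Lib.TwoGroups.Recognition

/-!
Groups with a cyclic subgroup of index two: normal form, multiplication, subgroups.
-/

set_option autoImplicit false

namespace Cfsg.Agent.Lib.TwoGroups.CyclicIndexTwo

open Subgroup Cfsg.Agent.Lib.TwoGroups.Recognition

variable {G : Type*} [Group G]

/-- `x` generates a cyclic subgroup of order `N` and index two, `y` lies outside it,
`y * x * y⁻¹ = x ^ r` and `y * y = x ^ s`. -/
structure Data (N : ℕ) (r s : ZMod N) (x y : G) : Prop where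
  pos : 0 < N
  orderOf_x : orderOf x = N
  card_eq : Nat.card G = 2 * N
  notMem : y ∉ zpowers x
  conj_eq : y * x * y⁻¹ = powZ N x r
  sq_eq : y * y = powZ N x s

namespace Data

variable {N : ℕ} {r s : ZMod N} {x y : G}

theorem finite (D : Data N r s x y) : Finite G :=
  Nat.finite_of_card_ne_zero (by rw [D.card_eq]; have := D.pos; omega)

theorem neZero (D : Data N r s x y) : NeZero N := ⟨D.pos.ne'⟩

theorem pow_N (D : Data N r s x y) : x ^ N = 1 := pow_eq_one_of_orderOf D.orderOf_x

theorem index_zpowers (D : Data N r s x y) : (zpowers x).index = 2 := by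
  have h := (zpowers x).card_mul_index
  rw [Nat.card_zpowers, D.orderOf_x, D.card_eq, mul_comm 2 N] at h
  exact Nat.eq_of_mul_eq_mul_left D.pos h

theorem normal_zpowers (D : Data N r s x y) : (zpowers x).Normal :=
  Subgroup.normal_of_index_eq_two D.index_zpowers

theorem mul_notMem (D : Data N r s x y) (i : ZMod N) : powZ N x i * y ∉ zpowers x := fun h =>
  D.notMem (by simpa using mul_mem (inv_mem (powZ_mem_zpowers N x i)) h)

theorem mul_ne_powZ (D : Data N r s x y) (i j : ZMod N) : powZ N x i * y ≠ powZ N x j := fun h =>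
  D.mul_notMem i (h ▸ powZ_mem_zpowers N x j)

theorem cases (D : Data N r s x y) (g : G) :
    (∃ i, g = powZ N x i) ∨ ∃ i, g = powZ N x i * y := by
  have := D.neZero
  by_cases hg : g ∈ zpowers x
  · obtain ⟨i, hi⟩ := (mem_zpowers_iff_powZ D.orderOf_x).1 hg
    exact Or.inl ⟨i, hi.symm⟩
  · have h : g * y⁻¹ ∈ zpowers x := by
      rw [Subgroup.mul_mem_iff_of_index_two D.index_zpowers, inv_mem_iff]
      exact iff_of_false hg D.notMem
    obtain ⟨i, hi⟩ := (mem_zpowers_iff_powZ D.orderOf_x).1 h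
    exact Or.inr ⟨i, by rw [hi, inv_mul_cancel_right]⟩

theorem inj (D : Data N r s x y) : Function.Injective (powZ N x) := by
  have := D.neZero
  exact powZ_injective D.orderOf_x

theorem powZ_eq_one_iff (D : Data N r s x y) {i : ZMod N} : powZ N x i = 1 ↔ i = 0 :=
  ⟨fun h => D.inj (h.trans (powZ_zero N x).symm), fun h => h ▸ powZ_zero N x⟩

theorem mul_powZ_y_inj (D : Data N r s x y) {i j : ZMod N}
    (h : powZ N x i * y = powZ N x j * y) : i = j :=
  D.inj (mul_right_cancel h)

theorem y_mul_powZ (D : Data N r s x y) (i : ZMod N) :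
    y * powZ N x i = powZ N x (r * i) * y := by
  have := D.neZero
  exact mul_inv_eq_iff_eq_mul.1 (conj_powZ D.pow_N D.conj_eq i)

theorem mul_cc (D : Data N r s x y) (i j : ZMod N) :
    powZ N x i * powZ N x j = powZ N x (i + j) := by
  have := D.neZero
  exact (powZ_add D.pow_N i j).symm

theorem mul_cy (D : Data N r s x y) (i j : ZMod N) :
    powZ N x i * (powZ N x j * y) = powZ N x (i + j) * y := by
  rw [← mul_assoc, D.mul_cc]

theorem mul_yc (D : Data N r s x y) (i j : ZMod N) :
    powZ N x i * y * powZ N x j = powZ N x (i + r * j) * y := by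
  rw [mul_assoc, D.y_mul_powZ, D.mul_cy]

theorem mul_yy (D : Data N r s x y) (i j : ZMod N) :
    powZ N x i * y * (powZ N x j * y) = powZ N x (i + r * j + s) := by
  rw [← mul_assoc, D.mul_yc, mul_assoc, D.sq_eq, D.mul_cc]

theorem sq_y (D : Data N r s x y) (i : ZMod N) :
    powZ N x i * y * (powZ N x i * y) = powZ N x (i + r * i + s) := D.mul_yy i i

theorem powZ_inv (D : Data N r s x y) (i : ZMod N) : (powZ N x i)⁻¹ = powZ N x (-i) := by
  have := D.neZero
  exact (powZ_neg D.pow_N i).symm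

/-- Conjugation of an outer element by a power of `x`. -/
theorem conj_cy (D : Data N r s x y) (j i : ZMod N) :
    powZ N x j * (powZ N x i * y) * (powZ N x j)⁻¹ = powZ N x (j + i - r * j) * y := by
  rw [D.mul_cy, D.powZ_inv, D.mul_yc]
  congr 2
  ring

theorem conj_y_c (D : Data N r s x y) (i : ZMod N) :
    y * powZ N x i * y⁻¹ = powZ N x (r * i) := by
  rw [D.y_mul_powZ, mul_inv_cancel_right]

theorem conj_yc_c (D : Data N r s x y) (j i : ZMod N) :
    powZ N x j * y * powZ N x i * (powZ N x j * y)⁻¹ = powZ N x (r * i) := by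
  rw [mul_inv_eq_iff_eq_mul, D.mul_yc, D.mul_cy, add_comm]

theorem conj_y_cy (D : Data N r s x y) (i : ZMod N) :
    y * (powZ N x i * y) * y⁻¹ = powZ N x (r * i) * y := by
  rw [← mul_assoc, mul_inv_cancel_right, D.y_mul_powZ]

theorem r_mul_s (D : Data N r s x y) : r * s = s := by
  apply D.inj
  rw [← D.conj_y_c, ← D.sq_eq]
  group

theorem r_mul_r (D : Data N r s x y) (i : ZMod N) : r * (r * i) = i := by
  have := D.neZero
  apply D.inj
  rw [← D.conj_y_c, ← D.conj_y_c]
  have h : y * (y * powZ N x i * y⁻¹) * y⁻¹ = powZ N x s * powZ N x i * (powZ N x s)⁻¹ := by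
    rw [← D.sq_eq]; group
  rw [h, (powZ_commute N x s i).eq, mul_inv_cancel_right]

/-- Every subgroup of the cyclic part is normal. -/
theorem normal_of_le (D : Data N r s x y) {K : Subgroup G} (hK : K ≤ zpowers x) : K.Normal := by
  have := D.finite
  have := D.normal_zpowers
  refine ⟨fun a ha g => ?_⟩
  have hle : K.map (MulAut.conj g).toMonoidHom ≤ zpowers x := by
    rintro _ ⟨b, hb, rfl⟩
    exact Subgroup.Normal.conj_mem inferInstance b (hK hb) g
  have heq : K.map (MulAut.conj g).toMonoidHom = K :=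
    eq_of_card_eq_of_le_zpowers hle hK
      (Subgroup.card_map_of_injective (MulAut.conj g).injective)
  exact heq ▸ ⟨a, ha, rfl⟩

/-- A subgroup containing an outer element is determined by it and by its cyclic part. -/
theorem mem_iff_of_mem (D : Data N r s x y) {H : Subgroup G} {i : ZMod N}
    (hi : powZ N x i * y ∈ H) (g : G) :
    g ∈ H ↔ (g ∈ zpowers x ∧ g ∈ H) ∨
      (g * (powZ N x i * y)⁻¹ ∈ zpowers x ∧ g * (powZ N x i * y)⁻¹ ∈ H) := by
  constructor
  · intro hg
    by_cases h : g ∈ zpowers x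
    · exact Or.inl ⟨h, hg⟩
    · refine Or.inr ⟨?_, mul_mem hg (inv_mem hi)⟩
      rw [Subgroup.mul_mem_iff_of_index_two D.index_zpowers, inv_mem_iff]
      exact iff_of_false h (D.mul_notMem i)
  · rintro (⟨-, h⟩ | ⟨-, h⟩)
    · exact h
    · exact (inv_mul_cancel_right g (powZ N x i * y)) ▸ mul_mem h hi

/-- A subgroup not inside the cyclic part contains an outer element. -/
theorem exists_mem_of_not_le (D : Data N r s x y) {H : Subgroup G} (h : ¬ H ≤ zpowers x) :
    ∃ i, powZ N x i * y ∈ H := by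
  obtain ⟨g, hg, hgx⟩ := SetLike.not_le_iff_exists.1 h
  rcases D.cases g with ⟨i, rfl⟩ | ⟨i, rfl⟩
  · exact absurd (powZ_mem_zpowers N x i) hgx
  · exact ⟨i, hg⟩

theorem card_eq_two_mul (D : Data N r s x y) {H : Subgroup G} (h : ¬ H ≤ zpowers x) :
    Nat.card H = 2 * Nat.card (H ⊓ zpowers x : Subgroup G) := by
  have h1 : (zpowers x).relIndex H ∣ (zpowers x).index :=
    @Subgroup.relIndex_dvd_index_of_normal _ _ (zpowers x) H D.normal_zpowers
  rw [D.index_zpowers] at h1
  have h2 : (zpowers x).relIndex H ≠ 1 := fun h' => h (Subgroup.relIndex_eq_one.1 h')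
  have h3 : (zpowers x).relIndex H = 2 :=
    ((Nat.dvd_prime Nat.prime_two).1 h1).resolve_left h2
  have h4 := ((H ⊓ zpowers x).subgroupOf H).card_mul_index
  rw [Nat.card_congr (Subgroup.subgroupOfEquivOfLe inf_le_left).toEquiv] at h4
  change _ * (H ⊓ zpowers x).relIndex H = _ at h4
  rw [Subgroup.inf_relIndex_left, h3] at h4
  omega

/-- Two subgroups sharing an outer element and with equal orders are equal. -/
theorem eq_of_mem_of_card (D : Data N r s x y) {H₁ H₂ : Subgroup G} {i : ZMod N}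
    (h₁ : powZ N x i * y ∈ H₁) (h₂ : powZ N x i * y ∈ H₂)
    (h : Nat.card H₁ = Nat.card H₂) : H₁ = H₂ := by
  have := D.finite
  have n₁ : ¬ H₁ ≤ zpowers x := fun hle => D.mul_notMem i (hle h₁)
  have n₂ : ¬ H₂ ≤ zpowers x := fun hle => D.mul_notMem i (hle h₂)
  have hK : H₁ ⊓ zpowers x = H₂ ⊓ zpowers x :=
    eq_of_card_eq_of_le_zpowers inf_le_right inf_le_right
      (by have e₁ := D.card_eq_two_mul n₁; have e₂ := D.card_eq_two_mul n₂; omega)
  ext g
  rw [D.mem_iff_of_mem h₁, D.mem_iff_of_mem h₂]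
  have hm : ∀ z, (z ∈ zpowers x ∧ z ∈ H₁) ↔ (z ∈ zpowers x ∧ z ∈ H₂) := fun z => by
    have := SetLike.ext_iff.1 hK z
    simpa [and_comm] using this
  rw [hm, hm]

theorem isMulCommutative_of_le (_D : Data N r s x y) {H : Subgroup G} (h : H ≤ zpowers x) :
    IsMulCommutative H := by
  have : IsCyclic H := Subgroup.isCyclic_of_le h
  infer_instance

end Data

end Cfsg.Agent.Lib.TwoGroups.CyclicIndexTwo
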