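import Mathlib
import Cfsg.Prelude.Def_CaseTheorems
import Cfsg.Agent.Lib.TwoGroups.CyclicIndexTwo

/-!
Quasi-dihedral (semidihedral) 2-groups of order `2 ^ (k + 4)`, written in the normal form
`x ^ i`, `x ^ i * y` with `i : ZMod (2 ^ (k + 3))`.
-/

set_option autoImplicit false

namespace Cfsg.Agent.Lib.TwoGroups.QuasiDihedral

open Subgroup Cfsg.Agent.Lib.TwoGroups.Recognition Cfsg.Agent.Lib.TwoGroups.CyclicIndexTwo
open scoped commutatorElement

/-- The element `2 ^ (k + 2)` of `ZMod (2 ^ (k + 3))`. -/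
def half (k : ℕ) : ZMod (2 ^ (k + 3)) := ((2 ^ (k + 2) : ℕ) : ZMod (2 ^ (k + 3)))

/-- The element `2 ^ (k + 1)` of `ZMod (2 ^ (k + 3))`. -/
def quarter (k : ℕ) : ZMod (2 ^ (k + 3)) := ((2 ^ (k + 1) : ℕ) : ZMod (2 ^ (k + 3)))

/-- Parity of an exponent. -/
def par (k : ℕ) : ZMod (2 ^ (k + 3)) →+* ZMod 2 :=
  ZMod.castHom (dvd_pow_self 2 (by omega)) (ZMod 2)

theorem par_natCast (k m : ℕ) : par k (m : ZMod (2 ^ (k + 3))) = (m : ZMod 2) := map_natCast _ _

theorem zmod_two_cases (a : ZMod 2) : a = 0 ∨ a = 1 := by revert a; decide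

theorem par_half (k : ℕ) : par k (half k) = 0 := by
  rw [half, par_natCast, ZMod.natCast_eq_zero_iff]
  exact dvd_pow_self 2 (by omega)

theorem par_quarter (k : ℕ) : par k (quarter k) = 0 := by
  rw [quarter, par_natCast, ZMod.natCast_eq_zero_iff]
  exact dvd_pow_self 2 (by omega)

theorem par_two_mul (k : ℕ) (j : ZMod (2 ^ (k + 3))) : par k (2 * j) = 0 := by
  rw [map_mul, show par k 2 = 0 from map_ofNat (par k) 2, zero_mul]

theorem exists_two_mul {k : ℕ} {i : ZMod (2 ^ (k + 3))} (h : par k i = 0) : ∃ j, i = 2 * j := by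
  rw [← ZMod.natCast_zmod_val i, par_natCast, ZMod.natCast_eq_zero_iff_even] at h
  obtain ⟨c, hc⟩ := h
  exact ⟨(c : ZMod _), by rw [← ZMod.natCast_zmod_val i, hc, Nat.cast_add, two_mul]⟩

theorem exists_two_mul_add_one {k : ℕ} {i : ZMod (2 ^ (k + 3))} (h : par k i = 1) :
    ∃ j, i = 2 * j + 1 := by
  obtain ⟨j, hj⟩ := exists_two_mul (k := k) (i := i - 1) (by rw [map_sub, h, map_one, sub_self])
  exact ⟨j, by rw [← hj, sub_add_cancel]⟩

theorem half_add_half (k : ℕ) : half k + half k = 0 := by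
  rw [half, ← Nat.cast_add, ZMod.natCast_eq_zero_iff]
  exact ⟨1, by ring⟩

theorem quarter_add_quarter (k : ℕ) : quarter k + quarter k = half k := by
  rw [half, quarter, ← Nat.cast_add]
  congr 1
  ring

theorem two_mul_half (k : ℕ) : 2 * half k = 0 := by rw [two_mul, half_add_half]

theorem half_ne_zero (k : ℕ) : half k ≠ 0 := by
  rw [half, ne_eq, ZMod.natCast_eq_zero_iff]
  intro h
  have := Nat.le_of_dvd (by positivity) h
  rw [pow_succ 2 (k + 2)] at this
  have : 0 < 2 ^ (k + 2) := by positivity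
  omega

theorem half_mul_even {k : ℕ} {i : ZMod (2 ^ (k + 3))} (h : par k i = 0) : half k * i = 0 := by
  obtain ⟨j, rfl⟩ := exists_two_mul h
  linear_combination j * two_mul_half k

theorem half_mul_odd {k : ℕ} {i : ZMod (2 ^ (k + 3))} (h : par k i = 1) :
    half k * i = half k := by
  obtain ⟨j, rfl⟩ := exists_two_mul_add_one h
  linear_combination j * two_mul_half k

theorem add_self_eq_zero {k : ℕ} {i : ZMod (2 ^ (k + 3))} (h : i + i = 0) :
    i = 0 ∨ i = half k := by
  rw [← ZMod.natCast_zmod_val i, ← Nat.cast_add, ZMod.natCast_eq_zero_iff] at h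
  obtain ⟨c, hc⟩ := h
  have hlt := ZMod.val_lt i
  have hc2 : c < 2 := by
    by_contra hcon
    have := Nat.mul_le_mul_left (2 ^ (k + 3)) (not_lt.1 hcon)
    omega
  have hpw : 2 ^ (k + 3) = 2 ^ (k + 2) * 2 := pow_succ 2 (k + 2)
  interval_cases c
  · left
    rw [← ZMod.val_eq_zero]
    omega
  · right
    rw [half, ← ZMod.natCast_zmod_val i]
    congr 1
    omega

theorem add_self_eq_half {k : ℕ} {i : ZMod (2 ^ (k + 3))} (h : i + i = half k) :
    i = quarter k ∨ i = quarter k + half k := by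
  rcases add_self_eq_zero (k := k) (i := i - quarter k)
      (by linear_combination h - quarter_add_quarter k) with h1 | h1
  · left; linear_combination h1
  · right; linear_combination h1

theorem par_r (k : ℕ) : par k (half k - 1) = 1 := by
  rw [map_sub, par_half, map_one]; decide

/-- For every `j` there is `d` with `d - r * d = 2 * j`, where `r = half - 1`. -/
theorem exists_shift (k : ℕ) (j : ZMod (2 ^ (k + 3))) :
    ∃ d, d - (half k - 1) * d = 2 * j := by
  rcases zmod_two_cases (par k j) with h | h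
  · exact ⟨j, by linear_combination -half_mul_even h⟩
  · refine ⟨j + quarter k, ?_⟩
    linear_combination quarter_add_quarter k - half_mul_odd h - half_mul_even (par_quarter k)

/-- Quasi-dihedral presentation data. -/
abbrev QD {S : Type*} [Group S] (k : ℕ) (x y : S) : Prop :=
  Data (2 ^ (k + 3)) (half k - 1) 0 x y

theorem exists_QD {S : Type*} [Group S] (hS : Cfsg.IsQuasiDihedral S) :
    ∃ (k : ℕ) (x y : S), QD k x y := by
  obtain ⟨n, hn, hcard, x, y, hx, hy, hxy⟩ := hS
  obtain ⟨k, rfl⟩ : ∃ k, n = k + 3 := ⟨n - 3, by omega⟩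
  have hr : powZ (2 ^ (k + 3)) x (half k - 1) = x ^ (2 ^ (k + 2) - 1) := by
    have : (half k - 1) = (((2 ^ (k + 2) - 1 : ℕ)) : ZMod (2 ^ (k + 3))) := by
      rw [half, Nat.cast_sub (Nat.one_le_two_pow), Nat.cast_one]
    rw [this, powZ_natCast (pow_eq_one_of_orderOf hx)]
  have hxy' : y * x * y⁻¹ = x ^ (2 ^ (k + 2) - 1) := by
    rw [show k + 3 - 1 = k + 2 by omega] at hxy; exact hxy
  refine ⟨k, x, y, ⟨by positivity, hx, by rw [hcard]; ring, ?_, hr.symm ▸ hxy', ?_⟩⟩
  · intro hmem
    have hc : y * x * y⁻¹ = x := by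
      obtain ⟨m, rfl⟩ := Subgroup.mem_zpowers_iff.1 hmem
      group
    rw [hc] at hxy'
    conv_lhs at hxy' => rw [← pow_one x]
    rw [pow_inj_mod, hx] at hxy'
    have h4 : 4 ≤ 2 ^ (k + 2) := by
      calc 4 = 2 ^ 2 := rfl
        _ ≤ 2 ^ (k + 2) := Nat.pow_le_pow_right two_pos (by omega)
    rw [Nat.mod_eq_of_lt (Nat.one_lt_two_pow (by omega)),
      Nat.mod_eq_of_lt (by rw [pow_succ 2 (k + 2)]; omega)] at hxy'
    omega
  · rw [powZ_zero, ← pow_two, ← hy, pow_orderOf_eq_one]

variable {S : Type*} [Group S] {k : ℕ} {x y : S}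

local notation "c" => powZ (2 ^ (k + 3)) x

theorem card_eq (D : QD k x y) : Nat.card S = 2 ^ (k + 4) := by
  rw [D.card_eq]; ring

theorem sq_outer (D : QD k x y) (i : ZMod (2 ^ (k + 3))) :
    c i * y * (c i * y) = c (half k * i) := by
  rw [D.sq_y]
  congr 1
  ring

theorem orderOf_outer_even (D : QD k x y) {i : ZMod (2 ^ (k + 3))} (h : par k i = 0) :
    orderOf (c i * y) = 2 :=
  orderOf_eq_prime (by rw [pow_two, sq_outer D, half_mul_even h, powZ_zero])
    (fun h1 => D.mul_ne_powZ i 0 (by rw [h1, powZ_zero]))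

theorem orderOf_half (D : QD k x y) : orderOf (c (half k)) = 2 :=
  orderOf_eq_prime (by rw [pow_two, D.mul_cc, half_add_half, powZ_zero])
    (fun h1 => half_ne_zero k (D.powZ_eq_one_iff.1 h1))

theorem orderOf_outer_odd (D : QD k x y) {i : ZMod (2 ^ (k + 3))} (h : par k i = 1) :
    orderOf (c i * y) = 4 := by
  have : Fact (Nat.Prime 2) := ⟨Nat.prime_two⟩
  refine orderOf_eq_prime_pow (p := 2) (n := 1) ?_ ?_
  · rw [pow_one, pow_two, sq_outer D, half_mul_odd h]
    exact fun h1 => half_ne_zero k (D.powZ_eq_one_iff.1 h1)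
  · rw [show 2 ^ (1 + 1) = 2 * 2 by norm_num, pow_mul, pow_two (c i * y), sq_outer D,
      half_mul_odd h, pow_two, D.mul_cc, half_add_half, powZ_zero]

theorem orderOf_two_cases (D : QD k x y) {g : S} (hg : orderOf g = 2) :
    g = c (half k) ∨ ∃ i, par k i = 0 ∧ g = c i * y := by
  rcases D.cases g with ⟨i, rfl⟩ | ⟨i, rfl⟩
  · left
    have h2 : c (i + i) = 1 := by
      rw [← D.mul_cc, ← pow_two]
      exact orderOf_dvd_iff_pow_eq_one.1 hg.dvd
    rcases add_self_eq_zero (D.powZ_eq_one_iff.1 h2) with rfl | rfl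
    · rw [powZ_zero, orderOf_one] at hg; omega
    · rfl
  · refine Or.inr ⟨i, ?_, rfl⟩
    rcases zmod_two_cases (par k i) with h | h
    · exact h
    · rw [orderOf_outer_odd D h] at hg; omega

theorem orderOf_four_cases (D : QD k x y) {g : S} (hg : orderOf g = 4) :
    g = c (quarter k) ∨ g = c (quarter k + half k) ∨ ∃ i, par k i = 1 ∧ g = c i * y := by
  rcases D.cases g with ⟨i, rfl⟩ | ⟨i, rfl⟩
  · have h2 : c (i + i + (i + i)) = 1 := by
      rw [← D.mul_cc, ← D.mul_cc, ← pow_two, ← pow_two, ← pow_mul]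
      exact orderOf_dvd_iff_pow_eq_one.1 hg.dvd
    rcases add_self_eq_zero (D.powZ_eq_one_iff.1 h2) with h | h
    · have : c i ^ 2 = 1 := by rw [pow_two, D.mul_cc, h, powZ_zero]
      have := orderOf_dvd_of_pow_eq_one this
      rw [hg] at this
      omega
    · rcases add_self_eq_half h with rfl | rfl
      · exact Or.inl rfl
      · exact Or.inr (Or.inl rfl)
  · refine Or.inr (Or.inr ⟨i, ?_, rfl⟩)
    rcases zmod_two_cases (par k i) with h | h
    · rw [orderOf_outer_even D h] at hg; omega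
    · exact h

theorem orderOf_quarter (D : QD k x y) : orderOf (c (quarter k)) = 4 := by
  have : Fact (Nat.Prime 2) := ⟨Nat.prime_two⟩
  refine orderOf_eq_prime_pow (p := 2) (n := 1) ?_ ?_
  · rw [pow_one, pow_two, D.mul_cc, quarter_add_quarter]
    exact fun h1 => half_ne_zero k (D.powZ_eq_one_iff.1 h1)
  · rw [show 2 ^ (1 + 1) = 2 * 2 by norm_num, pow_mul, pow_two (c (quarter k)), D.mul_cc,
      quarter_add_quarter, pow_two, D.mul_cc, half_add_half, powZ_zero]

/-! ### Conjugation -/

theorem isConj_quarter (D : QD k x y) : IsConj (c (quarter k)) (c (quarter k + half k)) := by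
  refine isConj_iff.2 ⟨y, ?_⟩
  rw [D.conj_y_c]
  congr 1
  linear_combination half_mul_even (par_quarter k) - quarter_add_quarter k - half_add_half k

/-- Outer elements of equal parity are conjugate under the cyclic part. -/
theorem exists_conj_outer (D : QD k x y) {i i' : ZMod (2 ^ (k + 3))}
    (h : par k i = par k i') : ∃ d, c d * (c i * y) * (c d)⁻¹ = c i' * y := by
  obtain ⟨j, hj⟩ := exists_two_mul (i := i' - i) (by rw [map_sub, h, sub_self])
  obtain ⟨d, hd⟩ := exists_shift k j
  exact ⟨d, by rw [D.conj_cy]; congr 2; linear_combination hd - hj⟩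

theorem not_isConj_outer (D : QD k x y) (i j : ZMod (2 ^ (k + 3))) :
    ¬ IsConj (c i) (c j * y) := by
  intro h
  obtain ⟨g, hg⟩ := isConj_iff.1 h
  exact D.mul_notMem j (hg ▸ D.normal_zpowers.conj_mem _ (powZ_mem_zpowers _ x i) g)

theorem commute_cy_iff (D : QD k x y) {j i : ZMod (2 ^ (k + 3))} :
    Commute (c j) (c i * y) ↔ j - (half k - 1) * j = 0 := by
  rw [Commute, SemiconjBy, ← mul_inv_eq_iff_eq_mul, D.conj_cy]
  constructor
  · intro h
    linear_combination D.mul_powZ_y_inj h
  · intro h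
    congr 2
    linear_combination h

/-- The elements of the cyclic part commuting with an outer element are `1` and the
central involution. -/
theorem commute_outer_cases (D : QD k x y) {j i : ZMod (2 ^ (k + 3))}
    (h : Commute (c j) (c i * y)) : j = 0 ∨ j = half k := by
  have h1 := (commute_cy_iff D).1 h
  rcases zmod_two_cases (par k j) with hj | hj
  · exact add_self_eq_zero (by linear_combination h1 + half_mul_even hj)
  · exfalso
    have h2 : j + j = half k := by linear_combination h1 + half_mul_odd hj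
    rcases add_self_eq_half h2 with rfl | rfl
    · rw [par_quarter] at hj; exact absurd hj (by decide)
    · rw [map_add, par_quarter, par_half] at hj; exact absurd hj (by decide)

theorem half_mem_center (D : QD k x y) : c (half k) ∈ center S := by
  rw [mem_center_iff]
  intro g
  rcases D.cases g with ⟨i, rfl⟩ | ⟨i, rfl⟩
  · exact (powZ_commute _ x i _).eq
  · exact ((commute_cy_iff D).2
      (by linear_combination two_mul_half k - half_mul_even (par_half k))).eq.symm

theorem center_eq (D : QD k x y) : center S = zpowers (c (half k)) := by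
  refine le_antisymm (fun g hg => ?_) (zpowers_le.2 (half_mem_center D))
  rcases D.cases g with ⟨i, rfl⟩ | ⟨i, rfl⟩
  · have h : Commute (c i) (c 0 * y) := (mem_center_iff.1 hg _).symm
    rcases commute_outer_cases D h with rfl | rfl
    · rw [powZ_zero]; exact one_mem _
    · exact mem_zpowers _
  · have h : Commute (c 1) (c i * y) := mem_center_iff.1 hg _
    rcases commute_outer_cases D h with h1 | h1
    · exact absurd h1 (by
        intro h0
        have := congrArg (par k) h0
        rw [map_one, map_zero] at this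
        exact one_ne_zero this)
    · have := congrArg (par k) h1
      rw [map_one, par_half] at this
      exact absurd this one_ne_zero

theorem card_center (D : QD k x y) : Nat.card (center S) = 2 := by
  rw [center_eq D, Nat.card_zpowers, orderOf_half D]

/-! ### The maximal subgroups and the derived subgroup -/

/-- For `e = 0` the dihedral maximal subgroup, for `e = 1` the quaternion one. -/
def maxSub (D : QD k x y) (e : ZMod 2) : Subgroup S where
  carrier := {g | (∃ i, par k i = 0 ∧ g = c i) ∨ ∃ i, par k i = e ∧ g = c i * y}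
  one_mem' := Or.inl ⟨0, map_zero _, (powZ_zero _ x).symm⟩
  mul_mem' := by
    rintro a b (⟨i, hi, rfl⟩ | ⟨i, hi, rfl⟩) (⟨j, hj, rfl⟩ | ⟨j, hj, rfl⟩)
    · exact Or.inl ⟨i + j, by rw [map_add, hi, hj, add_zero], D.mul_cc i j⟩
    · exact Or.inr ⟨i + j, by rw [map_add, hi, hj, zero_add], D.mul_cy i j⟩
    · exact Or.inr ⟨i + (half k - 1) * j, by rw [map_add, map_mul, hi, hj, mul_zero, add_zero],
        D.mul_yc i j⟩
    · refine Or.inl ⟨i + (half k - 1) * j + 0, ?_, D.mul_yy i j⟩
      rw [map_add, map_add, map_mul, par_r, hi, hj, map_zero, one_mul, add_zero]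
      rcases zmod_two_cases e with rfl | rfl <;> decide
  inv_mem' := by
    rintro a (⟨i, hi, rfl⟩ | ⟨i, hi, rfl⟩)
    · exact Or.inl ⟨-i, by rw [map_neg, hi, neg_zero], D.powZ_inv i⟩
    · refine Or.inr ⟨i - half k * i, ?_, inv_eq_of_mul_eq_one_right ?_⟩
      · rw [map_sub, map_mul, par_half, hi, zero_mul, sub_zero]
      · rw [D.mul_yy, D.powZ_eq_one_iff]
        linear_combination i * two_mul_half k - half_mul_even (i := half k * i)
          (by rw [map_mul, par_half, zero_mul])

theorem mem_maxSub_c (D : QD k x y) {e : ZMod 2} {i : ZMod (2 ^ (k + 3))} :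
    c i ∈ maxSub D e ↔ par k i = 0 := by
  constructor
  · rintro (⟨j, hj, hij⟩ | ⟨j, -, hij⟩)
    · rwa [D.inj hij]
    · exact absurd hij.symm (D.mul_ne_powZ j i)
  · exact fun h => Or.inl ⟨i, h, rfl⟩

theorem mem_maxSub_cy (D : QD k x y) {e : ZMod 2} {i : ZMod (2 ^ (k + 3))} :
    c i * y ∈ maxSub D e ↔ par k i = e := by
  constructor
  · rintro (⟨j, -, hij⟩ | ⟨j, hj, hij⟩)
    · exact absurd hij (D.mul_ne_powZ i j)
    · rwa [D.mul_powZ_y_inj hij]
  · exact fun h => Or.inr ⟨i, h, rfl⟩

theorem orderOf_c_two (D : QD k x y) : orderOf (c 2) = 2 ^ (k + 2) := by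
  rw [show (2 : ZMod (2 ^ (k + 3))) = ((2 : ℕ) : ZMod _) by norm_num, powZ_natCast D.pow_N,
    orderOf_pow' x two_ne_zero, D.orderOf_x, Nat.gcd_eq_right (dvd_pow_self 2 (by omega)),
    pow_succ 2 (k + 2), Nat.mul_div_cancel _ two_pos]

theorem mem_zpowers_two_iff (D : QD k x y) {g : S} :
    g ∈ zpowers (c 2) ↔ ∃ i, par k i = 0 ∧ g = c i := by
  constructor
  · intro hg
    have := D.finite
    obtain ⟨m, rfl⟩ := mem_powers_iff_mem_zpowers.2 hg
    exact ⟨(m : ZMod _) * 2, by rw [mul_comm]; exact par_two_mul k _,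
      (powZ_mul_natCast D.pow_N 2 m).symm⟩
  · rintro ⟨i, hi, rfl⟩
    obtain ⟨j, rfl⟩ := exists_two_mul hi
    rw [← ZMod.natCast_zmod_val j, mul_comm, powZ_mul_natCast D.pow_N]
    exact pow_mem (mem_zpowers _) _

theorem maxSub_inf_zpowers (D : QD k x y) (e : ZMod 2) :
    maxSub D e ⊓ zpowers x = zpowers (c 2) := by
  ext g
  rw [mem_zpowers_two_iff D, Subgroup.mem_inf]
  constructor
  · rintro ⟨hg, hgx⟩
    obtain ⟨i, rfl⟩ := (mem_zpowers_iff_powZ D.orderOf_x).1 hgx
    exact ⟨i, (mem_maxSub_c D).1 hg, rfl⟩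
  · rintro ⟨i, hi, rfl⟩
    exact ⟨(mem_maxSub_c D).2 hi, powZ_mem_zpowers _ x i⟩

theorem card_maxSub (D : QD k x y) (e : ZMod 2) : Nat.card (maxSub D e) = 2 ^ (k + 3) := by
  obtain ⟨i, hi⟩ : ∃ i : ZMod (2 ^ (k + 3)), par k i = e := by
    rcases zmod_two_cases e with rfl | rfl
    · exact ⟨0, map_zero _⟩
    · exact ⟨1, map_one _⟩
  rw [D.card_eq_two_mul fun h => D.mul_notMem i (h ((mem_maxSub_cy D).2 hi)),
    maxSub_inf_zpowers D, Nat.card_zpowers, orderOf_c_two D]
  ring

theorem x_eq (D : QD k x y) : c 1 = x := powZ_one D.pow_N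

theorem maxSub_ne_top (D : QD k x y) (e : ZMod 2) : maxSub D e ≠ ⊤ := fun h => by
  have : c 1 ∈ maxSub D e := h ▸ mem_top _
  rw [mem_maxSub_c D, map_one] at this
  exact one_ne_zero this

/-- A subgroup containing an odd power of `x` contains `x`. -/
theorem x_mem_of_odd (D : QD k x y) {H : Subgroup S} {i : ZMod (2 ^ (k + 3))}
    (hi : par k i = 1) (h : c i ∈ H) : x ∈ H := by
  obtain ⟨j, rfl⟩ := exists_two_mul_add_one hi
  have hodd : Odd (2 * j + 1 : ZMod (2 ^ (k + 3))).val := by
    rw [← Nat.not_even_iff_odd, ← ZMod.natCast_eq_zero_iff_even, ← par_natCast k,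
      ZMod.natCast_zmod_val, hi]
    decide
  obtain ⟨u, hu⟩ := (ZMod.isUnit_iff_coprime (2 * j + 1 : ZMod (2 ^ (k + 3))).val (2 ^ (k + 3))).2
    ((Nat.coprime_two_right.2 hodd).pow_right _)
  rw [ZMod.natCast_zmod_val] at hu
  rw [← x_eq D, ← Units.inv_mul u, hu]
  conv => arg 2; arg 3; arg 1; rw [← ZMod.natCast_zmod_val (↑u⁻¹ : ZMod (2 ^ (k + 3)))]
  rw [powZ_mul_natCast D.pow_N]
  exact pow_mem h _

theorem proper_subgroup_cases (D : QD k x y) {H : Subgroup S} (hH : H ≠ ⊤) :
    H ≤ zpowers x ∨ ∃ e, H ≤ maxSub D e := by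
  by_cases hle : H ≤ zpowers x
  · exact Or.inl hle
  refine Or.inr ?_
  obtain ⟨i, hi⟩ := D.exists_mem_of_not_le hle
  have heven : ∀ j, c j ∈ H → par k j = 0 := fun j hj => by
    rcases zmod_two_cases (par k j) with h | h
    · exact h
    · exfalso
      apply hH
      rw [eq_top_iff]
      have hx := x_mem_of_odd D h hj
      intro g _
      rcases D.cases g with ⟨m, rfl⟩ | ⟨m, rfl⟩
      · exact pow_mem hx _
      · have hy : y ∈ H := (inv_mul_cancel_left (x ^ i.val) y) ▸ mul_mem (inv_mem (pow_mem hx i.val)) hi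
        exact mul_mem (pow_mem hx _) hy
  refine ⟨par k i, fun g hg => ?_⟩
  rcases D.cases g with ⟨j, rfl⟩ | ⟨j, rfl⟩
  · exact (mem_maxSub_c D).2 (heven j hg)
  · refine (mem_maxSub_cy D).2 ?_
    have h1 : c (j - i) ∈ H := by
      have := mul_mem hg (inv_mem hi)
      rwa [mul_inv_rev, mul_assoc, mul_inv_cancel_left, ← powZ_sub D.pow_N] at this
    have h2 := heven _ h1
    rw [map_sub, sub_eq_zero] at h2
    exact h2

theorem isCoatom_zpowers (D : QD k x y) : IsCoatom (zpowers x) := by
  have := D.finite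
  refine ⟨fun h => D.notMem (h ▸ mem_top _), fun H hH => ?_⟩
  by_contra hne
  rcases proper_subgroup_cases D hne with h | ⟨e, h⟩
  · exact hH.not_ge h
  · have : c 1 ∈ maxSub D e := h (hH.le (powZ_mem_zpowers _ x 1))
    rw [mem_maxSub_c D, map_one] at this
    exact one_ne_zero this

theorem exists_par (k : ℕ) (e : ZMod 2) : ∃ i : ZMod (2 ^ (k + 3)), par k i = e := by
  rcases zmod_two_cases e with rfl | rfl
  · exact ⟨0, map_zero _⟩
  · exact ⟨1, map_one _⟩

theorem isCoatom_maxSub (D : QD k x y) (e : ZMod 2) : IsCoatom (maxSub D e) := by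
  have := D.finite
  refine ⟨maxSub_ne_top D e, fun H hH => ?_⟩
  by_contra hne
  obtain ⟨i, hi⟩ := exists_par k e
  have hiH : c i * y ∈ H := hH.le ((mem_maxSub_cy D).2 hi)
  rcases proper_subgroup_cases D hne with h | ⟨e', h⟩
  · exact D.mul_notMem i (h hiH)
  · have : e' = e := ((mem_maxSub_cy D).1 (h hiH)).symm.trans hi
    exact hH.not_ge (this ▸ h)

theorem zpowers_two_le_commutator (D : QD k x y) : zpowers (c 2) ≤ commutator S := by
  intro g hg
  obtain ⟨i, hi, rfl⟩ := (mem_zpowers_two_iff D).1 hg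
  obtain ⟨j, rfl⟩ := exists_two_mul hi
  obtain ⟨d, hd⟩ := exists_shift k j
  have h := commutator_mem_commutator (H₁ := (⊤ : Subgroup S)) (H₂ := ⊤)
    (mem_top (c d)) (mem_top y)
  have : ⁅c d, y⁆ = c (2 * j) := by
    rw [commutatorElement_def, ← hd, mul_inv_eq_iff_eq_mul]
    have h' := D.conj_cy d 0
    rw [powZ_zero, one_mul, add_zero] at h'
    exact h'
  rwa [this] at h

/-- A proper normal subgroup containing an outer element is one of the `maxSub`. -/
theorem normal_eq_maxSub (D : QD k x y) {N : Subgroup S} [N.Normal] (hN : N ≠ ⊤)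
    {i : ZMod (2 ^ (k + 3))} (hi : c i * y ∈ N) : N = maxSub D (par k i) := by
  rcases proper_subgroup_cases D hN with h | ⟨e, h⟩
  · exact absurd (h hi) (D.mul_notMem i)
  · rw [(mem_maxSub_cy D).1 (h hi)]
    refine le_antisymm h fun g hg => ?_
    have hconj : ∀ i', par k i' = par k i → c i' * y ∈ N := fun i' hi' => by
      obtain ⟨d, hd⟩ := exists_conj_outer D hi'.symm
      exact hd ▸ Subgroup.Normal.conj_mem inferInstance _ hi (c d)
    have hpe := (mem_maxSub_cy D).1 (h hi)
    rcases hg with ⟨j, hj, rfl⟩ | ⟨j, hj, rfl⟩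
    · have := mul_mem (hconj (i + j) (by rw [map_add, hj, add_zero])) (inv_mem hi)
      rwa [mul_inv_rev, mul_assoc, mul_inv_cancel_left, ← powZ_sub D.pow_N,
        add_sub_cancel_left] at this
    · exact hconj j (hj.trans hpe.symm)

theorem isCoatom_cases (D : QD k x y) {M : Subgroup S} (hM : IsCoatom M) :
    M = zpowers x ∨ M = maxSub D 0 ∨ M = maxSub D 1 := by
  rcases proper_subgroup_cases D hM.1 with h | ⟨e, h⟩
  · rcases h.eq_or_lt with h' | h'
    · exact Or.inl h'
    · exact absurd (hM.2 _ h') (isCoatom_zpowers D).1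
  · rcases h.eq_or_lt with h' | h'
    · rcases zmod_two_cases e with rfl | rfl
      · exact Or.inr (Or.inl h')
      · exact Or.inr (Or.inr h')
    · exact absurd (hM.2 _ h') (maxSub_ne_top D e)

theorem commutator_eq (D : QD k x y) : commutator S = zpowers (c 2) := by
  refine le_antisymm ?_ (zpowers_two_le_commutator D)
  have hnorm : (zpowers (c 2)).Normal :=
    D.normal_of_le (zpowers_le.2 (powZ_mem_zpowers _ x 2))
  rw [_root_.commutator_def, commutator_le]
  intro a _ b _
  rw [mem_zpowers_two_iff D]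
  have hmem : ∀ g : S, ∃ p : ZMod 2, ∃ t : ZMod (2 ^ (k + 3)), par k t = p ∧
      (g = c t ∨ g = c t * y) := fun g => by
    rcases D.cases g with ⟨t, rfl⟩ | ⟨t, rfl⟩ <;> exact ⟨_, t, rfl, by simp⟩
  obtain ⟨-, i, -, rfl | rfl⟩ := hmem a <;> obtain ⟨-, j, -, rfl | rfl⟩ := hmem b <;>
    rw [commutatorElement_def]
  · refine ⟨0, map_zero _, ?_⟩
    rw [(powZ_commute _ x i j).eq, mul_inv_cancel_right, mul_inv_cancel, powZ_zero]
  · refine ⟨i - (half k - 1) * i, ?_, ?_⟩
    · rw [map_sub, map_mul, par_r, one_mul, sub_self]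
    · rw [mul_inv_eq_iff_eq_mul, D.conj_cy, D.mul_cy]
      congr 2
      ring
  · refine ⟨(half k - 1) * j - j, ?_, ?_⟩
    · rw [map_sub, map_mul, par_r, one_mul, sub_self]
    · rw [mul_inv_eq_iff_eq_mul, D.conj_yc_c, D.mul_cc, sub_add_cancel]
  · refine ⟨(half k - 1) * (j - i) + i - j, ?_, ?_⟩
    · rw [map_sub, map_add, map_mul, par_r, one_mul, map_sub, sub_add_cancel, sub_self]
    · rw [mul_inv_eq_iff_eq_mul, mul_inv_eq_iff_eq_mul, D.mul_yy, mul_assoc, D.mul_yy, D.mul_cc]
      congr 1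
      ring

theorem frattini_eq (D : QD k x y) : frattini S = zpowers (c 2) := by
  refine le_antisymm (fun g hg => ?_) ?_
  · have h0 : g ∈ maxSub D 0 ⊓ zpowers x :=
      ⟨frattini_le_coatom (isCoatom_maxSub D 0) hg, frattini_le_coatom (isCoatom_zpowers D) hg⟩
    rwa [maxSub_inf_zpowers D] at h0
  · rw [frattini, Order.radical]
    refine le_iInf₂ fun M hM => ?_
    rcases isCoatom_cases D hM with rfl | rfl | rfl
    · exact zpowers_le.2 (powZ_mem_zpowers _ x 2)
    all_goals exact zpowers_le.2 ((mem_maxSub_c D).2 (by simpa using par_two_mul k 1))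

theorem y_inverts_two (D : QD k x y) : y * c 2 * y⁻¹ = (c 2)⁻¹ := by
  rw [D.conj_y_c, D.powZ_inv]
  congr 1
  linear_combination two_mul_half k

theorem dihedral_maxSub (D : QD k x y) :
    Nonempty (maxSub D 0 ≃* DihedralGroup (2 ^ (k + 2))) := by
  have := D.finite
  have hy : y ∈ maxSub D 0 := by
    have := (mem_maxSub_cy D (e := 0) (i := 0)).2 (map_zero _)
    rwa [powZ_zero, one_mul] at this
  refine nonempty_dihedral_subgroup (a := c 2) (b := y)
    ((mem_maxSub_c D).2 (by simpa using par_two_mul k 1)) hy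
    (orderOf_c_two D) ?_ (y_inverts_two D) (fun h => D.notMem
      (zpowers_le.2 (powZ_mem_zpowers _ x 2) h)) ?_
  · rw [D.sq_eq, powZ_zero]
  · rw [card_maxSub D]; ring

theorem quaternion_maxSub (D : QD k x y) :
    Nonempty (maxSub D 1 ≃* QuaternionGroup (2 ^ (k + 1))) := by
  have := D.finite
  refine nonempty_quaternion_subgroup (a := c 2) (b := c 1 * y)
    ((mem_maxSub_c D).2 (by simpa using par_two_mul k 1)) ((mem_maxSub_cy D).2 (map_one _))
    ?_ ?_ ?_ (fun h => D.mul_notMem 1 (zpowers_le.2 (powZ_mem_zpowers _ x 2) h)) ?_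
  · rw [orderOf_c_two D]; ring
  · rw [sq_outer D, half_mul_odd (map_one _), ← powZ_mul_natCast D.pow_N]
    congr 1
    rw [half, show (2 ^ (k + 2) : ℕ) = 2 ^ (k + 1) * 2 by ring]
    push_cast
    ring
  · rw [D.conj_yc_c, D.powZ_inv]
    congr 1
    linear_combination two_mul_half k
  · rw [card_maxSub D]; ring

theorem closure_involutions (D : QD k x y) :
    closure {g : S | orderOf g = 2} = maxSub D 0 := by
  refine le_antisymm ((closure_le _).2 fun g hg => ?_) fun g hg => ?_
  · rcases orderOf_two_cases D hg with rfl | ⟨i, hi, rfl⟩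
    · exact (mem_maxSub_c D).2 (par_half k)
    · exact (mem_maxSub_cy D).2 hi
  · have hcy : ∀ i, par k i = 0 → c i * y ∈ closure {g : S | orderOf g = 2} :=
      fun i hi => subset_closure (orderOf_outer_even D hi)
    rcases hg with ⟨i, hi, rfl⟩ | ⟨i, hi, rfl⟩
    · have := mul_mem (hcy i hi) (inv_mem (hcy 0 (map_zero _)))
      rwa [powZ_zero, one_mul, mul_inv_cancel_right] at this
    · exact hcy i hi

/-! ### Four groups and quaternion subgroups -/

theorem exists_outer_of_four (D : QD k x y) {T : Subgroup S} (hT : IsKleinFour T) :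
    ∃ i, par k i = 0 ∧ c i * y ∈ T := by
  have := D.finite
  have hn : ¬ T ≤ zpowers x := fun h =>
    (IsKleinFour.not_isCyclic (G := T)) (Subgroup.isCyclic_of_le h)
  obtain ⟨i, hi⟩ := D.exists_mem_of_not_le hn
  refine ⟨i, ?_, hi⟩
  rcases zmod_two_cases (par k i) with h | h
  · exact h
  · have h1 := sq_of_mem_kleinFour hT hi
    rw [sq_outer D, half_mul_odd h] at h1
    exact absurd (D.powZ_eq_one_iff.1 h1) (half_ne_zero k)

theorem card_four {T : Subgroup S} (hT : IsKleinFour T) : Nat.card T = 4 :=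
  IsKleinFour.card_four

theorem card_inf_four (D : QD k x y) {T : Subgroup S} (hT : IsKleinFour T) :
    Nat.card (T ⊓ zpowers x : Subgroup S) = 2 := by
  have := D.finite
  have hn : ¬ T ≤ zpowers x := fun h =>
    (IsKleinFour.not_isCyclic (G := T)) (Subgroup.isCyclic_of_le h)
  have := D.card_eq_two_mul hn
  rw [card_four hT] at this
  omega

theorem card_quaternion_subgroup {Q : Subgroup S} (eQ : Q ≃* QuaternionGroup 2) :
    Nat.card Q = 8 := by
  rw [Nat.card_congr eQ.toEquiv, natCard_quaternion]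

theorem not_le_zpowers_of_quaternion (D : QD k x y) {Q : Subgroup S}
    (eQ : Q ≃* QuaternionGroup 2) : ¬ Q ≤ zpowers x := fun h => by
  have := D.finite
  have := D.isMulCommutative_of_le h
  refine quaternion_two_not_comm ⟨⟨fun a b => eQ.symm.injective ?_⟩⟩
  rw [map_mul, map_mul, mul_comm' (eQ.symm a)]

theorem card_inf_quaternion (D : QD k x y) {Q : Subgroup S} (eQ : Q ≃* QuaternionGroup 2) :
    Nat.card (Q ⊓ zpowers x : Subgroup S) = 4 := by
  have := D.finite
  have := D.card_eq_two_mul (not_le_zpowers_of_quaternion D eQ)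
  rw [card_quaternion_subgroup eQ] at this
  omega

theorem mem_inf_iff (D : QD k x y) {H : Subgroup S} {m : ℕ}
    (hm : Nat.card (H ⊓ zpowers x : Subgroup S) = m) {i : ZMod (2 ^ (k + 3))} :
    c i ∈ H ↔ (m : ZMod (2 ^ (k + 3))) * i = 0 := by
  have := D.finite
  rw [← D.powZ_eq_one_iff, powZ_mul_natCast D.pow_N, ← hm]
  constructor
  · intro h
    exact orderOf_dvd_iff_pow_eq_one.1
      ((H ⊓ zpowers x).orderOf_dvd_natCard ⟨h, powZ_mem_zpowers _ x i⟩)
  · exact fun h => (mem_of_pow_card_eq_one (K := H ⊓ zpowers x) inf_le_right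
      (powZ_mem_zpowers _ x i) h).1

theorem exists_outer_of_quaternion (D : QD k x y) {Q : Subgroup S}
    (eQ : Q ≃* QuaternionGroup 2) : ∃ i, par k i = 1 ∧ c i * y ∈ Q := by
  obtain ⟨i, hi⟩ := D.exists_mem_of_not_le (not_le_zpowers_of_quaternion D eQ)
  refine ⟨i, ?_, hi⟩
  rcases zmod_two_cases (par k i) with h | h
  · exfalso
    have hh : c (half k) ∈ Q :=
      (mem_inf_iff D (card_inf_quaternion D eQ)).2
        (by push_cast; linear_combination (2 : ZMod (2 ^ (k + 3))) * two_mul_half k)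
    have := invol_unique eQ (s := ⟨_, hh⟩) (t := ⟨_, hi⟩)
      ((Subgroup.orderOf_coe _).symm.trans (orderOf_half D))
      ((Subgroup.orderOf_coe _).symm.trans (orderOf_outer_even D h))
    exact D.mul_ne_powZ i (half k) (congrArg Subtype.val this).symm
  · exact h

theorem conj_eq_of_outer (D : QD k x y) {H H' : Subgroup S} {i i' : ZMod (2 ^ (k + 3))}
    (hi : c i * y ∈ H) (hi' : c i' * y ∈ H') (hp : par k i = par k i')
    (hc : Nat.card H = Nat.card H') :
    ∃ s : S, H.map (MulAut.conj s).toMonoidHom = H' := by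
  obtain ⟨d, hd⟩ := exists_conj_outer D hp
  refine ⟨c d, D.eq_of_mem_of_card (i := i') ?_ hi' ?_⟩
  · exact ⟨c i * y, hi, by simpa using hd⟩
  · rw [Subgroup.card_map_of_injective (MulAut.conj (c d)).injective, hc]

theorem four_conj (D : QD k x y) {T₁ T₂ : Subgroup S} (h₁ : IsKleinFour T₁)
    (h₂ : IsKleinFour T₂) : ∃ s : S, T₁.map (MulAut.conj s).toMonoidHom = T₂ := by
  obtain ⟨i, hi, hiT⟩ := exists_outer_of_four D h₁
  obtain ⟨j, hj, hjT⟩ := exists_outer_of_four D h₂
  exact conj_eq_of_outer D hiT hjT (hi.trans hj.symm) (by rw [card_four h₁, card_four h₂])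

theorem quaternion_conj (D : QD k x y) {Q₁ Q₂ : Subgroup S} (e₁ : Q₁ ≃* QuaternionGroup 2)
    (e₂ : Q₂ ≃* QuaternionGroup 2) : ∃ s : S, Q₁.map (MulAut.conj s).toMonoidHom = Q₂ := by
  obtain ⟨i, hi, hiT⟩ := exists_outer_of_quaternion D e₁
  obtain ⟨j, hj, hjT⟩ := exists_outer_of_quaternion D e₂
  exact conj_eq_of_outer D hiT hjT (hi.trans hj.symm)
    (by rw [card_quaternion_subgroup e₁, card_quaternion_subgroup e₂])

/-- An element commuting with an outer element of `H` lies in `H` once `H` contains the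
central involution. -/
theorem mem_of_commute_outer (D : QD k x y) {H : Subgroup S} {i : ZMod (2 ^ (k + 3))}
    (hi : c i * y ∈ H) (hz : c (half k) ∈ H) {g : S} (hg : Commute g (c i * y)) : g ∈ H := by
  have key : ∀ j, Commute (c j) (c i * y) → c j ∈ H := fun j hj => by
    rcases commute_outer_cases D hj with rfl | rfl
    · rw [powZ_zero]; exact one_mem _
    · exact hz
  rcases D.cases g with ⟨j, rfl⟩ | ⟨j, rfl⟩
  · exact key j hg
  · have h1 : Commute (c j * y * (c i * y)⁻¹) (c i * y) :=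
      hg.mul_left (Commute.refl _).inv_left
    have h2 : c j * y * (c i * y)⁻¹ = c (j - i) := by
      rw [mul_inv_rev, mul_assoc, mul_inv_cancel_left, ← powZ_sub D.pow_N]
    rw [h2] at h1
    have := mul_mem (key _ h1) hi
    rwa [← mul_assoc, ← powZ_add D.pow_N, sub_add_cancel] at this

theorem centralizer_four (D : QD k x y) {T : Subgroup S} (hT : IsKleinFour T) :
    centralizer (T : Set S) = T := by
  have := D.finite
  obtain ⟨i, -, hiT⟩ := exists_outer_of_four D hT
  have hz : c (half k) ∈ T := (mem_inf_iff D (card_inf_four D hT)).2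
    (by push_cast; exact two_mul_half k)
  refine le_antisymm (fun g hg => mem_of_commute_outer D hiT hz (hg _ hiT).symm) ?_
  intro g hg t ht
  have := IsKleinFour.isMulCommutative (G := T)
  exact congrArg Subtype.val (mul_comm' (⟨t, ht⟩ : T) ⟨g, hg⟩)

theorem centralizer_quaternion (D : QD k x y) {Q : Subgroup S} (eQ : Q ≃* QuaternionGroup 2) :
    centralizer (Q : Set S) = (center Q).map Q.subtype := by
  obtain ⟨i, -, hiT⟩ := exists_outer_of_quaternion D eQ
  have hz : c (half k) ∈ Q := (mem_inf_iff D (card_inf_quaternion D eQ)).2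
    (by push_cast; linear_combination (2 : ZMod (2 ^ (k + 3))) * two_mul_half k)
  ext g
  constructor
  · intro hg
    refine ⟨⟨g, mem_of_commute_outer D hiT hz (hg _ hiT).symm⟩, ?_, rfl⟩
    exact mem_center_iff.2 fun q => Subtype.ext (hg q q.2)
  · rintro ⟨g, hg, rfl⟩ t ht
    exact congrArg Subtype.val (mem_center_iff.1 hg ⟨t, ht⟩)

theorem mem_normalizer_c (D : QD k x y) {H : Subgroup S} {i : ZMod (2 ^ (k + 3))}
    (hi : c i * y ∈ H) {d : ZMod (2 ^ (k + 3))} :
    c d ∈ normalizer (H : Set S) ↔ c (d - (half k - 1) * d) ∈ H := by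
  have := D.finite
  have e : c d * (c i * y) * (c d)⁻¹ * (c i * y)⁻¹ = c (d - (half k - 1) * d) := by
    rw [D.conj_cy, mul_inv_rev, mul_assoc, mul_inv_cancel_left, ← powZ_sub D.pow_N]
    congr 1
    ring
  constructor
  · intro h
    have hm : c d * (c i * y) * (c d)⁻¹ ∈ H :=
      (mem_normalizer_iff.1 h _).1 hi
    rw [← e]
    exact mul_mem hm (inv_mem hi)
  · intro h
    apply Subgroup.mem_normalizer_iff.2
    have hm : c d * (c i * y) * (c d)⁻¹ ∈ H := by
      rw [← e] at h
      have h2 := mul_mem h hi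
      rwa [inv_mul_cancel_right] at h2
    have hmap : H.map (MulAut.conj (c d)).toMonoidHom = H := by
      obtain ⟨i', hi'⟩ : ∃ i', c d * (c i * y) * (c d)⁻¹ = c i' * y := ⟨_, D.conj_cy d i⟩
      refine D.eq_of_mem_of_card (i := i') ⟨c i * y, hi, by simpa using hi'⟩ (hi' ▸ hm) ?_
      rw [Subgroup.card_map_of_injective (MulAut.conj (c d)).injective]
    intro g
    conv_rhs => rw [← hmap]
    constructor
    · exact fun hg => ⟨g, hg, rfl⟩
    · rintro ⟨g', hg', he⟩
      rwa [← (MulAut.conj (c d)).injective (show MulAut.conj (c d) g' = MulAut.conj (c d) g from he)]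

/-- The normaliser of a four group has order 8. -/
theorem card_normalizer_four (D : QD k x y) {T : Subgroup S} (hT : IsKleinFour T) :
    Nat.card (normalizer (T : Set S) : Subgroup S) = 8 := by
  have := D.finite
  obtain ⟨i, -, hiT⟩ := exists_outer_of_four D hT
  have hinf : normalizer (T : Set S) ⊓ zpowers x = zpowers (c (quarter k)) := by
    ext g
    constructor
    · rintro ⟨hg, hgx⟩
      obtain ⟨d, rfl⟩ := (mem_zpowers_iff_powZ D.orderOf_x).1 hgx
      have h1 := (mem_inf_iff D (card_inf_four D hT)).1 ((mem_normalizer_c D hiT).1 hg)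
      push_cast at h1
      refine mem_of_pow_card_eq_one (zpowers_le.2 (powZ_mem_zpowers _ x _)) hgx ?_
      rw [Nat.card_zpowers, orderOf_quarter D, ← powZ_mul_natCast D.pow_N, D.powZ_eq_one_iff]
      push_cast
      linear_combination h1 + d * two_mul_half k
    · intro hg
      have hgx : g ∈ zpowers x := zpowers_le.2 (powZ_mem_zpowers _ x _) hg
      refine ⟨?_, hgx⟩
      obtain ⟨d, rfl⟩ := (mem_zpowers_iff_powZ D.orderOf_x).1 hgx
      have h1 : c d ^ 4 = 1 := by
        rw [← orderOf_dvd_iff_pow_eq_one, ← orderOf_quarter D]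
        exact orderOf_dvd_of_mem_zpowers hg
      rw [← powZ_mul_natCast D.pow_N, D.powZ_eq_one_iff] at h1
      refine (mem_normalizer_c D hiT).2 ((mem_inf_iff D (card_inf_four D hT)).2 ?_)
      push_cast at h1 ⊢
      linear_combination h1 - d * two_mul_half k
  rw [D.card_eq_two_mul fun h => D.mul_notMem i (h (le_normalizer hiT)), hinf,
    Nat.card_zpowers, orderOf_quarter D]

theorem relIndex_normalizer_four (D : QD k x y) {T : Subgroup S} (hT : IsKleinFour T) :
    T.relIndex (normalizer (T : Set S)) = 2 := by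
  have h := (T.subgroupOf (normalizer (T : Set S))).card_mul_index
  rw [Nat.card_congr (subgroupOfEquivOfLe le_normalizer).toEquiv, card_four hT,
    card_normalizer_four D hT] at h
  change 4 * T.relIndex (normalizer (T : Set S)) = 8 at h
  omega

/-- The normaliser of a quaternion subgroup of order 8 has order 16. -/
theorem card_normalizer_quaternion (D : QD k x y) {Q : Subgroup S}
    (eQ : Q ≃* QuaternionGroup 2) : Nat.card (normalizer (Q : Set S) : Subgroup S) = 16 := by
  have := D.finite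
  obtain ⟨i, -, hiT⟩ := exists_outer_of_quaternion D eQ
  have hord : orderOf (c ((2 ^ k : ℕ) : ZMod (2 ^ (k + 3)))) = 8 := by
    rw [powZ_natCast D.pow_N, orderOf_pow' x (pow_ne_zero _ two_ne_zero), D.orderOf_x,
      Nat.gcd_eq_right (pow_dvd_pow 2 (by omega)), pow_add,
      Nat.mul_div_cancel_left _ (by positivity)]
    rfl
  have hinf : normalizer (Q : Set S) ⊓ zpowers x =
      zpowers (c ((2 ^ k : ℕ) : ZMod (2 ^ (k + 3)))) := by
    ext g
    constructor
    · rintro ⟨hg, hgx⟩
      obtain ⟨d, rfl⟩ := (mem_zpowers_iff_powZ D.orderOf_x).1 hgx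
      have h1 := (mem_inf_iff D (card_inf_quaternion D eQ)).1 ((mem_normalizer_c D hiT).1 hg)
      push_cast at h1
      refine mem_of_pow_card_eq_one (zpowers_le.2 (powZ_mem_zpowers _ x _)) hgx ?_
      rw [Nat.card_zpowers, hord, ← powZ_mul_natCast D.pow_N, D.powZ_eq_one_iff]
      push_cast
      linear_combination h1 + 2 * d * two_mul_half k
    · intro hg
      have hgx : g ∈ zpowers x := zpowers_le.2 (powZ_mem_zpowers _ x _) hg
      refine ⟨?_, hgx⟩
      obtain ⟨d, rfl⟩ := (mem_zpowers_iff_powZ D.orderOf_x).1 hgx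
      have h1 : c d ^ 8 = 1 := by
        rw [← orderOf_dvd_iff_pow_eq_one, ← hord]
        exact orderOf_dvd_of_mem_zpowers hg
      rw [← powZ_mul_natCast D.pow_N, D.powZ_eq_one_iff] at h1
      refine (mem_normalizer_c D hiT).2 ((mem_inf_iff D (card_inf_quaternion D eQ)).2 ?_)
      push_cast at h1 ⊢
      linear_combination h1 - 2 * d * two_mul_half k
  rw [D.card_eq_two_mul fun h => D.mul_notMem i (h (le_normalizer hiT)), hinf,
    Nat.card_zpowers, hord]

theorem relIndex_normalizer_quaternion (D : QD k x y) {Q : Subgroup S}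
    (eQ : Q ≃* QuaternionGroup 2) : Q.relIndex (normalizer (Q : Set S)) = 2 := by
  have h := (Q.subgroupOf (normalizer (Q : Set S))).card_mul_index
  rw [Nat.card_congr (subgroupOfEquivOfLe le_normalizer).toEquiv, card_quaternion_subgroup eQ,
    card_normalizer_quaternion D eQ] at h
  change 8 * Q.relIndex (normalizer (Q : Set S)) = 16 at h
  omega

end Cfsg.Agent.Lib.TwoGroups.QuasiDihedral
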