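import Mathlib
import Cfsg.Agent.Lib.TwoGroups.QuasiDihedral
import Cfsg.Agent.Lib.TwoGroups.OddAut

/-!
Self-centralising subgroups of a quasi-dihedral group with automorphism group not a 2-group.
-/

set_option autoImplicit false

namespace Cfsg.Agent.Lib.TwoGroups.QDAut

open Subgroup Cfsg.Agent.Lib.TwoGroups.Recognition Cfsg.Agent.Lib.TwoGroups.CyclicIndexTwo
  Cfsg.Agent.Lib.TwoGroups.QuasiDihedral Cfsg.Agent.Lib.TwoGroups.OddAut

variable {S : Type*} [Group S] {k : ℕ} {x y : S}

local notation "c" => powZ (2 ^ (k + 3)) x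

theorem classify (D : QD k x y) {R : Subgroup S} (hC : centralizer (R : Set S) ≤ R)
    (hA : ¬ IsPGroup 2 (MulAut R)) : IsKleinFour R ∨ Nonempty (R ≃* QuaternionGroup 2) := by
  have := D.finite
  have := D.neZero
  have hh := two_mul_half k
  have hZ : c (half k) ∈ R := hC (center_le_centralizer (R : Set S) (half_mem_center D))
  set K := R ⊓ zpowers x with hKdef
  have : Fact (Nat.Prime 2) := ⟨Nat.prime_two⟩
  have hcyc : IsCyclic K := Subgroup.isCyclic_of_le inf_le_right
  obtain ⟨u₀, hu₀⟩ := hcyc.exists_generator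
  obtain ⟨d, hd⟩ := (mem_zpowers_iff_powZ D.orderOf_x).1 u₀.2.2
  set u : R := ⟨(u₀ : S), u₀.2.1⟩ with hu
  have hKgen : ∀ w : R, (w : S) ∈ zpowers x → ∃ r : ℕ, w = u ^ r := by
    intro w hw
    obtain ⟨r, hr⟩ := mem_powers_iff_mem_zpowers.2 (hu₀ ⟨w, w.2, hw⟩)
    refine ⟨r, Subtype.ext ?_⟩
    rw [SubmonoidClass.coe_pow]
    exact (congrArg Subtype.val hr).symm
  have hpg : IsPGroup 2 S := IsPGroup.of_card (n := k + 4) (QuasiDihedral.card_eq D)
  obtain ⟨a, ha⟩ : ∃ a, orderOf u = 2 ^ a := IsPGroup.iff_orderOf.1 (hpg.to_subgroup R) u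
  have hcardK : Nat.card K = 2 ^ a := by
    have h1 : orderOf u₀ = Nat.card K := orderOf_eq_card_of_forall_mem_zpowers hu₀
    rw [← h1, ← Subgroup.orderOf_coe, ← ha, ← Subgroup.orderOf_coe]
  by_cases hle : R ≤ zpowers x
  · refine absurd (isPGroup_mulAut fun φ hφ => ?_) hA
    obtain ⟨r, hr⟩ := hKgen (φ u) (hle (φ u).2)
    have hfix := fix_of_power hr hφ ha
    ext w
    obtain ⟨r, rfl⟩ := hKgen w (hle w.2)
    rw [map_pow, hfix, MulAut.one_apply]
  obtain ⟨i, hi⟩ := D.exists_mem_of_not_le hle
  have hcardR : Nat.card R = 2 * 2 ^ a := by rw [← hcardK]; exact D.card_eq_two_mul hle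
  have hout : ∀ w : R, (w : S) ∉ zpowers x → ∃ l, (w : S) = c l * y ∧ c (l - i) ∈ R := by
    intro w hw
    rcases D.cases (w : S) with ⟨l, hl⟩ | ⟨l, hl⟩
    · exact absurd (hl ▸ powZ_mem_zpowers _ x l) hw
    · refine ⟨l, hl, ?_⟩
      have h1 := mul_mem w.2 (inv_mem hi)
      rwa [hl, mul_inv_rev, mul_assoc, mul_inv_cancel_left, ← powZ_sub D.pow_N] at h1
  -- once the cyclic part is preserved, odd order automorphisms are trivial
  have finish : (∀ φ : MulAut R, ((φ u : R) : S) ∈ zpowers x) → False := by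
    intro hpres
    refine hA (isPGroup_mulAut fun φ hφ => ?_)
    obtain ⟨r, hr⟩ := hKgen (φ u) (hpres φ)
    have hfix := fix_of_power hr hφ ha
    have hKfix : ∀ w : R, (w : S) ∈ zpowers x → φ w = w := by
      intro w hw
      obtain ⟨r, rfl⟩ := hKgen w hw
      rw [map_pow, hfix]
    ext w
    rw [MulAut.one_apply]
    apply congrArg Subtype.val
    by_cases hw : (w : S) ∈ zpowers x
    · exact hKfix w hw
    · have hφw : ((φ w : R) : S) ∉ zpowers x := fun h => hw (φ.injective (hKfix _ h) ▸ h)
      have hv : ((w⁻¹ * φ w : R) : S) ∈ zpowers x := by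
        rw [Subgroup.coe_mul, Subgroup.coe_inv, Subgroup.mul_mem_iff_of_index_two D.index_zpowers,
          inv_mem_iff]
        exact iff_of_false hw hφw
      refine fix_of_translate (f := w⁻¹ * φ w) (n := a) hφ (mul_inv_cancel_left w (φ w)).symm
        (hKfix _ hv) ?_
      obtain ⟨r, hr⟩ := hKgen _ hv
      rw [hr, ← pow_mul, mul_comm, pow_mul, ← ha, pow_orderOf_eq_one, one_pow]
  -- outer elements have order two or four
  have hord : ∀ w : R, (w : S) ∉ zpowers x → w ^ 4 = 1 := by
    intro w hw
    obtain ⟨l, hl, -⟩ := hout w hw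
    apply Subtype.ext
    rw [SubmonoidClass.coe_pow, hl, show 4 = 2 * 2 by norm_num, pow_mul, pow_two (c l * y),
      sq_outer D, pow_two, D.mul_cc, OneMemClass.coe_one, D.powZ_eq_one_iff]
    linear_combination l * hh
  have ha2 : a ≤ 2 := by
    by_contra hlt
    refine finish fun φ => ?_
    by_contra hout'
    have h1 : φ (u ^ 4) = φ 1 := by rw [map_pow, map_one, hord _ hout']
    have h2 : orderOf u ∣ 4 := orderOf_dvd_of_pow_eq_one (φ.injective h1)
    rw [ha] at h2
    have h3 := Nat.le_of_dvd (by norm_num) h2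
    have : 2 ^ 3 ≤ 2 ^ a := Nat.pow_le_pow_right two_pos (by omega)
    omega
  interval_cases a
  · exfalso
    rw [pow_zero, orderOf_eq_one_iff] at ha
    obtain ⟨r, hr⟩ := hKgen ⟨c (half k), hZ⟩ (powZ_mem_zpowers _ x _)
    rw [ha, one_pow] at hr
    exact half_ne_zero k (D.powZ_eq_one_iff.1 (congrArg Subtype.val hr))
  · -- `R` has order four
    rcases zmod_two_cases (par k i) with hp | hp
    · refine Or.inl (isKleinFour_of_card (by rw [hcardR]; rfl) fun w hw => ?_)
      by_cases hwx : w ∈ zpowers x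
      · obtain ⟨r, hr⟩ := hKgen ⟨w, hw⟩ hwx
        have h2 : (⟨w, hw⟩ : R) ^ 2 = 1 := by
          rw [hr, ← pow_mul, mul_comm, pow_mul, show u ^ 2 = 1 by
            have := pow_orderOf_eq_one u; rw [ha] at this; simpa using this, one_pow]
        rw [← pow_two]
        exact congrArg Subtype.val h2
      · obtain ⟨l, hl, hm⟩ := hout ⟨w, hw⟩ hwx
        change w = c l * y at hl
        have h1 := (mem_inf_iff D hcardK).1 hm
        push_cast at h1
        rw [hl, sq_outer D, D.powZ_eq_one_iff]
        rcases add_self_eq_zero (k := k) (i := l - i) (by linear_combination h1) with h2 | h2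
        · rw [sub_eq_zero.1 h2, half_mul_even hp]
        · exact half_mul_even (by rw [← sub_add_cancel l i, map_add, h2, par_half, hp, add_zero])
    · exfalso
      set g : R := ⟨c i * y, hi⟩ with hg
      have hgo : orderOf g = 2 ^ 2 := by
        rw [← Subgroup.orderOf_coe, hg, orderOf_outer_odd D hp]; rfl
      have hgen : ∀ w : R, ∃ r : ℕ, w = g ^ r := by
        intro w
        have htop : zpowers g = ⊤ := by
          refine Subgroup.eq_top_of_card_eq _ ?_
          rw [Nat.card_zpowers, hgo, hcardR]; rfl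
        obtain ⟨r, hr⟩ := mem_powers_iff_mem_zpowers.2 (htop ▸ mem_top w : w ∈ zpowers g)
        exact ⟨r, hr.symm⟩
      refine hA (isPGroup_mulAut fun φ hφ => ?_)
      obtain ⟨r, hr⟩ := hgen (φ g)
      have hfix := fix_of_power hr hφ hgo
      ext w
      obtain ⟨r, rfl⟩ := hgen w
      rw [map_pow, hfix, MulAut.one_apply]
  · rcases zmod_two_cases (par k i) with hp | hp
    · exfalso
      refine finish fun φ => ?_
      by_contra hout'
      obtain ⟨l, hl, hm⟩ := hout (φ u) hout'
      have h1 := (mem_inf_iff D hcardK).1 hm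
      push_cast at h1
      have hlp : par k l = 0 := by
        rcases zmod_two_cases (par k (l - i)) with h | h
        · rwa [map_sub, hp, sub_zero] at h
        · exfalso
          obtain ⟨j, hj⟩ := exists_two_mul_add_one h
          rw [hj] at h1
          have h5 : half k * (2 * j + 1) = 0 := by
            have he : half k = ((2 ^ k : ℕ) : ZMod (2 ^ (k + 3))) * 4 := by
              rw [half, show (2 ^ (k + 2) : ℕ) = 2 ^ k * 4 by ring]
              push_cast
              rfl
            rw [he]
            linear_combination ((2 ^ k : ℕ) : ZMod (2 ^ (k + 3))) * h1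
          rw [half_mul_odd (by rw [← hj]; exact h)] at h5
          exact half_ne_zero k h5
      have h2 : φ (u ^ 2) = φ 1 := by
        rw [map_pow, map_one]
        apply Subtype.ext
        rw [SubmonoidClass.coe_pow, hl, pow_two, sq_outer D, half_mul_even hlp, powZ_zero]
        rfl
      have h3 := orderOf_dvd_of_pow_eq_one (φ.injective h2)
      rw [ha] at h3
      exact absurd (Nat.le_of_dvd two_pos h3) (by norm_num)
    · refine Or.inr ?_
      have hq : c (quarter k) ∈ R := by
        refine (mem_inf_iff D hcardK).2 ?_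
        push_cast
        linear_combination 2 * quarter_add_quarter k + hh
      refine nonempty_quaternion_subgroup (m := 2) (a := c (quarter k)) (b := c i * y) hq hi ?_ ?_
        ?_ (fun h => D.mul_notMem i (zpowers_le.2 (powZ_mem_zpowers _ x _) h))
        (by rw [hcardR]; rfl)
      · rw [orderOf_quarter D]
      · rw [sq_outer D, half_mul_odd hp, pow_two, D.mul_cc, quarter_add_quarter]
      · rw [D.conj_yc_c, D.powZ_inv]
        congr 1
        linear_combination half_mul_even (par_quarter k)

end Cfsg.Agent.Lib.TwoGroups.QDAut
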