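import Mathlib
import Cfsg.Agent.Lib.TwoGroups.Recognition

/-!
The action of normalisers on the three involutions of a four group and on the three cyclic
subgroups of order four of a quaternion group of order eight.
-/

set_option autoImplicit false

namespace Cfsg.Agent.Lib.TwoGroups.Triangle

open Subgroup Cfsg.Agent.Lib.TwoGroups.Recognition

variable {G : Type*} [Group G]

/-- The image of a set under conjugation. -/
def conjSet (g : G) (A : Set G) : Set G := (fun w => g * w * g⁻¹) '' A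

theorem conjSet_conjSet (g h : G) (A : Set G) : conjSet g (conjSet h A) = conjSet (g * h) A := by
  rw [conjSet, conjSet, conjSet, Set.image_image]
  congr 1
  funext w
  group

theorem conjSet_one (A : Set G) : conjSet 1 A = A := by simp [conjSet]

/-- A subgroup permuting three sets, with the pointwise stabiliser `C`. -/
theorem three (N C : Subgroup G) (hCN : C ≤ N) (P : Fin 3 → Set G) (hP : Function.Injective P)
    (hperm : ∀ n ∈ N, ∀ i, ∃ j, conjSet n (P i) = P j)
    (hC : ∀ n ∈ N, (n ∈ C ↔ ∀ i, conjSet n (P i) = P i)) [Finite G] :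
    C.relIndex N ∣ 6 ∧
      (C.relIndex N = 6 → ∃ n ∈ N, Odd (orderOf n) ∧ ∀ i, conjSet n (P i) ≠ P i) := by
  classical
  choose f hf using fun (n : N) (i : Fin 3) => hperm n n.2 i
  have hmul : ∀ (a b : N) (i : Fin 3), f (a * b) i = f a (f b i) := fun a b i => by
    apply hP
    rw [← hf, ← hf, ← hf, conjSet_conjSet]
    rfl
  have hone : ∀ i : Fin 3, f 1 i = i := fun i => by
    apply hP
    rw [← hf]
    exact conjSet_one _
  let φ : N →* Equiv.Perm (Fin 3) :=
    MonoidHom.mk' (fun n =>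
      { toFun := f n
        invFun := f n⁻¹
        left_inv := fun i => by rw [← hmul, inv_mul_cancel, hone]
        right_inv := fun i => by rw [← hmul, mul_inv_cancel, hone] })
      (fun a b => Equiv.ext fun i => hmul a b i)
  have hker : φ.ker = C.subgroupOf N := by
    ext n
    rw [MonoidHom.mem_ker, mem_subgroupOf, hC n n.2]
    constructor
    · intro h i
      rw [hf]
      exact congrArg P (DFunLike.congr_fun h i)
    · intro h
      refine Equiv.ext fun i => hP ?_
      show P (f n i) = P i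
      rw [← hf, h i]
  have hidx : C.relIndex N = Nat.card φ.range := by
    rw [Subgroup.relIndex, ← hker, Subgroup.index_ker]
  have h6 : Nat.card (Equiv.Perm (Fin 3)) = 6 := by
    rw [Nat.card_perm, Nat.card_fin]; rfl
  refine ⟨hidx ▸ h6 ▸ Subgroup.card_subgroup_dvd_card _, fun h => ?_⟩
  have htop : φ.range = ⊤ := Subgroup.eq_top_of_card_eq _ (by rw [h6, ← hidx, h])
  obtain ⟨n₀, hn₀⟩ : finRotate 3 ∈ φ.range := htop ▸ mem_top _
  obtain ⟨a, m, hm, hd⟩ := Nat.exists_eq_two_pow_mul_odd (orderOf_pos (n₀ : G)).ne'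
  refine ⟨(n₀ : G) ^ 2 ^ a, pow_mem n₀.2 _, ?_, fun i hi => ?_⟩
  · rw [orderOf_pow' _ (pow_ne_zero _ two_ne_zero), hd, Nat.gcd_eq_right (dvd_mul_right _ _),
      Nat.mul_div_cancel_left _ (by positivity)]
    exact hm
  · have hfix : φ (n₀ ^ 2 ^ a) i = i := by
      apply hP
      show P (f (n₀ ^ 2 ^ a) i) = P i
      rw [← hf]
      simpa using hi
    rw [map_pow, hn₀] at hfix
    have h3 : (finRotate 3) ^ 3 = 1 := by decide
    rw [← Nat.mod_add_div (2 ^ a) 3, pow_add, pow_mul, h3, one_pow, mul_one] at hfix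
    have hlt := Nat.mod_lt (2 ^ a) (show 0 < 3 by norm_num)
    have hne : 2 ^ a % 3 ≠ 0 := fun h0 => absurd
      ((Nat.prime_dvd_prime_iff_eq Nat.prime_three Nat.prime_two).1
        (Nat.prime_three.dvd_of_dvd_pow (Nat.dvd_of_mod_eq_zero h0))) (by norm_num)
    generalize 2 ^ a % 3 = r at hfix hlt hne
    interval_cases r
    · exact hne rfl
    all_goals revert hfix; revert i; intro i _; fin_cases i <;> decide

/-- Iterates of an element of odd order moving a set do not fix it. -/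
theorem sq_moves [Finite G] {n : G} (hn : Odd (orderOf n)) {A : Set G} (h : conjSet n A ≠ A) :
    conjSet (n * n) A ≠ A := by
  intro h2
  apply h
  have key : ∀ i : ℕ, conjSet ((n * n) ^ i) A = A := by
    intro i
    induction i with
    | zero => rw [pow_zero, conjSet_one]
    | succ i ih => rw [pow_succ, ← conjSet_conjSet, h2, ih]
  obtain ⟨m, hm⟩ := hn
  have : (n * n) ^ (m + 1) = n := by
    rw [← pow_two, ← pow_mul, show 2 * (m + 1) = 2 * m + 1 + 1 by ring, pow_succ, ← hm,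
      pow_orderOf_eq_one, one_mul]
  rw [← this]
  exact key _

/-! ### Four groups -/

theorem four_elems {T : Subgroup G} (hT : IsKleinFour T) :
    ∃ a b : G, a ∈ T ∧ b ∈ T ∧ a ≠ 1 ∧ b ≠ 1 ∧ a ≠ b ∧ a * b ≠ 1 ∧ a ≠ a * b ∧ b ≠ a * b ∧
      ∀ w ∈ T, w = 1 ∨ w = a ∨ w = b ∨ w = a * b := by
  classical
  have := IsKleinFour.instFinite (G := T)
  have := Fintype.ofFinite T
  have : Nontrivial T := Finite.one_lt_card_iff_nontrivial.mp
    (by rw [show Nat.card T = 4 from IsKleinFour.card_four]; norm_num)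
  obtain ⟨a, ha⟩ := exists_ne (1 : T)
  obtain ⟨b, hb1, hb2⟩ : ∃ b : T, b ≠ 1 ∧ b ≠ a := by
    by_contra hno
    have hle : (Finset.univ : Finset T) ⊆ {1, a} := fun w _ => by
      by_cases h : w = 1
      · simp [h]
      · simp [not_not.1 fun h' => hno ⟨w, h, h'⟩]
    have := Finset.card_le_card hle
    have h2 : ({1, a} : Finset T).card ≤ 2 := Finset.card_le_two
    rw [Finset.card_univ, IsKleinFour.card_four'] at this
    omega
  have hab : a * b ≠ 1 := fun h => hb2 (by
    rw [← IsKleinFour.inv_eq_self a]; exact (inv_eq_of_mul_eq_one_right h).symm)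
  refine ⟨a, b, a.2, b.2, fun h => ha (Subtype.ext h), fun h => hb1 (Subtype.ext h),
    fun h => hb2 (Subtype.ext h).symm, fun h => hab (Subtype.ext h),
    fun h => hb1 (left_eq_mul.1 (Subtype.ext h : a = a * b)),
    fun h => ha (right_eq_mul.1 (Subtype.ext h : b = a * b)), fun w hw => ?_⟩
  by_cases h1 : (⟨w, hw⟩ : T) = 1
  · exact Or.inl (congrArg Subtype.val h1)
  by_cases h2 : (⟨w, hw⟩ : T) = a
  · exact Or.inr (Or.inl (congrArg Subtype.val h2))
  by_cases h3 : (⟨w, hw⟩ : T) = b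
  · exact Or.inr (Or.inr (Or.inl (congrArg Subtype.val h3)))
  · exact Or.inr (Or.inr (Or.inr (congrArg Subtype.val
      (IsKleinFour.eq_mul_of_ne_all ha hb1 (Ne.symm hb2) h1 h2 h3))))

theorem four_mul_eq {T : Subgroup G} (hT : IsKleinFour T) {u v w : G} (hu : u ∈ T) (hv : v ∈ T)
    (hw : w ∈ T) (hu1 : u ≠ 1) (hv1 : v ≠ 1) (hw1 : w ≠ 1) (huv : u ≠ v) (huw : u ≠ w)
    (hvw : v ≠ w) : w = u * v :=
  congrArg Subtype.val (IsKleinFour.eq_mul_of_ne_all (x := (⟨u, hu⟩ : T)) (y := ⟨v, hv⟩)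
    (z := ⟨w, hw⟩) (fun h => hu1 (congrArg Subtype.val h)) (fun h => hv1 (congrArg Subtype.val h))
    (fun h => huv (congrArg Subtype.val h)) (fun h => hw1 (congrArg Subtype.val h))
    (fun h => huw (congrArg Subtype.val h.symm)) (fun h => hvw (congrArg Subtype.val h.symm)))

/-- The automiser of a four group. -/
theorem four_three [Finite G] {T : Subgroup G} (hT : IsKleinFour T) :
    (centralizer (T : Set G)).relIndex (normalizer (T : Set G)) ∣ 6 ∧
      ((centralizer (T : Set G)).relIndex (normalizer (T : Set G)) = 6 →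
        ∃ n ∈ normalizer (T : Set G), Odd (orderOf n) ∧ ∀ u ∈ T, u ≠ 1 →
          n * u * n⁻¹ ≠ u ∧ u * (n * u * n⁻¹) * (n * n * u * (n * n)⁻¹) = 1) := by
  obtain ⟨a, b, ha, hb, ha1, hb1, hab, hab1, ha2, hb2, hall⟩ := four_elems hT
  let P : Fin 3 → Set G := ![{a}, {b}, {a * b}]
  have hP : Function.Injective P := by
    intro i j h
    fin_cases i <;> fin_cases j <;> simp_all [P]
  have hmemT : ∀ i, ∃ u, P i = {u} ∧ u ∈ T ∧ u ≠ 1 := by
    intro i
    fin_cases i
    exacts [⟨a, rfl, ha, ha1⟩, ⟨b, rfl, hb, hb1⟩, ⟨a * b, rfl, mul_mem ha hb, hab1⟩]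
  have hidx : ∀ u ∈ T, u ≠ 1 → ∃ i, P i = {u} := by
    intro u hu hu1
    rcases hall u hu with h | h | h | h
    exacts [absurd h hu1, ⟨0, by simp [P, h]⟩, ⟨1, by simp [P, h]⟩, ⟨2, by simp [P, h]⟩]
  have hperm : ∀ n ∈ normalizer (T : Set G), ∀ i, ∃ j, conjSet n (P i) = P j := by
    intro n hn i
    obtain ⟨u, hi, hu, hu1⟩ := hmemT i
    obtain ⟨j, hj⟩ := hidx (n * u * n⁻¹) ((mem_normalizer_iff.1 hn u).1 hu)
      (fun h => hu1 (conj_eq_one_iff.1 h))
    exact ⟨j, by rw [hi, hj]; simp [conjSet]⟩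
  have hker : ∀ n ∈ normalizer (T : Set G),
      (n ∈ centralizer (T : Set G) ↔ ∀ i, conjSet n (P i) = P i) := by
    intro n _
    constructor
    · intro hn i
      obtain ⟨u, hi, hu, -⟩ := hmemT i
      simp only [hi, conjSet, Set.image_singleton, Set.singleton_eq_singleton_iff]
      rw [← hn u hu, mul_inv_cancel_right]
    · intro h u hu
      by_cases hu1 : u = 1
      · simp [hu1]
      · obtain ⟨i, hi⟩ := hidx u hu hu1
        have := h i
        simp only [hi, conjSet, Set.image_singleton, Set.singleton_eq_singleton_iff] at this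
        rw [mul_inv_eq_iff_eq_mul] at this
        exact this.symm
  obtain ⟨h6, hn⟩ := three (normalizer (T : Set G)) (centralizer (T : Set G))
    (centralizer_le_normalizer _) P hP hperm hker
  refine ⟨h6, fun h => ?_⟩
  · obtain ⟨n, hnN, hodd, hmove⟩ := hn h
    refine ⟨n, hnN, hodd, fun u hu hu1 => ?_⟩
    obtain ⟨i, hi⟩ := hidx u hu hu1
    have hne : n * u * n⁻¹ ≠ u := fun h' => hmove i (by simp [hi, conjSet, h'])
    have hne2 : n * n * u * (n * n)⁻¹ ≠ u := fun h' =>
      sq_moves hodd (A := {u}) (hi ▸ hmove i) (by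
        rw [conjSet, Set.image_singleton]
        exact congrArg (fun w => ({w} : Set G)) h')
    have hu' : n * u * n⁻¹ ∈ T := (mem_normalizer_iff.1 hnN u).1 hu
    have hu'' : n * n * u * (n * n)⁻¹ ∈ T := (mem_normalizer_iff.1 (mul_mem hnN hnN) u).1 hu
    refine ⟨hne, ?_⟩
    rw [four_mul_eq hT hu hu' hu'' hu1 (fun h' => hu1 (conj_eq_one_iff.1 h'))
      (fun h' => hu1 (conj_eq_one_iff.1 h')) (Ne.symm hne) (Ne.symm hne2)
      (fun h' => hne (by
        refine mul_left_cancel (a := n) (mul_right_cancel (b := n⁻¹) ?_)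
        calc n * (n * u * n⁻¹) * n⁻¹ = n * n * u * (n * n)⁻¹ := by group
          _ = n * u * n⁻¹ := h'.symm))]
    exact sq_of_mem_kleinFour hT (mul_mem hu hu')

/-! ### Quaternion groups of order eight -/

theorem model_cases : ∀ u : QuaternionGroup 2, u * u ≠ 1 →
    u = QuaternionGroup.a 1 ∨ u = (QuaternionGroup.a 1)⁻¹ ∨
    u = QuaternionGroup.xa 0 ∨ u = (QuaternionGroup.xa 0)⁻¹ ∨
    u = QuaternionGroup.a 1 * QuaternionGroup.xa 0 ∨
    u = (QuaternionGroup.a 1 * QuaternionGroup.xa 0)⁻¹ := by decide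

theorem model_product : ∀ u v w : QuaternionGroup 2, u * u ≠ 1 → v * v ≠ 1 → w * w ≠ 1 →
    v ≠ u → v ≠ u⁻¹ → w ≠ u → w ≠ u⁻¹ → w ≠ v → w ≠ v⁻¹ →
      u * v * w = 1 ∨ u * v * w = u * u := by decide

theorem model_conj : ∀ q u : QuaternionGroup 2, q * u * q⁻¹ = u ∨ q * u * q⁻¹ = u⁻¹ := by decide

theorem model_invert : ∀ u : QuaternionGroup 2, u * u ≠ 1 →
    ∃ q : QuaternionGroup 2, q * u * q⁻¹ = u⁻¹ := by decide

theorem model_sq : ∀ u v : QuaternionGroup 2, u * u ≠ 1 → v * v ≠ 1 → v * v = u * u := by decide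

theorem model_generated (i : ZMod (2 * 2)) :
    (QuaternionGroup.a i : QuaternionGroup 2) = QuaternionGroup.a 1 ^ i.val ∧
      (QuaternionGroup.xa i : QuaternionGroup 2) =
        QuaternionGroup.xa 0 * QuaternionGroup.a 1 ^ i.val := by
  rw [QuaternionGroup.a_one_pow, ZMod.natCast_zmod_val, QuaternionGroup.xa_mul_a, zero_add]
  exact ⟨rfl, rfl⟩

/-- An element centralising the standard generators centralises a quaternion subgroup. -/
theorem centralizes_quaternion {Q : Subgroup G} (e : Q ≃* QuaternionGroup 2) {c : G}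
    (ha : Commute c (e.symm (QuaternionGroup.a 1) : G))
    (hb : Commute c (e.symm (QuaternionGroup.xa 0) : G)) :
    c ∈ centralizer (Q : Set G) := by
  intro w hw
  obtain ⟨u, hu⟩ : ∃ u, e.symm u = ⟨w, hw⟩ := ⟨e ⟨w, hw⟩, e.symm_apply_apply _⟩
  have hcomm : Commute c (e.symm u : G) := by
    cases u with
    | a i =>
      rw [(model_generated i).1, map_pow, SubmonoidClass.coe_pow]
      exact ha.pow_right _
    | xa i =>
      rw [(model_generated i).2, map_mul, map_pow, Subgroup.coe_mul, SubmonoidClass.coe_pow]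
      exact hb.mul_right (ha.pow_right _)
  rw [hu] at hcomm
  exact hcomm.eq.symm

/-- The automiser of a quaternion group of order eight. -/
theorem quat_three [Finite G] {Q : Subgroup G} (e : Q ≃* QuaternionGroup 2) :
    (Q ⊔ centralizer (Q : Set G)).relIndex (normalizer (Q : Set G)) ∣ 6 ∧
      ((Q ⊔ centralizer (Q : Set G)).relIndex (normalizer (Q : Set G)) = 6 →
        ∃ n ∈ normalizer (Q : Set G), Odd (orderOf n) ∧ ∀ u ∈ Q, u * u ≠ 1 →
          n * u * n⁻¹ ≠ u ∧ n * u * n⁻¹ ≠ u⁻¹ ∧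
            (u * (n * u * n⁻¹) * (n * n * u * (n * n)⁻¹) = 1 ∨
              u * (n * u * n⁻¹) * (n * n * u * (n * n)⁻¹) = u * u)) := by
  set a : G := (e.symm (QuaternionGroup.a 1) : G) with hadef
  set b : G := (e.symm (QuaternionGroup.xa 0) : G) with hbdef
  let P : Fin 3 → Set G := ![{a, a⁻¹}, {b, b⁻¹}, {a * b, (a * b)⁻¹}]
  have haQ : a ∈ Q := (e.symm (QuaternionGroup.a 1)).2
  have hbQ : b ∈ Q := (e.symm (QuaternionGroup.xa 0)).2
  have transfer : ∀ {u : G} (hu : u ∈ Q), u * u ≠ 1 → e ⟨u, hu⟩ * e ⟨u, hu⟩ ≠ 1 := by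
    intro u hu h1 h
    rw [← map_mul, MulEquiv.map_eq_one_iff] at h
    exact h1 (congrArg Subtype.val h)
  have back : ∀ {u : G} (hu : u ∈ Q) (q : Q), e ⟨u, hu⟩ = e q → u = (q : G) :=
    fun hu q h => congrArg Subtype.val (e.injective h)
  have hidx : ∀ u ∈ Q, u * u ≠ 1 → ∃ i, P i = {u, u⁻¹} := by
    intro u hu hu2
    have hA : e ⟨a, haQ⟩ = QuaternionGroup.a 1 := e.apply_symm_apply _
    have hB : e ⟨b, hbQ⟩ = QuaternionGroup.xa 0 := e.apply_symm_apply _
    rcases model_cases _ (transfer hu hu2) with h | h | h | h | h | h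
    · exact ⟨0, by rw [back hu _ (h.trans hA.symm)]; rfl⟩
    · rw [← hA, ← map_inv] at h
      exact ⟨0, by simp [P, back hu _ h, Set.pair_comm]⟩
    · exact ⟨1, by rw [back hu _ (h.trans hB.symm)]; rfl⟩
    · rw [← hB, ← map_inv] at h
      exact ⟨1, by simp [P, back hu _ h, Set.pair_comm]⟩
    · rw [← hA, ← hB, ← map_mul] at h
      exact ⟨2, by simp [P, back hu _ h]⟩
    · rw [← hA, ← hB, ← map_mul, ← map_inv] at h
      exact ⟨2, by simp [P, back hu _ h, Set.pair_comm]⟩
  have hmemQ : ∀ i, ∃ u, P i = {u, u⁻¹} ∧ u ∈ Q ∧ u * u ≠ 1 := by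
    have hne : ∀ {u : QuaternionGroup 2}, u * u ≠ 1 →
        (e.symm u : G) * (e.symm u : G) ≠ 1 := fun {u} h h' => h (by
      rw [← MulEquiv.map_eq_one_iff e.symm, map_mul]
      exact Subtype.ext h')
    intro i
    fin_cases i
    · exact ⟨a, rfl, haQ, hne (by decide)⟩
    · exact ⟨b, rfl, hbQ, hne (by decide)⟩
    · refine ⟨a * b, rfl, mul_mem haQ hbQ, ?_⟩
      have := hne (u := QuaternionGroup.a 1 * QuaternionGroup.xa 0) (by decide)
      rwa [map_mul] at this
  have hP : Function.Injective P := by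
    intro i j h
    have ev : ∀ {u v : QuaternionGroup 2}, (e.symm u : G) ∈ ({(e.symm v : G),
        (e.symm v : G)⁻¹} : Set G) → u = v ∨ u = v⁻¹ := fun {u v} h => by
      rcases h with h | h
      · exact Or.inl (e.symm.injective (Subtype.ext h))
      · refine Or.inr (e.symm.injective (Subtype.ext ?_))
        rw [map_inv]
        exact h
    have hab : a * b = (e.symm (QuaternionGroup.a 1 * QuaternionGroup.xa 0) : G) := by
      rw [map_mul]; rfl
    have key : ∀ i, ∃ u : QuaternionGroup 2, P i = {(e.symm u : G), (e.symm u : G)⁻¹} ∧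
        u = ![QuaternionGroup.a 1, QuaternionGroup.xa 0,
          QuaternionGroup.a 1 * QuaternionGroup.xa 0] i := by
      intro i
      fin_cases i
      exacts [⟨_, rfl, rfl⟩, ⟨_, rfl, rfl⟩, ⟨_, by simp [P, hab], rfl⟩]
    obtain ⟨u, hu, hu'⟩ := key i
    obtain ⟨v, hv, hv'⟩ := key j
    have h2 := ev (u := u) (v := v) (by rw [← hv, ← h, hu]; exact Or.inl rfl)
    subst hu' hv'
    revert h2
    revert i j
    intro i j _ _ _
    fin_cases i <;> fin_cases j <;> decide
  have hD : ∀ n ∈ normalizer (Q : Set G),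
      (n ∈ Q ⊔ centralizer (Q : Set G) ↔ ∀ i, conjSet n (P i) = P i) := by
    intro n hn
    constructor
    · intro hm i
      obtain ⟨u, hi, hu, -⟩ := hmemQ i
      rw [← SetLike.mem_coe, Subgroup.coe_mul_of_right_le_normalizer_left Q _
        (centralizer_le_normalizer _), Set.mem_mul] at hm
      obtain ⟨q, hq, c, hc, rfl⟩ := hm
      have hcu : q * c * u * (q * c)⁻¹ = q * u * q⁻¹ := by
        rw [mul_assoc q c u, ← hc u hu]; group
      have hpair : conjSet (q * c) {u, u⁻¹} = {q * u * q⁻¹, (q * u * q⁻¹)⁻¹} := by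
        rw [conjSet, Set.image_pair, ← conj_inv, hcu]
      rw [hi, hpair]
      rcases model_conj (e ⟨q, hq⟩) (e ⟨u, hu⟩) with h | h
      · rw [← map_inv, ← map_mul, ← map_mul] at h
        rw [show q * u * q⁻¹ = u from congrArg Subtype.val (e.injective h)]
      · rw [← map_inv, ← map_inv, ← map_mul, ← map_mul] at h
        rw [show q * u * q⁻¹ = u⁻¹ from congrArg Subtype.val (e.injective h), inv_inv,
          Set.pair_comm]
    · intro h
      have ha' : n * a * n⁻¹ = a ∨ n * a * n⁻¹ = a⁻¹ := by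
        have hm : n * a * n⁻¹ ∈ P 0 := by rw [← h 0]; exact ⟨a, Or.inl rfl, rfl⟩
        exact hm
      have hb' : n * b * n⁻¹ = b ∨ n * b * n⁻¹ = b⁻¹ := by
        have hm : n * b * n⁻¹ ∈ P 1 := by rw [← h 1]; exact ⟨b, Or.inl rfl, rfl⟩
        exact hm
      have hm : ∀ {u v : QuaternionGroup 2},
          (∃ q : QuaternionGroup 2, q * QuaternionGroup.a 1 * q⁻¹ = u ∧
            q * QuaternionGroup.xa 0 * q⁻¹ = v) → n * a * n⁻¹ = (e.symm u : G) →
          n * b * n⁻¹ = (e.symm v : G) → n ∈ Q ⊔ centralizer (Q : Set G) := by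
        rintro u v ⟨q, hqu, hqv⟩ hu hv
        have hc : (e.symm q : G)⁻¹ * n ∈ centralizer (Q : Set G) := by
          refine centralizes_quaternion e ?_ ?_
          · show (e.symm q : G)⁻¹ * n * a = a * ((e.symm q : G)⁻¹ * n)
            calc (e.symm q : G)⁻¹ * n * a
                = (e.symm q : G)⁻¹ * (n * a * n⁻¹) * n := by group
              _ = (e.symm q : G)⁻¹ * ((e.symm q : G) * a * (e.symm q : G)⁻¹) * n := by
                  rw [hu, ← hqu, map_mul, map_mul, map_inv]; rfl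
              _ = a * ((e.symm q : G)⁻¹ * n) := by group
          · show (e.symm q : G)⁻¹ * n * b = b * ((e.symm q : G)⁻¹ * n)
            calc (e.symm q : G)⁻¹ * n * b
                = (e.symm q : G)⁻¹ * (n * b * n⁻¹) * n := by group
              _ = (e.symm q : G)⁻¹ * ((e.symm q : G) * b * (e.symm q : G)⁻¹) * n := by
                  rw [hv, ← hqv, map_mul, map_mul, map_inv]; rfl
              _ = b * ((e.symm q : G)⁻¹ * n) := by group
        have := mul_mem (mem_sup_left (e.symm q).2 : (e.symm q : G) ∈ Q ⊔ centralizer (Q : Set G))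
          (mem_sup_right hc)
        rwa [mul_inv_cancel_left] at this
      rcases ha' with ha' | ha' <;> rcases hb' with hb' | hb'
      · exact hm (u := QuaternionGroup.a 1) (v := QuaternionGroup.xa 0) (by decide) ha' hb'
      · exact hm (u := QuaternionGroup.a 1) (v := (QuaternionGroup.xa 0)⁻¹) (by decide) ha'
          (by rw [map_inv]; exact hb')
      · exact hm (u := (QuaternionGroup.a 1)⁻¹) (v := QuaternionGroup.xa 0) (by decide)
          (by rw [map_inv]; exact ha') hb'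
      · exact hm (u := (QuaternionGroup.a 1)⁻¹) (v := (QuaternionGroup.xa 0)⁻¹) (by decide)
          (by rw [map_inv]; exact ha') (by rw [map_inv]; exact hb')
  have hperm : ∀ n ∈ normalizer (Q : Set G), ∀ i, ∃ j, conjSet n (P i) = P j := by
    intro n hn i
    obtain ⟨u, hi, hu, hu2⟩ := hmemQ i
    obtain ⟨j, hj⟩ := hidx (n * u * n⁻¹) ((mem_normalizer_iff.1 hn u).1 hu)
      (by rw [conj_mul]; exact fun h => hu2 (conj_eq_one_iff.1 h))
    exact ⟨j, by rw [hi, hj, conjSet, Set.image_pair, ← conj_inv]⟩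
  obtain ⟨h6, hn⟩ := three (normalizer (Q : Set G)) (Q ⊔ centralizer (Q : Set G))
    (sup_le le_normalizer (centralizer_le_normalizer _)) P hP hperm hD
  refine ⟨h6, fun h => ?_⟩
  obtain ⟨n, hnN, hodd, hmove⟩ := hn h
  refine ⟨n, hnN, hodd, fun u hu hu2 => ?_⟩
  obtain ⟨i, hi⟩ := hidx u hu hu2
  have hpair : ∀ m : G, conjSet m {u, u⁻¹} = {m * u * m⁻¹, (m * u * m⁻¹)⁻¹} := fun m => by
    rw [conjSet, Set.image_pair, ← conj_inv]
  have hfix : ∀ m : G, m * u * m⁻¹ = u ∨ m * u * m⁻¹ = u⁻¹ → conjSet m {u, u⁻¹} = {u, u⁻¹} := by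
    intro m hm
    rw [hpair]
    rcases hm with h | h <;> rw [h]
    rw [inv_inv, Set.pair_comm]
  have hm1 : ¬(n * u * n⁻¹ = u ∨ n * u * n⁻¹ = u⁻¹) := fun h' => hmove i (hi ▸ hfix n h')
  have hm2 : ¬(n * n * u * (n * n)⁻¹ = u ∨ n * n * u * (n * n)⁻¹ = u⁻¹) := fun h' =>
    sq_moves hodd (A := {u, u⁻¹}) (hi ▸ hmove i) (hfix _ h')
  refine ⟨fun h' => hm1 (Or.inl h'), fun h' => hm1 (Or.inr h'), ?_⟩
  have hu' : n * u * n⁻¹ ∈ Q := (mem_normalizer_iff.1 hnN u).1 hu
  have hu'' : n * n * u * (n * n)⁻¹ ∈ Q := (mem_normalizer_iff.1 (mul_mem hnN hnN) u).1 hu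
  have hsq : ∀ m : G, m * u * m⁻¹ * (m * u * m⁻¹) ≠ 1 := fun m => by
    rw [conj_mul]; exact fun h' => hu2 (conj_eq_one_iff.1 h')
  have h3 : ¬(n * n * u * (n * n)⁻¹ = n * u * n⁻¹ ∨
      n * n * u * (n * n)⁻¹ = (n * u * n⁻¹)⁻¹) := by
    rintro (h' | h')
    · refine hm1 (Or.inl (mul_left_cancel (a := n) (mul_right_cancel (b := n⁻¹) ?_)))
      calc n * (n * u * n⁻¹) * n⁻¹ = n * n * u * (n * n)⁻¹ := by group
        _ = n * u * n⁻¹ := h'
    · refine hm1 (Or.inr (mul_left_cancel (a := n) (mul_right_cancel (b := n⁻¹) ?_)))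
      calc n * (n * u * n⁻¹) * n⁻¹ = n * n * u * (n * n)⁻¹ := by group
        _ = (n * u * n⁻¹)⁻¹ := h'
        _ = n * u⁻¹ * n⁻¹ := by group
  rcases model_product (e ⟨u, hu⟩) (e ⟨_, hu'⟩) (e ⟨_, hu''⟩) (transfer hu hu2)
    (transfer hu' (hsq n)) (transfer hu'' (hsq (n * n)))
    (fun h' => hm1 (Or.inl (back hu' _ h')))
    (fun h' => hm1 (Or.inr (back hu' _ (h'.trans (map_inv e _).symm))))
    (fun h' => hm2 (Or.inl (back hu'' _ h')))
    (fun h' => hm2 (Or.inr (back hu'' _ (h'.trans (map_inv e _).symm))))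
    (fun h' => h3 (Or.inl (back hu'' _ h')))
    (fun h' => h3 (Or.inr (back hu'' _ (h'.trans (map_inv e _).symm)))) with h' | h'
  · rw [← map_mul, ← map_mul, MulEquiv.map_eq_one_iff] at h'
    exact Or.inl (congrArg Subtype.val h')
  · rw [← map_mul, ← map_mul, ← map_mul] at h'
    exact Or.inr (congrArg Subtype.val (e.injective h'))

/-! ### Index two -/

/-- If a subgroup has index two and `s` lies outside it, every element is in it up to `s`. -/
theorem mem_or_mem_of_relIndex_two {N D : Subgroup G} (h : D.relIndex N = 2) {s : G} (hs : s ∈ N)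
    (hsD : s ∉ D) {n : G} (hn : n ∈ N) : n ∈ D ∨ s⁻¹ * n ∈ D := by
  by_cases hnD : n ∈ D
  · exact Or.inl hnD
  · refine Or.inr ?_
    have := (Subgroup.mul_mem_iff_of_index_two (H := D.subgroupOf N) h
      (a := (⟨s, hs⟩ : N)⁻¹) (b := ⟨n, hn⟩))
    rw [inv_mem_iff] at this
    exact this.2 (iff_of_false hsD hnD)

/-- A conjugation-invariant way to show that `u` lies in a subgroup of index two. -/
theorem mem_of_product_mem {H : Subgroup G} {N : Subgroup G} (hH : H.relIndex N = 2) {n u : G}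
    (hn : n ∈ N) (hu : u ∈ N) (h : u * (n * u * n⁻¹) * (n * n * u * (n * n)⁻¹) ∈ H) : u ∈ H := by
  by_contra huH
  have key := fun (a b : N) => Subgroup.mul_mem_iff_of_index_two (H := H.subgroupOf N) hH
    (a := a) (b := b)
  have h1 : ((⟨u, hu⟩ : N) * (⟨n, hn⟩ * ⟨u, hu⟩ * (⟨n, hn⟩ : N)⁻¹) *
      (⟨n, hn⟩ * ⟨n, hn⟩ * ⟨u, hu⟩ * ((⟨n, hn⟩ : N) * ⟨n, hn⟩)⁻¹)) ∈ H.subgroupOf N := h
  have h2 : (⟨u, hu⟩ : N) ∉ H.subgroupOf N := huH
  simp only [key, inv_mem_iff] at h1
  tauto

end Cfsg.Agent.Lib.TwoGroups.Triangle
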