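import Mathlib
import Cfsg.Prelude.Def_Transfer
import Cfsg.Agent.Lib.TwoGroups.QuasiDihedral
import Cfsg.Agent.Lib.TwoGroups.QDAut
import Cfsg.Agent.Lib.TwoGroups.Triangle
import Cfsg.Agent.Lib.TwoGroups.FusionCentric
import Cfsg.Agent.Lib.TwoGroups.Classes
import Cfsg.Agent.Lib.Transfer.Fusion

/-!
Fusion in groups with quasi-dihedral Sylow 2-subgroups.
-/

set_option autoImplicit false
set_option linter.unusedSectionVars false

namespace Cfsg.Agent.Lib.TwoGroups.QDFusion

open Subgroup Cfsg.Agent.Lib.TwoGroups.Recognition Cfsg.Agent.Lib.TwoGroups.CyclicIndexTwo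
  Cfsg.Agent.Lib.TwoGroups.QuasiDihedral Cfsg.Agent.Lib.TwoGroups.Triangle

variable {G : Type*} [Group G]

/-! ### Generalities about normalisers -/

/-- Every element of the normaliser acts on `T` like an element of `S`. -/
def ActsLike (S T : Subgroup G) : Prop :=
  ∀ n ∈ normalizer (T : Set G), ∃ s ∈ S, ∀ w ∈ T, n * w * n⁻¹ = s * w * s⁻¹

theorem mem_normalizer_conj {T : Subgroup G} {s n : G}
    (hn : n ∈ normalizer ((T.map (MulAut.conj s).toMonoidHom : Subgroup G) : Set G)) :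
    s⁻¹ * n * s ∈ normalizer (T : Set G) := by
  rw [mem_normalizer_iff]
  intro w
  have h := mem_normalizer_iff.1 hn (s * w * s⁻¹)
  have hiff : ∀ v, s * v * s⁻¹ ∈ T.map (MulAut.conj s).toMonoidHom ↔ v ∈ T := fun v =>
    Subgroup.mem_map_iff_mem (f := (MulAut.conj s).toMonoidHom) (MulAut.conj s).injective
  rw [show n * (s * w * s⁻¹) * n⁻¹ = s * (s⁻¹ * n * s * w * (s⁻¹ * n * s)⁻¹) * s⁻¹ by group,
    hiff, hiff] at h
  exact h

theorem conj_mem_normalizer {T : Subgroup G} {s n : G} (hn : n ∈ normalizer (T : Set G)) :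
    s * n * s⁻¹ ∈ normalizer ((T.map (MulAut.conj s).toMonoidHom : Subgroup G) : Set G) := by
  rw [mem_normalizer_iff]
  intro w
  have h := mem_normalizer_iff.1 hn (s⁻¹ * w * s)
  have hiff : ∀ v, v ∈ T.map (MulAut.conj s).toMonoidHom ↔ s⁻¹ * v * s ∈ T := fun v => by
    constructor
    · rintro ⟨u, hu, rfl⟩
      show s⁻¹ * (s * u * s⁻¹) * s ∈ T
      rwa [show s⁻¹ * (s * u * s⁻¹) * s = u by group]
    · intro h
      exact ⟨s⁻¹ * v * s, h, by show s * (s⁻¹ * v * s) * s⁻¹ = v; group⟩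
  rw [hiff, hiff, h, show n * (s⁻¹ * w * s) * n⁻¹ =
    s⁻¹ * (s * n * s⁻¹ * w * (s * n * s⁻¹)⁻¹) * s by group]

theorem ActsLike.conj {S T : Subgroup G} (h : ActsLike S T) {s : G} (hs : s ∈ S) :
    ActsLike S (T.map (MulAut.conj s).toMonoidHom) := by
  intro n hn
  obtain ⟨t, ht, htw⟩ := h _ (mem_normalizer_conj hn)
  refine ⟨s * t * s⁻¹, mul_mem (mul_mem hs ht) (inv_mem hs), ?_⟩
  rintro _ ⟨w, hw, rfl⟩
  show n * (s * w * s⁻¹) * n⁻¹ = s * t * s⁻¹ * (s * w * s⁻¹) * (s * t * s⁻¹)⁻¹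
  calc n * (s * w * s⁻¹) * n⁻¹ = s * (s⁻¹ * n * s * w * (s⁻¹ * n * s)⁻¹) * s⁻¹ := by group
    _ = s * (t * w * t⁻¹) * s⁻¹ := by rw [htw w hw]
    _ = _ := by group

theorem normal_centralizer_subgroupOf (T : Subgroup G) :
    ((centralizer (T : Set G)).subgroupOf (normalizer (T : Set G))).Normal := by
  refine ⟨fun c hc n => ?_⟩
  rw [mem_subgroupOf] at hc ⊢
  intro w hw
  have hw' : (n : G)⁻¹ * w * (n : G) ∈ T := (mem_normalizer_iff''.1 n.2 w).1 hw
  have := hc _ hw'
  show w * ((n : G) * c * (n : G)⁻¹) = (n : G) * c * (n : G)⁻¹ * w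
  calc w * ((n : G) * c * (n : G)⁻¹) = (n : G) * ((n : G)⁻¹ * w * n * c) * (n : G)⁻¹ := by group
    _ = (n : G) * (c * ((n : G)⁻¹ * w * n)) * (n : G)⁻¹ := by rw [this]
    _ = (n : G) * c * (n : G)⁻¹ * w := by group

theorem normal_sup_centralizer_subgroupOf (T : Subgroup G) :
    ((T ⊔ centralizer (T : Set G)).subgroupOf (normalizer (T : Set G))).Normal := by
  have h1 := normal_centralizer_subgroupOf T
  have h2 : (T.subgroupOf (normalizer (T : Set G))).Normal := Subgroup.normal_in_normalizer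
  rw [Subgroup.subgroupOf_sup le_normalizer (centralizer_le_normalizer _)]
  infer_instance

/-- A normal subgroup of odd index contains the 2-elements. -/
theorem even_relIndex [Finite G] {N D : Subgroup G} (hn : (D.subgroupOf N).Normal) {s : G}
    (hs : s ∈ N) (hsD : s ∉ D) {a : ℕ} (hsa : s ^ 2 ^ a = 1) : 2 ∣ D.relIndex N := by
  by_contra hodd
  apply hsD
  have h1 := (D.subgroupOf N).pow_index_mem (⟨s, hs⟩ : N)
  rw [mem_subgroupOf, SubmonoidClass.coe_pow] at h1
  have hcop : Nat.Coprime (2 ^ a) (D.relIndex N) :=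
    (Nat.prime_two.coprime_iff_not_dvd.2 hodd).pow_left a
  have h2 : ((orderOf s).Coprime (D.relIndex N)) :=
    hcop.coprime_dvd_left (orderOf_dvd_of_pow_eq_one hsa)
  obtain ⟨r, hr⟩ := exists_pow_eq_self_of_coprime (x := s) h2.symm
  have h3 : (s ^ D.relIndex N) ^ r ∈ D := pow_mem h1 r
  rwa [hr] at h3

theorem eq_two_or_six {m : ℕ} (h : m ∣ 6) (h2 : 2 ∣ m) : m = 2 ∨ m = 6 := by
  have := Nat.le_of_dvd (by norm_num) h
  interval_cases m <;> omega

theorem exists_conj_mem [Finite G] {p : ℕ} [Fact p.Prime] (S : Sylow p G) {t : G} {a : ℕ}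
    (ht : orderOf t = p ^ a) : ∃ g : G, g * t * g⁻¹ ∈ S := by
  have h : IsPGroup p (zpowers t) := IsPGroup.of_card (n := a) (by rw [Nat.card_zpowers, ht])
  obtain ⟨P, hP⟩ := h.exists_le_sylow
  obtain ⟨g, rfl⟩ := MulAction.exists_smul_eq G P S
  exact ⟨g, ⟨t, hP (mem_zpowers t), rfl⟩⟩

theorem isPGroup_mulAut_congr {A B : Type*} [Group A] [Group B] {p : ℕ} (e : A ≃* B)
    (h : IsPGroup p (MulAut A)) : IsPGroup p (MulAut B) :=
  h.of_equiv (MulAut.congr e)

/-- The trace on a Sylow subgroup of a normal subgroup with the same index has odd index in it. -/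
theorem not_dvd_relIndex [Finite G] {p : ℕ} [Fact p.Prime] (S : Sylow p G) {K M : Subgroup G}
    (hMK : M ≤ K) (hMS : M ≤ S) (hidx : K.index = M.relIndex (S : Subgroup G)) :
    ¬ p ∣ M.relIndex K := by
  have h1 := relIndex_mul_index hMK
  have h2 := relIndex_mul_index hMS
  rw [hidx, ← h2, mul_comm] at h1
  have hne : M.relIndex (S : Subgroup G) ≠ 0 := fun h => by
    rw [h] at hidx
    exact K.index_ne_zero_of_finite hidx
  rw [Nat.eq_of_mul_eq_mul_left (Nat.pos_of_ne_zero hne) h1]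
  exact S.not_dvd_index

theorem index_two_absurd [Finite G] {K M : Subgroup G} (hodd : ¬ 2 ∣ M.relIndex K)
    (H : Subgroup K) (hH : H.index = 2) (hM : M.subgroupOf K ≤ H) : False := by
  exact hodd (hH ▸ Subgroup.index_dvd_of_le hM)

/-! ### Inside a quasi-dihedral Sylow subgroup -/

variable [Finite G] {S : Sylow 2 G} {k : ℕ} {x y : (S : Subgroup G)}

local notation "c" => powZ (2 ^ (k + 3)) x

theorem four_subgroupOf {T : Subgroup G} (hT : IsKleinFour T) (hTS : T ≤ S) :
    IsKleinFour (T.subgroupOf (S : Subgroup G)) := by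
  refine isKleinFour_of_card ?_ fun h hh => Subtype.ext (sq_of_mem_kleinFour hT hh)
  rw [Nat.card_congr (subgroupOfEquivOfLe hTS).toEquiv]
  exact IsKleinFour.card_four

theorem map_subgroupOf_conj {T T' : Subgroup G} (hT : T ≤ (S : Subgroup G))
    (hT' : T' ≤ (S : Subgroup G)) {s : (S : Subgroup G)}
    (h : (T.subgroupOf (S : Subgroup G)).map (MulAut.conj s).toMonoidHom =
      T'.subgroupOf (S : Subgroup G)) :
    T.map (MulAut.conj (s : G)).toMonoidHom = T' := by
  ext w
  constructor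
  · rintro ⟨v, hv, rfl⟩
    have : MulAut.conj s ⟨v, hT hv⟩ ∈ T'.subgroupOf (S : Subgroup G) := h ▸ ⟨⟨v, hT hv⟩, hv, rfl⟩
    exact this
  · intro hw
    obtain ⟨v, hv, hvw⟩ : (⟨w, hT' hw⟩ : (S : Subgroup G)) ∈
        (T.subgroupOf (S : Subgroup G)).map (MulAut.conj s).toMonoidHom := by rw [h]; exact hw
    exact ⟨(v : G), hv, congrArg Subtype.val hvw⟩

theorem exists_four_conj (D : QD k x y) {T T' : Subgroup G} (hT : IsKleinFour T) (hTS : T ≤ S)
    (hT' : IsKleinFour T') (hTS' : T' ≤ S) :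
    ∃ s ∈ S, T.map (MulAut.conj s).toMonoidHom = T' := by
  obtain ⟨s, hs⟩ := four_conj D (four_subgroupOf hT hTS) (four_subgroupOf hT' hTS')
  exact ⟨s, s.2, map_subgroupOf_conj hTS hTS' hs⟩

theorem exists_quat_conj (D : QD k x y) {Q Q' : Subgroup G} (e : Q ≃* QuaternionGroup 2)
    (hQS : Q ≤ S) (e' : Q' ≃* QuaternionGroup 2) (hQS' : Q' ≤ S) :
    ∃ s ∈ S, Q.map (MulAut.conj s).toMonoidHom = Q' := by
  obtain ⟨s, hs⟩ := quaternion_conj D ((subgroupOfEquivOfLe hQS).trans e)
    ((subgroupOfEquivOfLe hQS').trans e')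
  exact ⟨s, s.2, map_subgroupOf_conj hQS hQS' hs⟩

theorem normalizer_subgroupOf_le {T : Subgroup G} (hTS : T ≤ S) {s : (S : Subgroup G)}
    (hs : s ∈ normalizer (T.subgroupOf (S : Subgroup G) : Set (S : Subgroup G))) :
    (s : G) ∈ normalizer (T : Set G) := by
  rw [mem_normalizer_iff]
  intro w
  constructor
  · intro hw
    exact (mem_normalizer_iff.1 hs ⟨w, hTS hw⟩).1 hw
  · intro hw
    have hwS : w ∈ (S : Subgroup G) := by
      have h0 := mul_mem (mul_mem (inv_mem s.2) (hTS hw)) s.2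
      simpa [mul_assoc] using h0
    exact (mem_normalizer_iff.1 hs ⟨w, hwS⟩).2 hw

/-- An element of `S` normalising a four group but not centralising it. -/
theorem exists_outer_four (D : QD k x y) {T : Subgroup G} (hT : IsKleinFour T) (hTS : T ≤ S) :
    ∃ s ∈ S, s ∈ normalizer (T : Set G) ∧ s ∉ centralizer (T : Set G) := by
  have hsub := four_subgroupOf hT hTS
  have h := relIndex_normalizer_four D hsub
  have hne : ¬ normalizer (T.subgroupOf (S : Subgroup G) : Set (S : Subgroup G)) ≤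
      T.subgroupOf (S : Subgroup G) := fun hle => by
    rw [relIndex_eq_one.2 hle] at h; omega
  obtain ⟨s, hs, hsT⟩ := SetLike.not_le_iff_exists.1 hne
  refine ⟨s, s.2, normalizer_subgroupOf_le hTS hs, fun hc => hsT ?_⟩
  have : s ∈ centralizer (T.subgroupOf (S : Subgroup G) : Set (S : Subgroup G)) :=
    fun w hw => Subtype.ext (hc w hw)
  rwa [centralizer_four D hsub] at this

/-- An element of `S` normalising a quaternion subgroup and lying outside `Q * C(Q)`. -/
theorem exists_outer_quat (D : QD k x y) {Q : Subgroup G} (e : Q ≃* QuaternionGroup 2)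
    (hQS : Q ≤ S) :
    ∃ s ∈ S, s ∈ normalizer (Q : Set G) ∧ s ∉ Q ⊔ centralizer (Q : Set G) := by
  have e' := (subgroupOfEquivOfLe hQS).trans e
  have h := relIndex_normalizer_quaternion D e'
  have hne : ¬ normalizer (Q.subgroupOf (S : Subgroup G) : Set (S : Subgroup G)) ≤
      Q.subgroupOf (S : Subgroup G) := fun hle => by
    rw [relIndex_eq_one.2 hle] at h; omega
  obtain ⟨s, hs, hsT⟩ := SetLike.not_le_iff_exists.1 hne
  refine ⟨s, s.2, normalizer_subgroupOf_le hQS hs, fun hm => hsT ?_⟩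
  rw [← SetLike.mem_coe, Subgroup.coe_mul_of_right_le_normalizer_left Q _
    (centralizer_le_normalizer _), Set.mem_mul] at hm
  obtain ⟨q, hq, w, hw, hqw⟩ := hm
  have hwS : w ∈ (S : Subgroup G) := by
    have := mul_mem (inv_mem (hQS hq)) s.2
    rwa [← hqw, inv_mul_cancel_left] at this
  have h1 : (⟨w, hwS⟩ : (S : Subgroup G)) ∈
      centralizer (Q.subgroupOf (S : Subgroup G) : Set (S : Subgroup G)) :=
    fun v hv => Subtype.ext (hw v hv)
  rw [centralizer_quaternion D e'] at h1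
  obtain ⟨v, -, hv⟩ := h1
  show (s : G) ∈ Q
  rw [← hqw]
  refine mul_mem hq ?_
  have : (v : (S : Subgroup G)) = ⟨w, hwS⟩ := hv
  have h' : ((v : (S : Subgroup G)) : G) = w := congrArg Subtype.val this
  rw [← h']
  exact v.2

theorem sylow_pow (s : G) (hs : s ∈ S) : ∃ a : ℕ, s ^ 2 ^ a = 1 := by
  obtain ⟨a, ha⟩ := S.2 ⟨s, hs⟩
  exact ⟨a, congrArg Subtype.val ha⟩

theorem relIndex_four (D : QD k x y) {T : Subgroup G} (hT : IsKleinFour T) (hTS : T ≤ S) :
    (centralizer (T : Set G)).relIndex (normalizer (T : Set G)) = 2 ∨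
      (centralizer (T : Set G)).relIndex (normalizer (T : Set G)) = 6 := by
  obtain ⟨s, hs, hsN, hsC⟩ := exists_outer_four D hT hTS
  obtain ⟨a, ha⟩ := sylow_pow s hs
  exact eq_two_or_six (four_three hT).1
    (even_relIndex (normal_centralizer_subgroupOf T) hsN hsC ha)

theorem relIndex_quat (D : QD k x y) {Q : Subgroup G} (e : Q ≃* QuaternionGroup 2) (hQS : Q ≤ S) :
    (Q ⊔ centralizer (Q : Set G)).relIndex (normalizer (Q : Set G)) = 2 ∨
      (Q ⊔ centralizer (Q : Set G)).relIndex (normalizer (Q : Set G)) = 6 := by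
  obtain ⟨s, hs, hsN, hsC⟩ := exists_outer_quat D e hQS
  obtain ⟨a, ha⟩ := sylow_pow s hs
  exact eq_two_or_six (quat_three e).1
    (even_relIndex (normal_sup_centralizer_subgroupOf Q) hsN hsC ha)

theorem actsLike_four (D : QD k x y) {T : Subgroup G} (hT : IsKleinFour T) (hTS : T ≤ S)
    (h : (centralizer (T : Set G)).relIndex (normalizer (T : Set G)) = 2) :
    ActsLike (S : Subgroup G) T := by
  obtain ⟨s, hs, hsN, hsC⟩ := exists_outer_four D hT hTS
  intro n hn
  have key : ∀ m ∈ centralizer (T : Set G), ∀ w ∈ T, m * w * m⁻¹ = w := fun m hm w hw => by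
    rw [← hm w hw, mul_inv_cancel_right]
  rcases mem_or_mem_of_relIndex_two h hsN hsC hn with h' | h'
  · exact ⟨1, one_mem _, fun w hw => by rw [key n h' w hw]; group⟩
  · refine ⟨s, hs, fun w hw => ?_⟩
    calc n * w * n⁻¹ = s * (s⁻¹ * n * w * (s⁻¹ * n)⁻¹) * s⁻¹ := by group
      _ = s * w * s⁻¹ := by rw [key _ h' w hw]

theorem actsLike_quat (D : QD k x y) {Q : Subgroup G} (e : Q ≃* QuaternionGroup 2) (hQS : Q ≤ S)
    (h : (Q ⊔ centralizer (Q : Set G)).relIndex (normalizer (Q : Set G)) = 2) :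
    ActsLike (S : Subgroup G) Q := by
  obtain ⟨s, hs, hsN, hsC⟩ := exists_outer_quat D e hQS
  intro n hn
  have key : ∀ m ∈ Q ⊔ centralizer (Q : Set G), ∃ q ∈ (S : Subgroup G),
      ∀ w ∈ Q, m * w * m⁻¹ = q * w * q⁻¹ := fun m hm => by
    rw [← SetLike.mem_coe, Subgroup.coe_mul_of_right_le_normalizer_left Q _
      (centralizer_le_normalizer _), Set.mem_mul] at hm
    obtain ⟨q, hq, v, hv, rfl⟩ := hm
    refine ⟨q, hQS hq, fun w hw => ?_⟩
    calc q * v * w * (q * v)⁻¹ = q * (v * w) * v⁻¹ * q⁻¹ := by group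
      _ = q * (w * v) * v⁻¹ * q⁻¹ := by rw [hv w hw]
      _ = q * w * q⁻¹ := by group
  rcases mem_or_mem_of_relIndex_two h hsN hsC hn with h' | h'
  · exact key n h'
  · obtain ⟨q, hq, hqw⟩ := key _ h'
    refine ⟨s * q, mul_mem hs hq, fun w hw => ?_⟩
    calc n * w * n⁻¹ = s * (s⁻¹ * n * w * (s⁻¹ * n)⁻¹) * s⁻¹ := by group
      _ = s * (q * w * q⁻¹) * s⁻¹ := by rw [hqw w hw]
      _ = s * q * w * (s * q)⁻¹ := by group

theorem actsLike_all_four (D : QD k x y) {T : Subgroup G} (hT : IsKleinFour T) (hTS : T ≤ S)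
    (h : (centralizer (T : Set G)).relIndex (normalizer (T : Set G)) = 2) (T' : Subgroup G)
    (hT' : IsKleinFour T') (hTS' : T' ≤ S) : ActsLike (S : Subgroup G) T' := by
  obtain ⟨s, hs, rfl⟩ := exists_four_conj D hT hTS hT' hTS'
  exact (actsLike_four D hT hTS h).conj hs

theorem actsLike_all_quat (D : QD k x y) {Q : Subgroup G} (e : Q ≃* QuaternionGroup 2)
    (hQS : Q ≤ S) (h : (Q ⊔ centralizer (Q : Set G)).relIndex (normalizer (Q : Set G)) = 2)
    (Q' : Subgroup G) (e' : Q' ≃* QuaternionGroup 2) (hQS' : Q' ≤ S) :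
    ActsLike (S : Subgroup G) Q' := by
  obtain ⟨s, hs, rfl⟩ := exists_quat_conj D e hQS e' hQS'
  exact (actsLike_quat D e hQS h).conj hs

/-- The fusion invariance criterion. -/
theorem invariant (D : QD k x y) (Φ : G → Prop)
    (hS : ∀ s ∈ S, ∀ w ∈ S, Φ w → Φ (s * w * s⁻¹))
    (hT : ∀ T : Subgroup G, IsKleinFour T → T ≤ S →
      ∀ n ∈ normalizer (T : Set G), ∀ w ∈ T, Φ w → Φ (n * w * n⁻¹))
    (hQ : ∀ Q : Subgroup G, Nonempty (Q ≃* QuaternionGroup 2) → Q ≤ S →
      ∀ n ∈ normalizer (Q : Set G), ∀ w ∈ Q, Φ w → Φ (n * w * n⁻¹))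
    (w g : G) (hw : w ∈ S) (hgw : g * w * g⁻¹ ∈ S) (h : Φ w) : Φ (g * w * g⁻¹) := by
  refine FusionCentric.fusion_invariant_centric S Φ hS ?_ w g hw hgw h
  intro R hRS hC hA
  set eR := subgroupOfEquivOfLe hRS
  have hC' : centralizer (R.subgroupOf (S : Subgroup G) : Set (S : Subgroup G)) ≤
      R.subgroupOf (S : Subgroup G) := fun v hv =>
    hC ⟨v.2, fun u hu => congrArg Subtype.val (hv ⟨u, hRS hu⟩ hu)⟩
  rcases QDAut.classify D hC' (fun h => hA (isPGroup_mulAut_congr eR h)) with h1 | ⟨⟨e⟩⟩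
  · refine hT R (isKleinFour_of_card ?_ fun u hu => ?_) hRS
    · rw [← Nat.card_congr eR.toEquiv]; exact IsKleinFour.card_four
    · exact congrArg Subtype.val (sq_of_mem_kleinFour h1 (h := ⟨u, hRS hu⟩) hu)
  · exact hQ R ⟨eR.symm.trans e⟩ hRS

/-- The central involution. -/
theorem half_mem_four (D : QD k x y) {T : Subgroup G} (hT : IsKleinFour T) (hTS : T ≤ S) :
    (c (half k) : G) ∈ T :=
  (mem_inf_iff D (card_inf_four D (four_subgroupOf hT hTS))).2
    (by push_cast; exact two_mul_half k)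

theorem half_mem_quat (D : QD k x y) {Q : Subgroup G} (e : Q ≃* QuaternionGroup 2) (hQS : Q ≤ S) :
    (c (half k) : G) ∈ Q :=
  (mem_inf_iff D (card_inf_quaternion D ((subgroupOfEquivOfLe hQS).trans e))).2
    (by push_cast; linear_combination 2 * two_mul_half k)

theorem orderOf_half' (D : QD k x y) : orderOf (c (half k) : G) = 2 := by
  rw [Subgroup.orderOf_coe, orderOf_half D]

theorem half_central (D : QD k x y) {s : G} (hs : s ∈ S) :
    s * (c (half k) : G) * s⁻¹ = (c (half k) : G) := by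
  have h : (⟨s, hs⟩ : (S : Subgroup G)) * c (half k) = c (half k) * ⟨s, hs⟩ :=
    mem_center_iff.1 (half_mem_center D) ⟨s, hs⟩
  have h' : s * (c (half k) : G) = (c (half k) : G) * s := congrArg Subtype.val h
  rw [h', mul_inv_cancel_right]

/-- If the four groups act like `S`, the central involution is isolated in `S`. -/
theorem half_isolated (D : QD k x y) {T : Subgroup G} (hT : IsKleinFour T) (hTS : T ≤ S)
    (h : (centralizer (T : Set G)).relIndex (normalizer (T : Set G)) = 2)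
    (g : G) (hg : g * (c (half k) : G) * g⁻¹ ∈ S) :
    g * (c (half k) : G) * g⁻¹ = (c (half k) : G) := by
  refine invariant D (fun w => w = (c (half k) : G)) ?_ ?_ ?_ _ g (c (half k)).2 hg rfl
  · intro s hs w _ hw; rw [hw]; exact half_central D hs
  · intro T' hT' hTS' n hn w hw hw'
    obtain ⟨s, hs, hsw⟩ := actsLike_all_four D hT hTS h T' hT' hTS' n hn
    rw [hsw w hw, hw']; exact half_central D hs
  · rintro Q ⟨e⟩ hQS n hn w - rfl
    have hz := half_mem_quat D e hQS
    have hn' := (mem_normalizer_iff.1 hn _).1 hz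
    exact congrArg Subtype.val (invol_unique e (s := ⟨_, hn'⟩) (t := ⟨_, hz⟩)
      (by rw [← Subgroup.orderOf_coe]
          exact (MulEquiv.orderOf_eq (MulAut.conj n) (c (half k) : G)).trans (orderOf_half' D))
      (by rw [← Subgroup.orderOf_coe]; exact orderOf_half' D))

theorem not_isConj_half (D : QD k x y) {T : Subgroup G} (hT : IsKleinFour T) (hTS : T ≤ S)
    (h : (centralizer (T : Set G)).relIndex (normalizer (T : Set G)) = 2) :
    ¬ IsConj (c (half k) : G) ((c 0 * y : (S : Subgroup G)) : G) := by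
  intro hc
  obtain ⟨g, hg⟩ := isConj_iff.1 hc
  have := half_isolated D hT hTS h g (hg ▸ (c 0 * y : (S : Subgroup G)).2)
  rw [hg] at this
  exact D.mul_ne_powZ 0 (half k) (Subtype.ext this)

/-- If the quaternion subgroups act like `S`, the elements of order four in the cyclic maximal
subgroup are not fused to the outer ones. -/
theorem not_isConj_four (D : QD k x y) {Q : Subgroup G} (e : Q ≃* QuaternionGroup 2)
    (hQS : Q ≤ S) (h : (Q ⊔ centralizer (Q : Set G)).relIndex (normalizer (Q : Set G)) = 2) :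
    ¬ IsConj (c (quarter k) : G) ((c 1 * y : (S : Subgroup G)) : G) := by
  intro hc
  obtain ⟨g, hg⟩ := isConj_iff.1 hc
  have hX : ∀ s ∈ S, ∀ w, w ∈ (zpowers x).map (S : Subgroup G).subtype →
      s * w * s⁻¹ ∈ (zpowers x).map (S : Subgroup G).subtype := by
    rintro s hs _ ⟨w, hw, rfl⟩
    exact ⟨⟨s, hs⟩ * w * (⟨s, hs⟩ : (S : Subgroup G))⁻¹, D.normal_zpowers.conj_mem w hw _, rfl⟩
  have := invariant D (fun w => orderOf w = 4 → w ∈ (zpowers x).map (S : Subgroup G).subtype)
    ?_ ?_ ?_ (c (quarter k) : G) g (c (quarter k)).2 (hg ▸ (c 1 * y : (S : Subgroup G)).2)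
    (fun _ => ⟨_, powZ_mem_zpowers _ x _, rfl⟩)
  · rw [hg] at this
    obtain ⟨w, hw, hw'⟩ := this (by rw [Subgroup.orderOf_coe, orderOf_outer_odd D (map_one _)])
    have : w = c 1 * y := Subtype.ext hw'
    exact D.mul_notMem 1 (this ▸ hw)
  · intro s hs w _ hw hord
    exact hX s hs w (hw ((MulEquiv.orderOf_eq (MulAut.conj s) w).symm.trans hord))
  · intro T hT _ n hn w hw _ hord
    exfalso
    have h1 : orderOf (n * w * n⁻¹) = orderOf w := MulEquiv.orderOf_eq (MulAut.conj n) w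
    rw [h1] at hord
    have h2 : w ^ 2 = 1 := by rw [pow_two]; exact sq_of_mem_kleinFour hT hw
    have := Nat.le_of_dvd two_pos (hord ▸ orderOf_dvd_of_pow_eq_one h2)
    omega
  · rintro Q' ⟨e'⟩ hQS' n hn w hw hΦ hord
    obtain ⟨s, hs, hsw⟩ := actsLike_all_quat D e hQS h Q' e' hQS' n hn
    rw [hsw w hw] at hord ⊢
    exact hX s hs w (hΦ ((MulEquiv.orderOf_eq (MulAut.conj s) w).symm.trans hord))

/-- A four group with a transitive normaliser fuses the two classes of involutions. -/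
theorem isConj_invol (D : QD k x y) {T : Subgroup G} (hT : IsKleinFour T) (hTS : T ≤ S)
    (h : (centralizer (T : Set G)).relIndex (normalizer (T : Set G)) = 6) :
    IsConj (c (half k) : G) ((c 0 * y : (S : Subgroup G)) : G) := by
  obtain ⟨n, hn, -, hmove⟩ := (four_three hT).2 h
  have hz := half_mem_four D hT hTS
  have hz1 : (c (half k) : G) ≠ 1 := fun h' => half_ne_zero k (D.powZ_eq_one_iff.1 (Subtype.ext h'))
  have hmem := (mem_normalizer_iff.1 hn _).1 hz
  have hord : orderOf (⟨_, hTS hmem⟩ : (S : Subgroup G)) = 2 := by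
    rw [← Subgroup.orderOf_coe]
    exact (MulEquiv.orderOf_eq (MulAut.conj n) (c (half k) : G)).trans (orderOf_half' D)
  rcases orderOf_two_cases D hord with h' | ⟨i, hi, h'⟩
  · exact absurd (congrArg Subtype.val h') (hmove _ hz hz1).1
  · have h1 : IsConj (c (half k) : G) ((c i * y : (S : Subgroup G)) : G) :=
      isConj_iff.2 ⟨n, congrArg Subtype.val h'⟩
    obtain ⟨d, hd⟩ := exists_conj_outer D (i := i) (i' := 0) (by rw [hi, map_zero])
    exact h1.trans (isConj_iff.2 ⟨(c d : G), congrArg Subtype.val hd⟩)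

/-- A quaternion subgroup with a transitive normaliser fuses the classes of elements of order 4. -/
theorem isConj_quarter_outer (D : QD k x y) {Q : Subgroup G} (e : Q ≃* QuaternionGroup 2)
    (hQS : Q ≤ S) (h : (Q ⊔ centralizer (Q : Set G)).relIndex (normalizer (Q : Set G)) = 6) :
    IsConj (c (quarter k) : G) ((c 1 * y : (S : Subgroup G)) : G) := by
  obtain ⟨n, hn, -, hmove⟩ := (quat_three e).2 h
  have hq : (c (quarter k) : G) ∈ Q :=
    (mem_inf_iff D (card_inf_quaternion D ((subgroupOfEquivOfLe hQS).trans e))).2 (by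
      push_cast
      linear_combination 2 * quarter_add_quarter k + two_mul_half k)
  have hq2 : (c (quarter k) : G) * (c (quarter k) : G) ≠ 1 := fun h' => by
    have h2 : c (quarter k) * c (quarter k) = 1 := Subtype.ext h'
    rw [D.mul_cc, quarter_add_quarter] at h2
    exact half_ne_zero k (D.powZ_eq_one_iff.1 h2)
  obtain ⟨hne, hne', -⟩ := hmove _ hq hq2
  have hmem := (mem_normalizer_iff.1 hn _).1 hq
  have hord : orderOf (⟨_, hQS hmem⟩ : (S : Subgroup G)) = 4 := by
    rw [← Subgroup.orderOf_coe]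
    refine (MulEquiv.orderOf_eq (MulAut.conj n) (c (quarter k) : G)).trans ?_
    rw [Subgroup.orderOf_coe, orderOf_quarter D]
  rcases orderOf_four_cases D hord with h' | h' | ⟨i, hi, h'⟩
  · exact absurd (congrArg Subtype.val h') hne
  · refine absurd ?_ hne'
    rw [← Subgroup.coe_inv, D.powZ_inv]
    refine (congrArg Subtype.val h').trans ?_
    congr 2
    linear_combination quarter_add_quarter k + half_add_half k
  · have h1 : IsConj (c (quarter k) : G) ((c i * y : (S : Subgroup G)) : G) :=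
      isConj_iff.2 ⟨n, congrArg Subtype.val h'⟩
    obtain ⟨d, hd⟩ := exists_conj_outer D (i := i) (i' := 1) (by rw [hi, map_one])
    exact h1.trans (isConj_iff.2 ⟨(c d : G), congrArg Subtype.val hd⟩)

theorem class_invol (D : QD k x y) {t : G} (ht : orderOf t = 2) :
    IsConj (c (half k) : G) t ∨ IsConj ((c 0 * y : (S : Subgroup G)) : G) t := by
  obtain ⟨g, hg⟩ := exists_conj_mem S (a := 1) (by rw [ht, pow_one])
  have hc : IsConj (g * t * g⁻¹) t := (isConj_iff.2 ⟨g, rfl⟩ : IsConj t (g * t * g⁻¹)).symm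
  have hord : orderOf (⟨_, hg⟩ : (S : Subgroup G)) = 2 := by
    rw [← Subgroup.orderOf_coe]
    exact (MulEquiv.orderOf_eq (MulAut.conj g) t).trans ht
  rcases orderOf_two_cases D hord with h | ⟨i, hi, h⟩
  · left
    rw [show (c (half k) : G) = g * t * g⁻¹ from (congrArg Subtype.val h).symm]
    exact hc
  · right
    obtain ⟨d, hd⟩ := exists_conj_outer D (i := 0) (i' := i) (by rw [hi, map_zero])
    refine (isConj_iff.2 ⟨(c d : G), congrArg Subtype.val hd⟩).trans ?_
    rw [show ((c i * y : (S : Subgroup G)) : G) = g * t * g⁻¹ from (congrArg Subtype.val h).symm]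
    exact hc

theorem class_four (D : QD k x y) {t : G} (ht : orderOf t = 4) :
    IsConj (c (quarter k) : G) t ∨ IsConj ((c 1 * y : (S : Subgroup G)) : G) t := by
  obtain ⟨g, hg⟩ := exists_conj_mem S (a := 2) (by rw [ht]; rfl)
  have hc : IsConj (g * t * g⁻¹) t := (isConj_iff.2 ⟨g, rfl⟩ : IsConj t (g * t * g⁻¹)).symm
  have hord : orderOf (⟨_, hg⟩ : (S : Subgroup G)) = 4 := by
    rw [← Subgroup.orderOf_coe]
    exact (MulEquiv.orderOf_eq (MulAut.conj g) t).trans ht
  rcases orderOf_four_cases D hord with h | h | ⟨i, hi, h⟩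
  · left
    rw [show (c (quarter k) : G) = g * t * g⁻¹ from (congrArg Subtype.val h).symm]
    exact hc
  · left
    obtain ⟨d, hd⟩ := isConj_iff.1 (isConj_quarter D)
    refine (isConj_iff.2 ⟨(d : G), congrArg Subtype.val hd⟩).trans ?_
    rw [show (c (quarter k + half k) : G) = g * t * g⁻¹ from (congrArg Subtype.val h).symm]
    exact hc
  · right
    obtain ⟨d, hd⟩ := exists_conj_outer D (i := 1) (i' := i) (by rw [hi, map_one])
    refine (isConj_iff.2 ⟨(c d : G), congrArg Subtype.val hd⟩).trans ?_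
    rw [show ((c i * y : (S : Subgroup G)) : G) = g * t * g⁻¹ from (congrArg Subtype.val h).symm]
    exact hc

theorem card_invol_one (D : QD k x y)
    (h : IsConj (c (half k) : G) ((c 0 * y : (S : Subgroup G)) : G)) :
    Nat.card {C : ConjClasses G // ∃ t : G, orderOf t = 2 ∧ ConjClasses.mk t = C} = 1 :=
  Classes.natCard_classes_eq_one _ (orderOf_half' D) fun _ ht =>
    (class_invol D ht).elim id h.trans

theorem card_invol_two (D : QD k x y)
    (h : ¬ IsConj (c (half k) : G) ((c 0 * y : (S : Subgroup G)) : G)) :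
    Nat.card {C : ConjClasses G // ∃ t : G, orderOf t = 2 ∧ ConjClasses.mk t = C} = 2 :=
  Classes.natCard_classes_eq_two _ _ (orderOf_half' D)
    (by rw [Subgroup.orderOf_coe, orderOf_outer_even D (map_zero _)]) h fun _ ht => class_invol D ht

theorem card_four_one (D : QD k x y)
    (h : IsConj (c (quarter k) : G) ((c 1 * y : (S : Subgroup G)) : G)) :
    Nat.card {C : ConjClasses G // ∃ t : G, orderOf t = 4 ∧ ConjClasses.mk t = C} = 1 :=
  Classes.natCard_classes_eq_one _ (by rw [Subgroup.orderOf_coe, orderOf_quarter D]) fun _ ht =>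
    (class_four D ht).elim id h.trans

theorem card_four_two (D : QD k x y)
    (h : ¬ IsConj (c (quarter k) : G) ((c 1 * y : (S : Subgroup G)) : G)) :
    Nat.card {C : ConjClasses G // ∃ t : G, orderOf t = 4 ∧ ConjClasses.mk t = C} = 2 :=
  Classes.natCard_classes_eq_two _ _ (by rw [Subgroup.orderOf_coe, orderOf_quarter D])
    (by rw [Subgroup.orderOf_coe, orderOf_outer_odd D (map_one _)]) h fun _ ht => class_four D ht

/-! ### Subgroups of index two -/

theorem four_le_maxSub (D : QD k x y) {T : Subgroup G} (hT : IsKleinFour T) (hTS : T ≤ S) :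
    T ≤ (maxSub D 0).map (S : Subgroup G).subtype := by
  intro w hw
  refine ⟨⟨w, hTS hw⟩, ?_, rfl⟩
  have h2 : (⟨w, hTS hw⟩ : (S : Subgroup G)) * ⟨w, hTS hw⟩ = 1 :=
    Subtype.ext (sq_of_mem_kleinFour hT hw)
  rcases D.cases (⟨w, hTS hw⟩ : (S : Subgroup G)) with ⟨i, hi⟩ | ⟨i, hi⟩
  · rw [hi] at h2 ⊢
    rw [D.mul_cc] at h2
    rcases add_self_eq_zero (D.powZ_eq_one_iff.1 h2) with rfl | rfl
    · exact (mem_maxSub_c D).2 (map_zero _)
    · exact (mem_maxSub_c D).2 (par_half k)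
  · rw [hi] at h2 ⊢
    rw [sq_outer D] at h2
    refine (mem_maxSub_cy D).2 ?_
    rcases zmod_two_cases (par k i) with hp | hp
    · exact hp
    · rw [half_mul_odd hp] at h2
      exact absurd (D.powZ_eq_one_iff.1 h2) (half_ne_zero k)

theorem quat_le_maxSub (D : QD k x y) {Q : Subgroup G} (e : Q ≃* QuaternionGroup 2) (hQS : Q ≤ S) :
    Q ≤ (maxSub D 1).map (S : Subgroup G).subtype := by
  have e' := (subgroupOfEquivOfLe hQS).trans e
  obtain ⟨i, hpi, hi⟩ := exists_outer_of_quaternion D e'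
  have heven : ∀ j, c j ∈ Q.subgroupOf (S : Subgroup G) → par k j = 0 := by
    intro j hj
    have h1 := (mem_inf_iff D (card_inf_quaternion D e')).1 hj
    push_cast at h1
    rcases zmod_two_cases (par k j) with h | h
    · exact h
    · exfalso
      have he : half k = ((2 ^ k : ℕ) : ZMod (2 ^ (k + 3))) * 4 := by
        rw [half, show (2 ^ (k + 2) : ℕ) = 2 ^ k * 4 by ring]
        push_cast
        rfl
      have h5 := half_mul_odd h
      rw [he] at h5
      exact half_ne_zero k (by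
        rw [he]; linear_combination ((2 ^ k : ℕ) : ZMod (2 ^ (k + 3))) * h1 - h5)
  intro w hw
  refine ⟨⟨w, hQS hw⟩, ?_, rfl⟩
  rcases D.cases (⟨w, hQS hw⟩ : (S : Subgroup G)) with ⟨j, hj⟩ | ⟨j, hj⟩
  · rw [hj]; exact (mem_maxSub_c D).2 (heven j (hj ▸ hw))
  · rw [hj]
    refine (mem_maxSub_cy D).2 ?_
    have hwS : c j * y ∈ Q.subgroupOf (S : Subgroup G) := hj ▸ hw
    have h1 : c (j - i) ∈ Q.subgroupOf (S : Subgroup G) := by
      have := mul_mem hwS (inv_mem hi)
      rwa [mul_inv_rev, mul_assoc, mul_inv_cancel_left, ← powZ_sub D.pow_N] at this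
    have h2 := heven _ h1
    rwa [map_sub, hpi, sub_eq_zero] at h2

/-- A maximal subgroup whose cosets are preserved by the two kinds of normalisers. -/
theorem exists_index_two (D : QD k x y) (e : ZMod 2)
    (hT : ∀ T : Subgroup G, IsKleinFour T → T ≤ S →
      ActsLike (S : Subgroup G) T ∨ T ≤ (maxSub D e).map (S : Subgroup G).subtype)
    (hQ : ∀ Q : Subgroup G, Nonempty (Q ≃* QuaternionGroup 2) → Q ≤ S →
      ActsLike (S : Subgroup G) Q ∨ Q ≤ (maxSub D e).map (S : Subgroup G).subtype) :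
    ∃ K : Subgroup G, K.Normal ∧ (S : Subgroup G) ⊓ K = (maxSub D e).map (S : Subgroup G).subtype ∧
      K.index = 2 ∧ ¬ 2 ∣ ((maxSub D e).map (S : Subgroup G).subtype).relIndex K ∧
      ∀ u : G, (orderOf u).Coprime 2 → u ∈ K := by
  set M := (maxSub D e).map (S : Subgroup G).subtype with hM
  have hidx : (maxSub D e).index = 2 := by
    have h := (maxSub D e).card_mul_index
    rw [card_maxSub D, QuasiDihedral.card_eq D, pow_succ 2 (k + 3)] at h
    exact Nat.eq_of_mul_eq_mul_left (by positivity) h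
  have hnormal : ∀ s ∈ S, ∀ w ∈ M, s * w * s⁻¹ ∈ M := by
    rintro s hs _ ⟨w, hw, rfl⟩
    exact ⟨⟨s, hs⟩ * w * (⟨s, hs⟩ : (S : Subgroup G))⁻¹,
      (Subgroup.normal_of_index_eq_two hidx).conj_mem w hw _, rfl⟩
  have hback : ∀ s ∈ S, ∀ w, s * w * s⁻¹ ∈ M → w ∈ M := fun s hs w h => by
    have := hnormal s⁻¹ (inv_mem hs) _ h
    simpa [mul_assoc] using this
  have key : ∀ (Φ : G → Prop), ((∀ w, Φ w ↔ w ∈ M) ∨ (∀ w, Φ w ↔ w ∉ M)) →
      ∀ w g : G, w ∈ S → g * w * g⁻¹ ∈ S → Φ w → Φ (g * w * g⁻¹) := by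
    intro Φ hΦ
    have hSΦ : ∀ s ∈ S, ∀ w, Φ w → Φ (s * w * s⁻¹) := by
      intro s hs w hw
      rcases hΦ with h | h
      · exact (h _).2 (hnormal s hs w ((h w).1 hw))
      · exact (h _).2 fun hm => (h w).1 hw (hback s hs w hm)
    have hR : ∀ R : Subgroup G, (ActsLike (S : Subgroup G) R ∨ R ≤ M) →
        ∀ n ∈ normalizer (R : Set G), ∀ w ∈ R, Φ w → Φ (n * w * n⁻¹) := by
      intro R hR n hn w hw hΦw
      rcases hR with hR | hR
      · obtain ⟨s, hs, hsw⟩ := hR n hn
        rw [hsw w hw]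
        exact hSΦ s hs w hΦw
      · rcases hΦ with h | h
        · exact (h _).2 (hR ((mem_normalizer_iff.1 hn w).1 hw))
        · exact absurd (hR hw) ((h w).1 hΦw)
    exact invariant D Φ (fun s hs w _ => hSΦ s hs w)
      (fun T h1 h2 => hR T (hT T h1 h2)) (fun Q h1 h2 => hR Q (hQ Q h1 h2))
  have hMS : M ≤ S := map_subtype_le _
  have hinv : ∀ w ∈ S, ∀ g : G, g * w * g⁻¹ ∈ S → w⁻¹ * (g * w * g⁻¹) ∈ M := by
    intro w hw g hgw
    refine ⟨(⟨w, hw⟩ : (S : Subgroup G))⁻¹ * ⟨_, hgw⟩, ?_, rfl⟩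
    rw [SetLike.mem_coe, Subgroup.mul_mem_iff_of_index_two hidx, inv_mem_iff]
    have hiff : ∀ v (hv : v ∈ (S : Subgroup G)),
        (⟨v, hv⟩ : (S : Subgroup G)) ∈ maxSub D e ↔ v ∈ M := fun v hv =>
      (Subgroup.mem_map_iff_mem (f := (S : Subgroup G).subtype)
        (S : Subgroup G).subtype_injective (x := ⟨v, hv⟩)).symm
    rw [hiff, hiff]
    constructor
    · exact key (fun v => v ∈ M) (Or.inl fun v => Iff.rfl) w g hw hgw
    · intro h
      by_contra hn
      exact key (fun v => v ∉ M) (Or.inr fun v => Iff.rfl) w g hw hgw hn h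
  obtain ⟨K, hK, hKS, hKi, hKodd⟩ := FusionCentric.exists_normal_of_invariant S M hMS hinv
  have h2 : M.relIndex (S : Subgroup G) = 2 := by
    rw [Subgroup.relIndex, hM, Subgroup.subgroupOf,
      Subgroup.comap_map_eq_self_of_injective (Subgroup.subtype_injective _)]
    exact hidx
  refine ⟨K, hK, hKS, hKi.trans h2, not_dvd_relIndex S (hKS ▸ inf_le_right) hMS hKi, hKodd⟩

theorem maxSub_equiv (D : QD k x y) (e : ZMod 2) {K : Subgroup G} [K.Normal]
    (hKS : (S : Subgroup G) ⊓ K = (maxSub D e).map (S : Subgroup G).subtype) (P : Sylow 2 K) :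
    Nonempty ((P : Subgroup K) ≃* maxSub D e) := by
  obtain ⟨f⟩ := FusionCentric.sylow_subgroup_equiv S K P
  exact ⟨(f.trans (MulEquiv.subgroupCongr hKS)).trans
    ((maxSub D e).equivMapOfInjective _ (S : Subgroup G).subtype_injective).symm⟩

/-- Outer involutions lie in every subgroup of index two of a subgroup containing the elements of
odd order. -/
theorem even_mem (D : QD k x y) {T : Subgroup G} (hT : IsKleinFour T) (hTS : T ≤ S)
    (h : (centralizer (T : Set G)).relIndex (normalizer (T : Set G)) = 6) {K H : Subgroup G}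
    (hK : ∀ u : G, (orderOf u).Coprime 2 → u ∈ K) (hH : H.relIndex K = 2)
    {i : ZMod (2 ^ (k + 3))} (hi : par k i = 0)
    (hiK : ((c i * y : (S : Subgroup G)) : G) ∈ K) :
    ((c i * y : (S : Subgroup G)) : G) ∈ H := by
  obtain ⟨n, hn, hodd, hmove⟩ := (four_three hT).2 h
  obtain ⟨j, hj, hjT⟩ := exists_outer_of_four D (four_subgroupOf hT hTS)
  obtain ⟨d, hd⟩ := exists_conj_outer D (i := j) (i' := i) (hj.trans hi.symm)
  set v : G := ((c j * y : (S : Subgroup G)) : G) with hv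
  have hv1 : v ≠ 1 := fun h' => D.mul_ne_powZ j 0 ((Subtype.ext h' : c j * y = 1).trans
    (powZ_zero _ x).symm)
  have hd' : (c d : G) * v * (c d : G)⁻¹ = ((c i * y : (S : Subgroup G)) : G) :=
    congrArg Subtype.val hd
  have hprod := (hmove v hjT hv1).2
  refine mem_of_product_mem hH (n := (c d : G) * n * (c d : G)⁻¹)
    (hK _ ((MulEquiv.orderOf_eq (MulAut.conj (c d : G)) n) ▸ Nat.coprime_two_right.2 hodd)) hiK ?_
  rw [← hd']
  have : (c d : G) * v * (c d : G)⁻¹ * ((c d : G) * n * (c d : G)⁻¹ * ((c d : G) * v * (c d : G)⁻¹) *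
      ((c d : G) * n * (c d : G)⁻¹)⁻¹) * ((c d : G) * n * (c d : G)⁻¹ * ((c d : G) * n * (c d : G)⁻¹)
      * ((c d : G) * v * (c d : G)⁻¹) *
      ((c d : G) * n * (c d : G)⁻¹ * ((c d : G) * n * (c d : G)⁻¹))⁻¹) =
      (c d : G) * (v * (n * v * n⁻¹) * (n * n * v * (n * n)⁻¹)) * (c d : G)⁻¹ := by group
  rw [this, hprod, mul_one, mul_inv_cancel]
  exact one_mem _

/-- Outer elements of order four lie in every subgroup of index two of a subgroup containing the
elements of odd order. -/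
theorem odd_mem (D : QD k x y) {Q : Subgroup G} (e : Q ≃* QuaternionGroup 2) (hQS : Q ≤ S)
    (h : (Q ⊔ centralizer (Q : Set G)).relIndex (normalizer (Q : Set G)) = 6) {K H : Subgroup G}
    (hK : ∀ u : G, (orderOf u).Coprime 2 → u ∈ K) (hH : H.relIndex K = 2)
    {i : ZMod (2 ^ (k + 3))} (hi : par k i = 1)
    (hiK : ((c i * y : (S : Subgroup G)) : G) ∈ K) :
    ((c i * y : (S : Subgroup G)) : G) ∈ H := by
  obtain ⟨n, hn, hodd, hmove⟩ := (quat_three e).2 h
  obtain ⟨j, hj, hjT⟩ := exists_outer_of_quaternion D ((subgroupOfEquivOfLe hQS).trans e)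
  obtain ⟨d, hd⟩ := exists_conj_outer D (i := j) (i' := i) (hj.trans hi.symm)
  set v : G := ((c j * y : (S : Subgroup G)) : G) with hv
  have hv2 : v * v ≠ 1 := fun h' => by
    have h2 : c j * y * (c j * y) = 1 := Subtype.ext h'
    rw [sq_outer D, half_mul_odd hj] at h2
    exact half_ne_zero k (D.powZ_eq_one_iff.1 h2)
  have hd' : (c d : G) * v * (c d : G)⁻¹ = ((c i * y : (S : Subgroup G)) : G) :=
    congrArg Subtype.val hd
  have hprod := (hmove v hjT hv2).2.2
  refine mem_of_product_mem hH (n := (c d : G) * n * (c d : G)⁻¹)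
    (hK _ ((MulEquiv.orderOf_eq (MulAut.conj (c d : G)) n) ▸ Nat.coprime_two_right.2 hodd)) hiK ?_
  have hsq : ((c i * y : (S : Subgroup G)) : G) * ((c i * y : (S : Subgroup G)) : G) ∈ H := by
    have h2 := Subgroup.mul_mem_iff_of_index_two (H := H.subgroupOf K) hH
      (a := ⟨_, hiK⟩) (b := ⟨_, hiK⟩)
    exact h2.2 Iff.rfl
  rw [← hd'] at hsq ⊢
  have : (c d : G) * v * (c d : G)⁻¹ * ((c d : G) * n * (c d : G)⁻¹ * ((c d : G) * v * (c d : G)⁻¹) *
      ((c d : G) * n * (c d : G)⁻¹)⁻¹) * ((c d : G) * n * (c d : G)⁻¹ * ((c d : G) * n * (c d : G)⁻¹)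
      * ((c d : G) * v * (c d : G)⁻¹) *
      ((c d : G) * n * (c d : G)⁻¹ * ((c d : G) * n * (c d : G)⁻¹))⁻¹) =
      (c d : G) * (v * (n * v * n⁻¹) * (n * n * v * (n * n)⁻¹)) * (c d : G)⁻¹ := by group
  rw [this]
  rcases hprod with h' | h' <;> rw [h']
  · rw [mul_one, mul_inv_cancel]
    exact one_mem _
  · rwa [← conj_mul]

/-- Both normalisers transitive: no subgroup of index two. -/
theorem no_index_two (D : QD k x y) {T Q : Subgroup G} (hT : IsKleinFour T) (hTS : T ≤ S)
    (e : Q ≃* QuaternionGroup 2) (hQS : Q ≤ S)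
    (h₁ : (centralizer (T : Set G)).relIndex (normalizer (T : Set G)) = 6)
    (h₂ : (Q ⊔ centralizer (Q : Set G)).relIndex (normalizer (Q : Set G)) = 6)
    (H : Subgroup G) : H.index ≠ 2 := by
  intro hH
  have hrel : H.relIndex ⊤ = 2 := by rw [relIndex_top_right]; exact hH
  have hcy : ∀ i : ZMod (2 ^ (k + 3)), ((c i * y : (S : Subgroup G)) : G) ∈ H := fun i => by
    rcases zmod_two_cases (par k i) with hp | hp
    · exact even_mem D hT hTS h₁ (fun _ _ => mem_top _) hrel hp (mem_top _)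
    · exact odd_mem D e hQS h₂ (fun _ _ => mem_top _) hrel hp (mem_top _)
  have hle : (S : Subgroup G) ≤ H := by
    intro s hs
    rcases D.cases (⟨s, hs⟩ : (S : Subgroup G)) with ⟨i, hi⟩ | ⟨i, hi⟩
    · have h1 : c i = c i * y * (c 0 * y)⁻¹ := by
        rw [powZ_zero, one_mul, mul_inv_cancel_right]
      rw [show s = ((c i * y * (c 0 * y)⁻¹ : (S : Subgroup G)) : G) from
        congrArg Subtype.val (hi.trans h1)]
      exact mul_mem (hcy i) (inv_mem (hcy 0))
    · rw [show s = ((c i * y : (S : Subgroup G)) : G) from congrArg Subtype.val hi]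
      exact hcy i
  have h3 := Subgroup.index_dvd_of_le hle
  rw [hH] at h3
  exact S.not_dvd_index h3

/-- The maximal subgroup `maxSub D e` lies in every subgroup of index two. -/
theorem no_index_two_sub (D : QD k x y) (e : ZMod 2) {K : Subgroup G}
    (hKS : (S : Subgroup G) ⊓ K = (maxSub D e).map (S : Subgroup G).subtype)
    (hodd : ¬ 2 ∣ ((maxSub D e).map (S : Subgroup G).subtype).relIndex K)
    (hmem : ∀ H : Subgroup G, H.relIndex K = 2 → ∀ i, par k i = e →
      ((c i * y : (S : Subgroup G)) : G) ∈ K → ((c i * y : (S : Subgroup G)) : G) ∈ H)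
    (H : Subgroup ↥K) : H.index ≠ 2 := by
  intro hH
  have hrel : (H.map K.subtype).relIndex K = 2 := by
    rw [Subgroup.relIndex, Subgroup.subgroupOf,
      Subgroup.comap_map_eq_self_of_injective (Subgroup.subtype_injective _)]; exact hH
  have hK : ∀ i, par k i = e → ((c i * y : (S : Subgroup G)) : G) ∈ K := fun i hi =>
    (hKS.ge ⟨c i * y, (mem_maxSub_cy D).2 hi, rfl⟩ : _ ∈ (S : Subgroup G) ⊓ K).2
  have hcy : ∀ i, par k i = e → ((c i * y : (S : Subgroup G)) : G) ∈ H.map K.subtype :=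
    fun i hi => hmem _ hrel i hi (hK i hi)
  refine index_two_absurd hodd H hH fun v hv => ?_
  suffices h : (v : G) ∈ H.map K.subtype by
    obtain ⟨w, hw, hwv⟩ := h
    exact (Subtype.ext hwv : w = v) ▸ hw
  obtain ⟨w, hw, hwv⟩ := mem_subgroupOf.1 hv
  rw [← hwv]
  rcases hw with ⟨i, hi, rfl⟩ | ⟨i, hi, rfl⟩
  · obtain ⟨j, hj⟩ := exists_par k e
    have h1 : c i = c (i + j) * y * (c j * y)⁻¹ := by
      rw [mul_inv_rev, mul_assoc, mul_inv_cancel_left, ← powZ_sub D.pow_N, add_sub_cancel_right]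
    rw [h1]
    exact mul_mem (hcy (i + j) (by rw [map_add, hi, hj, zero_add])) (inv_mem (hcy j hj))
  · exact hcy i hi

theorem normalPComplement (D : QD k x y) {T Q : Subgroup G} (hT : IsKleinFour T) (hTS : T ≤ S)
    (e : Q ≃* QuaternionGroup 2) (hQS : Q ≤ S)
    (h₁ : (centralizer (T : Set G)).relIndex (normalizer (T : Set G)) = 2)
    (h₂ : (Q ⊔ centralizer (Q : Set G)).relIndex (normalizer (Q : Set G)) = 2) :
    Cfsg.HasNormalPComplement 2 G := by
  refine Transfer.Fusion.hasNormalPComplement_of_controls S fun w hw g hgw => ?_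
  have hR : ∀ R : Subgroup G, ActsLike (S : Subgroup G) R → ∀ n ∈ normalizer (R : Set G), ∀ u ∈ R,
      (∃ s ∈ S, s * w * s⁻¹ = u) → ∃ s ∈ S, s * w * s⁻¹ = n * u * n⁻¹ := by
    rintro R hR n hn u hu ⟨s, hs, rfl⟩
    obtain ⟨t, ht, htw⟩ := hR n hn
    exact ⟨t * s, mul_mem ht hs, by rw [htw _ hu]; group⟩
  exact invariant D (fun u => ∃ s ∈ S, s * w * s⁻¹ = u)
    (fun t ht u _ ⟨s, hs, hsu⟩ => ⟨t * s, mul_mem ht hs, by rw [← hsu]; group⟩)
    (fun T' a b => hR T' (actsLike_all_four D hT hTS h₁ T' a b))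
    (fun Q' ⟨a⟩ b => hR Q' (actsLike_all_quat D e hQS h₂ Q' a b))
    w g hw hgw ⟨1, one_mem _, by group⟩

theorem weaklyClosed_center (D : QD k x y) {T : Subgroup G} (hT : IsKleinFour T) (hTS : T ≤ S)
    (h : (centralizer (T : Set G)).relIndex (normalizer (T : Set G)) = 2) :
    Cfsg.IsWeaklyClosed ((center (S : Subgroup G)).map (S : Subgroup G).subtype)
      (S : Subgroup G) := by
  refine ⟨map_subtype_le _, fun g hg => ?_⟩
  rw [QuasiDihedral.center_eq D, MonoidHom.map_zpowers, MonoidHom.map_zpowers] at hg ⊢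
  have := half_isolated D hT hTS h g (hg (mem_zpowers _))
  exact congrArg zpowers this

end Cfsg.Agent.Lib.TwoGroups.QDFusion
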