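import Mathlib
import Cfsg.Prelude.Def_CaseTheorems
import Cfsg.Agent.Lib.TwoGroups.Recognition

/-!
Wreathed 2-groups `Z_{2^n} ≀ Z_2` in the normal form `e i j`, `e i j * z`.
-/

set_option autoImplicit false

namespace Cfsg.Agent.Lib.TwoGroups.Wreathed

open Subgroup Cfsg.Agent.Lib.TwoGroups.Recognition
open scoped commutatorElement

/-- The element `2 ^ (k + 1)` of `ZMod (2 ^ (k + 2))`. -/
def half (k : ℕ) : ZMod (2 ^ (k + 2)) := ((2 ^ (k + 1) : ℕ) : ZMod (2 ^ (k + 2)))

/-- The element `2 ^ k` of `ZMod (2 ^ (k + 2))`. -/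
def quarter (k : ℕ) : ZMod (2 ^ (k + 2)) := ((2 ^ k : ℕ) : ZMod (2 ^ (k + 2)))

theorem half_add_half (k : ℕ) : half k + half k = 0 := by
  rw [half, ← Nat.cast_add, ZMod.natCast_eq_zero_iff]
  exact ⟨1, by ring⟩

theorem quarter_add_quarter (k : ℕ) : quarter k + quarter k = half k := by
  rw [half, quarter, ← Nat.cast_add]
  congr 1
  ring

theorem half_ne_zero (k : ℕ) : half k ≠ 0 := by
  rw [half, ne_eq, ZMod.natCast_eq_zero_iff]
  intro h
  have := Nat.le_of_dvd (by positivity) h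
  rw [pow_succ 2 (k + 1)] at this
  have : 0 < 2 ^ (k + 1) := by positivity
  omega

theorem add_self_eq_zero {k : ℕ} {i : ZMod (2 ^ (k + 2))} (h : i + i = 0) :
    i = 0 ∨ i = half k := by
  rw [← ZMod.natCast_zmod_val i, ← Nat.cast_add, ZMod.natCast_eq_zero_iff] at h
  obtain ⟨c, hc⟩ := h
  have hlt := ZMod.val_lt i
  have hc2 : c < 2 := by
    by_contra hcon
    have := Nat.mul_le_mul_left (2 ^ (k + 2)) (not_lt.1 hcon)
    omega
  have hpw : 2 ^ (k + 2) = 2 ^ (k + 1) * 2 := pow_succ 2 (k + 1)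
  interval_cases c
  · left
    rw [← ZMod.val_eq_zero]
    omega
  · right
    rw [half, ← ZMod.natCast_zmod_val i]
    congr 1
    omega

/-- Wreathed presentation data, `n = k + 2`. -/
structure Data {S : Type*} [Group S] (k : ℕ) (x y z : S) : Prop where
  card_eq : Nat.card S = 2 ^ (2 * k + 5)
  orderOf_x : orderOf x = 2 ^ (k + 2)
  comm : Commute x y
  disjoint : zpowers x ⊓ zpowers y = ⊥
  orderOf_z : orderOf z = 2
  conj_eq : z * x * z⁻¹ = y

theorem exists_data {S : Type*} [Group S] (hS : Cfsg.IsWreathed S) :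
    ∃ (k : ℕ) (x y z : S), Data k x y z := by
  obtain ⟨n, hn, hcard, x, y, z, hx, hxy, hd, hz, hzx⟩ := hS
  obtain ⟨k, rfl⟩ : ∃ k, n = k + 2 := ⟨n - 2, by omega⟩
  exact ⟨k, x, y, z, by rw [hcard]; ring_nf, hx, hxy, hd, hz, hzx⟩

variable {S : Type*} [Group S] {k : ℕ} {x y z : S}

/-- The element `x ^ i * y ^ j`. -/
def el (k : ℕ) (x y : S) (i j : ZMod (2 ^ (k + 2))) : S :=
  powZ (2 ^ (k + 2)) x i * powZ (2 ^ (k + 2)) y j

local notation "e" => el k x y

namespace Data

theorem finite (D : Data k x y z) : Finite S :=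
  Nat.finite_of_card_ne_zero (by rw [D.card_eq]; positivity)

theorem z_mul_z (D : Data k x y z) : z * z = 1 :=
  pow_two z ▸ D.orderOf_z ▸ pow_orderOf_eq_one z

theorem z_inv (D : Data k x y z) : z⁻¹ = z := inv_eq_of_mul_eq_one_right D.z_mul_z

theorem x_pow (D : Data k x y z) : x ^ 2 ^ (k + 2) = 1 := pow_eq_one_of_orderOf D.orderOf_x

theorem orderOf_y (D : Data k x y z) : orderOf y = 2 ^ (k + 2) := by
  rw [← D.conj_eq, ← MulAut.conj_apply, MulEquiv.orderOf_eq, D.orderOf_x]

theorem y_pow (D : Data k x y z) : y ^ 2 ^ (k + 2) = 1 := pow_eq_one_of_orderOf D.orderOf_y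

theorem mul_ee (D : Data k x y z) (i j i' j' : ZMod (2 ^ (k + 2))) :
    e i j * e i' j' = e (i + i') (j + j') := by
  simp only [el, powZ_add D.x_pow, powZ_add D.y_pow]
  have hc : Commute (powZ (2 ^ (k + 2)) y j) (powZ (2 ^ (k + 2)) x i') :=
    D.comm.symm.pow_pow _ _
  rw [mul_assoc, ← mul_assoc (powZ (2 ^ (k + 2)) y j), hc.eq]
  simp only [mul_assoc]

theorem e_zero (_D : Data k x y z) : e 0 0 = 1 := by simp [el, powZ_zero]

theorem e_inv (D : Data k x y z) (i j : ZMod (2 ^ (k + 2))) : (e i j)⁻¹ = e (-i) (-j) := by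
  refine inv_eq_of_mul_eq_one_right ?_
  rw [D.mul_ee, add_neg_cancel, add_neg_cancel, D.e_zero]

theorem e_comm (D : Data k x y z) (i j i' j' : ZMod (2 ^ (k + 2))) :
    Commute (e i j) (e i' j') := by
  show _ * _ = _ * _
  rw [D.mul_ee, D.mul_ee, add_comm i, add_comm j]

theorem e_inj (D : Data k x y z) {i j i' j' : ZMod (2 ^ (k + 2))}
    (h : e i j = e i' j') : i = i' ∧ j = j' := by
  have h1 : e (i - i') (j - j') = 1 := by
    rw [sub_eq_add_neg, sub_eq_add_neg, ← D.mul_ee, ← D.e_inv, h, mul_inv_cancel]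
  have h2 : powZ _ x (i - i') = (powZ _ y (j - j'))⁻¹ := eq_inv_of_mul_eq_one_left h1
  have hx : powZ _ x (i - i') ∈ zpowers x ⊓ zpowers y :=
    Subgroup.mem_inf.2 ⟨powZ_mem_zpowers _ _ _, by
      rw [h2]; exact inv_mem (powZ_mem_zpowers _ _ _)⟩
  rw [D.disjoint, Subgroup.mem_bot] at hx
  rw [hx, eq_comm, inv_eq_one, ← powZ_zero (2 ^ (k + 2)) y] at h2
  rw [← powZ_zero (2 ^ (k + 2)) x] at hx
  exact ⟨sub_eq_zero.1 (powZ_injective D.orderOf_x hx),
    sub_eq_zero.1 (powZ_injective D.orderOf_y h2)⟩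

theorem e_eq_one_iff (D : Data k x y z) {i j : ZMod (2 ^ (k + 2))} :
    e i j = 1 ↔ i = 0 ∧ j = 0 :=
  ⟨fun h => D.e_inj (h.trans D.e_zero.symm), by rintro ⟨rfl, rfl⟩; exact D.e_zero⟩

theorem conj_z (D : Data k x y z) (i j : ZMod (2 ^ (k + 2))) : z * e i j * z⁻¹ = e j i := by
  have hy : z * y * z⁻¹ = x := by
    conv_lhs => rw [← D.conj_eq, D.z_inv]
    calc z * (z * x * z) * z = (z * z) * x * (z * z) := by group
      _ = x := by rw [D.z_mul_z, one_mul, mul_one]
  simp only [el, powZ]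
  rw [← conj_mul, ← conj_pow, ← conj_pow, D.conj_eq, hy]
  exact (D.comm.pow_pow j.val i.val).symm.eq

theorem z_mul_e (D : Data k x y z) (i j : ZMod (2 ^ (k + 2))) : z * e i j = e j i * z :=
  mul_inv_eq_iff_eq_mul.1 (D.conj_z i j)

theorem e_one_zero (D : Data k x y z) : e 1 0 = x := by
  rw [el, powZ_one D.x_pow, powZ_zero, mul_one]

theorem e_zero_one (D : Data k x y z) : e 0 1 = y := by
  rw [el, powZ_one D.y_pow, powZ_zero, one_mul]

/-- The abelian maximal subgroup. -/
def base (D : Data k x y z) : Subgroup S where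
  carrier := {g | ∃ i j, g = e i j}
  one_mem' := ⟨0, 0, D.e_zero.symm⟩
  mul_mem' := by
    rintro a b ⟨i, j, rfl⟩ ⟨i', j', rfl⟩
    exact ⟨_, _, D.mul_ee i j i' j'⟩
  inv_mem' := by
    rintro a ⟨i, j, rfl⟩
    exact ⟨_, _, D.e_inv i j⟩

theorem e_mem_base (D : Data k x y z) (i j : ZMod (2 ^ (k + 2))) : e i j ∈ D.base := ⟨i, j, rfl⟩

/-- The bijection from pairs of exponents to the abelian maximal subgroup. -/
noncomputable def baseEquiv (D : Data k x y z) :
    Multiplicative (ZMod (2 ^ (k + 2)) × ZMod (2 ^ (k + 2))) ≃* D.base :=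
  MulEquiv.ofBijective
    (MonoidHom.mk' (fun p : Multiplicative (ZMod (2 ^ (k + 2)) × ZMod (2 ^ (k + 2))) =>
        (⟨e p.toAdd.1 p.toAdd.2, D.e_mem_base p.toAdd.1 p.toAdd.2⟩ : D.base))
      (fun p q => Subtype.ext (D.mul_ee _ _ _ _).symm))
    ⟨fun p q h => Multiplicative.toAdd.injective
        (Prod.ext_iff.2 (D.e_inj (congrArg Subtype.val h))),
      fun ⟨g, i, j, hg⟩ => ⟨Multiplicative.ofAdd (i, j), Subtype.ext hg.symm⟩⟩

theorem card_base (D : Data k x y z) : Nat.card D.base = 2 ^ (2 * k + 4) := by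
  rw [← Nat.card_congr D.baseEquiv.toEquiv, Nat.card_congr Multiplicative.toAdd, Nat.card_prod,
    Nat.card_zmod]
  ring

theorem index_base (D : Data k x y z) : D.base.index = 2 := by
  have h := D.base.card_mul_index
  rw [D.card_base, D.card_eq, pow_succ 2 (2 * k + 4)] at h
  exact Nat.eq_of_mul_eq_mul_left (by positivity) h

theorem normal_base (D : Data k x y z) : D.base.Normal :=
  Subgroup.normal_of_index_eq_two D.index_base

theorem z_notMem (D : Data k x y z) : z ∉ D.base := by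
  rintro ⟨i, j, hz⟩
  have : z * e 1 0 = e 0 1 * z := D.z_mul_e 1 0
  rw [hz, D.mul_ee, D.mul_ee] at this
  have h1 := (D.e_inj this).1
  rw [zero_add, add_eq_left] at h1
  have : Fact (1 < 2 ^ (k + 2)) := ⟨Nat.one_lt_two_pow (by omega)⟩
  exact one_ne_zero h1

theorem ez_notMem (D : Data k x y z) (i j : ZMod (2 ^ (k + 2))) : e i j * z ∉ D.base := fun h =>
  D.z_notMem ((D.base.mul_mem_cancel_left (D.e_mem_base i j)).1 h)

theorem ez_ne_e (D : Data k x y z) (i j i' j' : ZMod (2 ^ (k + 2))) : e i j * z ≠ e i' j' :=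
  fun h => D.ez_notMem i j (h ▸ D.e_mem_base i' j')

theorem cases (D : Data k x y z) (g : S) :
    (∃ i j, g = e i j) ∨ ∃ i j, g = e i j * z := by
  by_cases hg : g ∈ D.base
  · exact Or.inl hg
  · have h : g * z⁻¹ ∈ D.base := by
      rw [Subgroup.mul_mem_iff_of_index_two D.index_base, inv_mem_iff]
      exact iff_of_false hg D.z_notMem
    obtain ⟨i, j, hij⟩ := h
    exact Or.inr ⟨i, j, by rw [← hij, inv_mul_cancel_right]⟩

theorem mul_eze (D : Data k x y z) (i j i' j' : ZMod (2 ^ (k + 2))) :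
    e i j * z * e i' j' = e (i + j') (j + i') * z := by
  rw [mul_assoc, D.z_mul_e, ← mul_assoc, D.mul_ee]

theorem mul_eez (D : Data k x y z) (i j i' j' : ZMod (2 ^ (k + 2))) :
    e i j * (e i' j' * z) = e (i + i') (j + j') * z := by
  rw [← mul_assoc, D.mul_ee]

theorem mul_ezez (D : Data k x y z) (i j i' j' : ZMod (2 ^ (k + 2))) :
    e i j * z * (e i' j' * z) = e (i + j') (j + i') := by
  rw [← mul_assoc, D.mul_eze, mul_assoc, D.z_mul_z, mul_one]

theorem sq_ez (D : Data k x y z) (i j : ZMod (2 ^ (k + 2))) :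
    e i j * z * (e i j * z) = e (i + j) (i + j) := by
  rw [D.mul_ezez, add_comm j i]

theorem ez_inj (D : Data k x y z) {i j i' j' : ZMod (2 ^ (k + 2))}
    (h : e i j * z = e i' j' * z) : i = i' ∧ j = j' := D.e_inj (mul_right_cancel h)

theorem conj_e_ez (D : Data k x y z) (a b i j : ZMod (2 ^ (k + 2))) :
    e a b * (e i j * z) * (e a b)⁻¹ = e (a + i - b) (b + j - a) * z := by
  rw [D.mul_eez, D.e_inv, D.mul_eze]
  simp only [sub_eq_add_neg]

theorem conj_ez_e (D : Data k x y z) (i j a b : ZMod (2 ^ (k + 2))) :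
    e i j * z * e a b * (e i j * z)⁻¹ = e b a := by
  rw [mul_inv_eq_iff_eq_mul, D.mul_eze, D.mul_eez, add_comm i, add_comm j]

theorem commute_e_ez (D : Data k x y z) {a b i j : ZMod (2 ^ (k + 2))} :
    Commute (e a b) (e i j * z) ↔ a = b := by
  constructor
  · intro h
    have := h.eq
    rw [D.mul_eez, D.mul_eze] at this
    have h1 := (D.ez_inj this).1
    linear_combination h1
  · rintro rfl
    show _ * _ = _ * _
    rw [D.mul_eez, D.mul_eze, add_comm a i, add_comm a j]

theorem diag_mem_center (D : Data k x y z) (i : ZMod (2 ^ (k + 2))) : e i i ∈ center S := by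
  rw [mem_center_iff]
  intro g
  rcases D.cases g with ⟨a, b, rfl⟩ | ⟨a, b, rfl⟩
  · exact (D.e_comm a b i i).eq
  · exact (D.commute_e_ez.2 rfl).eq.symm

theorem mem_center_iff_diag (D : Data k x y z) {g : S} :
    g ∈ center S ↔ ∃ i, g = e i i := by
  constructor
  · intro hg
    rcases D.cases g with ⟨a, b, rfl⟩ | ⟨a, b, rfl⟩
    · have h : Commute (e a b) (e 0 0 * z) := (mem_center_iff.1 hg _).symm
      exact ⟨a, by rw [D.commute_e_ez.1 h]⟩
    · have h : Commute (e 1 0) (e a b * z) := mem_center_iff.1 hg _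
      have : Fact (1 < 2 ^ (k + 2)) := ⟨Nat.one_lt_two_pow (by omega)⟩
      exact absurd (D.commute_e_ez.1 h) one_ne_zero
  · rintro ⟨i, rfl⟩
    exact D.diag_mem_center i

theorem e_pow (D : Data k x y z) (i j : ZMod (2 ^ (k + 2))) (m : ℕ) :
    e i j ^ m = e ((m : ZMod (2 ^ (k + 2))) * i) ((m : ZMod (2 ^ (k + 2))) * j) := by
  induction m with
  | zero => simp [D.e_zero]
  | succ m ih =>
    rw [pow_succ, ih, D.mul_ee]
    push_cast
    congr 1 <;> ring

theorem orderOf_of_one (D : Data k x y z) (j : ZMod (2 ^ (k + 2))) :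
    orderOf (e 1 j) = 2 ^ (k + 2) := by
  apply Nat.dvd_antisymm
  · rw [orderOf_dvd_iff_pow_eq_one, D.e_pow, ZMod.natCast_self, zero_mul, zero_mul, D.e_zero]
  · have h := pow_orderOf_eq_one (e 1 j)
    rw [D.e_pow, D.e_eq_one_iff, mul_one, ZMod.natCast_eq_zero_iff] at h
    exact h.1

theorem center_eq (D : Data k x y z) : center S = zpowers (e 1 1) := by
  have := D.finite
  refine le_antisymm (fun g hg => ?_) (zpowers_le.2 (D.diag_mem_center 1))
  obtain ⟨i, rfl⟩ := D.mem_center_iff_diag.1 hg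
  exact mem_powers_iff_mem_zpowers.1
    ⟨i.val, by simp [D.e_pow, ZMod.natCast_zmod_val]⟩

theorem card_center (D : Data k x y z) : Nat.card (center S) = 2 ^ (k + 2) := by
  rw [D.center_eq, Nat.card_zpowers, D.orderOf_of_one]

theorem mem_zpowers_antidiag (D : Data k x y z) {g : S} :
    g ∈ zpowers (e 1 (-1)) ↔ ∃ i, g = e i (-i) := by
  have := D.finite
  constructor
  · intro hg
    obtain ⟨m, rfl⟩ := mem_powers_iff_mem_zpowers.2 hg
    exact ⟨(m : ZMod _), by simp [D.e_pow]⟩
  · rintro ⟨i, rfl⟩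
    exact mem_powers_iff_mem_zpowers.1 ⟨i.val, by simp [D.e_pow, ZMod.natCast_zmod_val]⟩

theorem commutator_eq (D : Data k x y z) : commutator S = zpowers (e 1 (-1)) := by
  apply le_antisymm
  · rw [_root_.commutator_def, commutator_le]
    intro a _ b _
    rw [D.mem_zpowers_antidiag, commutatorElement_def]
    rcases D.cases a with ⟨i, j, rfl⟩ | ⟨i, j, rfl⟩ <;>
      rcases D.cases b with ⟨i', j', rfl⟩ | ⟨i', j', rfl⟩
    · exact ⟨0, by rw [(D.e_comm i j i' j').eq, mul_inv_cancel_right, mul_inv_cancel, neg_zero,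
        D.e_zero]⟩
    · refine ⟨i - j, ?_⟩
      rw [mul_inv_eq_iff_eq_mul, D.conj_e_ez, D.mul_eez]
      congr 2 <;> ring
    · refine ⟨j' - i', ?_⟩
      rw [mul_inv_eq_iff_eq_mul, D.conj_ez_e, D.mul_ee]
      congr 1 <;> ring
    · refine ⟨i + j' - i' - j, ?_⟩
      rw [mul_inv_eq_iff_eq_mul, mul_inv_eq_iff_eq_mul, D.mul_ezez, D.mul_eez, D.mul_ezez]
      congr 1 <;> ring
  · rw [zpowers_le]
    have h := commutator_mem_commutator (H₁ := (⊤ : Subgroup S)) (H₂ := ⊤) (mem_top x) (mem_top z)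
    have : ⁅x, z⁆ = e 1 (-1) := by
      have h' := D.conj_e_ez 1 0 0 0
      rw [D.e_zero, one_mul, D.e_one_zero] at h'
      rw [commutatorElement_def, mul_inv_eq_iff_eq_mul, h']
      congr 2 <;> ring
    rwa [this] at h

theorem card_commutator (D : Data k x y z) : Nat.card (commutator S) = 2 ^ (k + 2) := by
  rw [D.commutator_eq, Nat.card_zpowers, D.orderOf_of_one]

theorem eq_base_of_abelian (D : Data k x y z) {A : Subgroup S} (hA : IsMulCommutative A)
    (hcard : Nat.card A = 2 ^ (2 * k + 4)) : A = D.base := by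
  have := D.finite
  refine Subgroup.eq_of_le_of_card_ge (fun g hg => ?_) (by rw [D.card_base, hcard])
  by_contra hgU
  have hle : A ⊓ D.base ≤ center S := by
    rintro a ⟨ha, haU⟩
    obtain ⟨p, q, rfl⟩ := haU
    rcases D.cases g with ⟨i, j, rfl⟩ | ⟨i, j, rfl⟩
    · exact absurd (D.e_mem_base i j) hgU
    · have hc : Commute (e p q) (e i j * z) :=
        congrArg Subtype.val (mul_comm' (⟨_, ha⟩ : A) ⟨_, hg⟩)
      rw [D.commute_e_ez.1 hc]
      exact D.diag_mem_center q
  have h1 := Nat.le_of_dvd Nat.card_pos (Subgroup.card_dvd_of_le hle)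
  have h2 := ((A ⊓ D.base).subgroupOf A).card_mul_index
  rw [Nat.card_congr (Subgroup.subgroupOfEquivOfLe inf_le_left).toEquiv] at h2
  change _ * (A ⊓ D.base).relIndex A = _ at h2
  rw [Subgroup.inf_relIndex_left] at h2
  have h3 : D.base.relIndex A ≤ 2 := D.index_base ▸ Nat.le_of_dvd (by rw [D.index_base]; omega)
    (@Subgroup.relIndex_dvd_index_of_normal _ _ D.base A D.normal_base)
  rw [D.card_center] at h1
  rw [hcard] at h2
  have h4 := Nat.mul_le_mul h1 h3
  rw [h2, ← pow_succ] at h4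
  have := (Nat.pow_le_pow_iff_right one_lt_two).1 h4
  omega

theorem isMulCommutative_base (D : Data k x y z) : IsMulCommutative D.base :=
  ⟨⟨fun ⟨_, i, j, ha⟩ ⟨_, i', j', hb⟩ => Subtype.ext (by
    subst ha; subst hb; exact (D.e_comm i j i' j').eq)⟩⟩

theorem quotient_dihedral (D : Data k x y z) :
    Nonempty (S ⧸ center S ≃* DihedralGroup (2 ^ (k + 2))) := by
  have := D.finite
  refine nonempty_dihedral (a := QuotientGroup.mk x) (b := QuotientGroup.mk z) ?_ ?_ ?_ ?_ ?_
  · apply Nat.dvd_antisymm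
    · rw [orderOf_dvd_iff_pow_eq_one, ← QuotientGroup.mk_pow, D.x_pow, QuotientGroup.mk_one]
    · have h := pow_orderOf_eq_one (QuotientGroup.mk x : S ⧸ center S)
      rw [← QuotientGroup.mk_pow, QuotientGroup.eq_one_iff] at h
      obtain ⟨i, hi⟩ := D.mem_center_iff_diag.1 h
      have hxm : ∀ m : ℕ, x ^ m = e (m : ZMod (2 ^ (k + 2))) 0 := fun m => by
        rw [el, powZ_natCast D.x_pow, powZ_zero, mul_one]
      rw [hxm] at hi
      obtain ⟨h1, h2⟩ := D.e_inj hi
      rw [← h2, ZMod.natCast_eq_zero_iff] at h1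
      exact h1
  · rw [← QuotientGroup.mk_mul, D.z_mul_z, QuotientGroup.mk_one]
  · rw [← QuotientGroup.mk_inv, ← QuotientGroup.mk_inv, ← QuotientGroup.mk_mul,
      ← QuotientGroup.mk_mul, D.conj_eq, QuotientGroup.eq, D.mem_center_iff_diag]
    refine ⟨-1, ?_⟩
    rw [← mul_inv_rev, ← neg_neg (1 : ZMod (2 ^ (k + 2))), neg_neg (-(1 : ZMod (2 ^ (k + 2)))),
      ← D.e_inv]
    congr 1
    simp [el, powZ_one D.x_pow, powZ_one D.y_pow]
  · rintro ⟨m, hm⟩
    change (QuotientGroup.mk x : S ⧸ center S) ^ m = _ at hm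
    rw [← QuotientGroup.mk_zpow, QuotientGroup.eq] at hm
    obtain ⟨i, hi⟩ := D.mem_center_iff_diag.1 hm
    have hxU : x ∈ D.base := ⟨1, 0, D.e_one_zero.symm⟩
    have hmem : (x ^ m)⁻¹ * z ∈ D.base := by rw [hi]; exact D.e_mem_base i i
    exact D.z_notMem ((D.base.mul_mem_cancel_left (inv_mem (zpow_mem hxU m))).1 hmem)
  · have h := (center S).card_mul_index
    rw [D.card_center, D.card_eq] at h
    rw [← Subgroup.index_eq_card]
    have : (2 : ℕ) ^ (2 * k + 5) = 2 ^ (k + 2) * (2 * 2 ^ (k + 2)) := by ring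
    exact Nat.eq_of_mul_eq_mul_left (by positivity) (h.trans this)

theorem orderOf_e_two (D : Data k x y z) {i j : ZMod (2 ^ (k + 2))} (hi : i + i = 0)
    (hj : j + j = 0) (h : i ≠ 0 ∨ j ≠ 0) : orderOf (e i j) = 2 :=
  orderOf_eq_prime (by rw [pow_two, D.mul_ee, hi, hj, D.e_zero])
    (fun h1 => h.elim (fun h' => h' (D.e_eq_one_iff.1 h1).1) (fun h' => h' (D.e_eq_one_iff.1 h1).2))

theorem orderOf_ez_two (D : Data k x y z) (i : ZMod (2 ^ (k + 2))) :
    orderOf (e i (-i) * z) = 2 :=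
  orderOf_eq_prime (by rw [pow_two, D.sq_ez, add_neg_cancel, D.e_zero])
    (fun h1 => D.ez_notMem i (-i) (h1 ▸ one_mem _))

theorem invol_cases (D : Data k x y z) {g : S} (hg : orderOf g = 2) :
    g = e (half k) (half k) ∨ g = e (half k) 0 ∨ g = e 0 (half k) ∨
      ∃ i, g = e i (-i) * z := by
  have hsq : g * g = 1 := by
    rw [← pow_two]
    exact orderOf_dvd_iff_pow_eq_one.1 hg.dvd
  rcases D.cases g with ⟨i, j, rfl⟩ | ⟨i, j, rfl⟩
  · rw [D.mul_ee, D.e_eq_one_iff] at hsq
    rcases add_self_eq_zero hsq.1 with rfl | rfl <;> rcases add_self_eq_zero hsq.2 with rfl | rfl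
    · rw [D.e_zero, orderOf_one] at hg; omega
    all_goals simp
  · rw [D.sq_ez, D.e_eq_one_iff] at hsq
    exact Or.inr (Or.inr (Or.inr ⟨i, by rw [eq_neg_of_add_eq_zero_right hsq.1]⟩))

theorem conj_outer (D : Data k x y z) (i i' c : ZMod (2 ^ (k + 2))) :
    e (i' - i) 0 * (e i (c - i) * z) * (e (i' - i) 0)⁻¹ = e i' (c - i') * z := by
  rw [D.conj_e_ez]
  congr 2 <;> ring

theorem isConj_invol_outer (D : Data k x y z) (i : ZMod (2 ^ (k + 2))) :
    IsConj (e 0 0 * z) (e i (-i) * z) := by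
  refine isConj_iff.2 ⟨e (i - 0) 0, ?_⟩
  have h := D.conj_outer 0 i 0
  rwa [sub_zero (0 : ZMod (2 ^ (k + 2))), zero_sub] at h

theorem isConj_half (D : Data k x y z) : IsConj (e (half k) 0) (e 0 (half k)) :=
  isConj_iff.2 ⟨z, D.conj_z _ _⟩

/-! ### The normal four group and the others -/

/-- The normal four group `Ω₁` of the abelian maximal subgroup. -/
def omegaBase (D : Data k x y z) : Subgroup S where
  carrier := {g | ∃ i j, i + i = 0 ∧ j + j = 0 ∧ g = e i j}
  one_mem' := ⟨0, 0, add_zero 0, add_zero 0, D.e_zero.symm⟩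
  mul_mem' := by
    rintro a b ⟨i, j, hi, hj, rfl⟩ ⟨i', j', hi', hj', rfl⟩
    exact ⟨_, _, by linear_combination hi + hi', by linear_combination hj + hj',
      D.mul_ee i j i' j'⟩
  inv_mem' := by
    rintro a ⟨i, j, hi, hj, rfl⟩
    exact ⟨_, _, by linear_combination -hi, by linear_combination -hj, D.e_inv i j⟩

theorem mem_omegaBase (D : Data k x y z) {g : S} : g ∈ D.omegaBase ↔ g ∈ D.base ∧ g * g = 1 := by
  constructor
  · rintro ⟨i, j, hi, hj, rfl⟩
    exact ⟨D.e_mem_base i j, by rw [D.mul_ee, hi, hj, D.e_zero]⟩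
  · rintro ⟨⟨i, j, rfl⟩, h⟩
    rw [D.mul_ee, D.e_eq_one_iff] at h
    exact ⟨i, j, h.1, h.2, rfl⟩

theorem normal_omegaBase (D : Data k x y z) : D.omegaBase.Normal := by
  have := D.normal_base
  refine ⟨fun a ha g => ?_⟩
  obtain ⟨haU, ha2⟩ := D.mem_omegaBase.1 ha
  exact D.mem_omegaBase.2 ⟨Subgroup.Normal.conj_mem inferInstance a haU g,
    by rw [conj_mul, ha2, mul_one, mul_inv_cancel]⟩

theorem isKleinFour_omegaBase (D : Data k x y z) : IsKleinFour D.omegaBase := by
  refine isKleinFour_of_card ?_ fun h hh => (D.mem_omegaBase.1 hh).2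
  have key : (D.omegaBase : Set S) =
      {1, e (half k) 0, e 0 (half k), e (half k) (half k)} := by
    ext g
    constructor
    · rintro ⟨i, j, hi, hj, rfl⟩
      rcases add_self_eq_zero hi with rfl | rfl <;> rcases add_self_eq_zero hj with rfl | rfl <;>
        simp [D.e_zero]
    · have h0 : (0 : ZMod (2 ^ (k + 2))) + 0 = 0 := add_zero 0
      have hh := half_add_half k
      rintro (rfl | rfl | rfl | rfl)
      exacts [one_mem _, ⟨_, _, hh, h0, rfl⟩, ⟨_, _, h0, hh, rfl⟩, ⟨_, _, hh, hh, rfl⟩]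
  show Nat.card (D.omegaBase : Set S) = 4
  rw [Nat.card_coe_set_eq, key]
  have hne : ∀ {a b c d : ZMod (2 ^ (k + 2))}, a ≠ c ∨ b ≠ d → e a b ≠ e c d :=
    fun h h' => h.elim (fun h'' => h'' (D.e_inj h').1) (fun h'' => h'' (D.e_inj h').2)
  rw [← D.e_zero]
  have := half_ne_zero k
  repeat rw [Set.ncard_insert_of_notMem]
  · rw [Set.ncard_singleton]
  all_goals
    simp only [Set.mem_insert_iff, Set.mem_singleton_iff, not_or]
  · exact hne (Or.inl (Ne.symm this))
  · exact ⟨hne (Or.inl this), hne (Or.inr (Ne.symm this))⟩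
  · exact ⟨hne (Or.inl (Ne.symm this)), hne (Or.inr (Ne.symm this)), hne (Or.inl (Ne.symm this))⟩

theorem four_cases (D : Data k x y z) {T : Subgroup S} (hT : IsKleinFour T)
    (hne : T ≠ D.omegaBase) :
    ∃ i, e i (-i) * z ∈ T := by
  have := D.finite
  by_contra hno
  simp only [not_exists] at hno
  apply hne
  refine Subgroup.eq_of_le_of_card_ge (fun g hg => ?_)
    (by rw [show Nat.card D.omegaBase = 4 from D.isKleinFour_omegaBase.card_four,
      show Nat.card T = 4 from IsKleinFour.card_four])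
  have hsq := sq_of_mem_kleinFour hT hg
  rcases D.cases g with ⟨i, j, rfl⟩ | ⟨i, j, rfl⟩
  · exact D.mem_omegaBase.2 ⟨D.e_mem_base i j, hsq⟩
  · rw [D.sq_ez, D.e_eq_one_iff] at hsq
    exact absurd (eq_neg_of_add_eq_zero_right hsq.1 ▸ hg) (hno i)

/-- The four group generated by an outer involution and the central one. -/
def outerFour (D : Data k x y z) (i : ZMod (2 ^ (k + 2))) : Subgroup S where
  carrier := {g | ∃ c, c + c = 0 ∧ (g = e c c ∨ g = e (i + c) (-i + c) * z)}
  one_mem' := ⟨0, add_zero 0, Or.inl D.e_zero.symm⟩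
  mul_mem' := by
    rintro a b ⟨c, hc, rfl | rfl⟩ ⟨d, hd, rfl | rfl⟩
    · exact ⟨c + d, by linear_combination hc + hd, Or.inl (D.mul_ee _ _ _ _)⟩
    · exact ⟨c + d, by linear_combination hc + hd,
        Or.inr (by rw [D.mul_eez]; congr 2 <;> ring)⟩
    · exact ⟨c + d, by linear_combination hc + hd,
        Or.inr (by rw [D.mul_eze]; congr 2 <;> ring)⟩
    · exact ⟨c + d, by linear_combination hc + hd,
        Or.inl (by rw [D.mul_ezez]; congr 1 <;> ring)⟩
  inv_mem' := by
    rintro a ⟨c, hc, rfl | rfl⟩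
    · exact ⟨-c, by linear_combination -hc, Or.inl (D.e_inv c c)⟩
    · refine ⟨c, hc, Or.inr (inv_eq_of_mul_eq_one_right ?_)⟩
      rw [D.sq_ez, D.e_eq_one_iff]
      exact ⟨by linear_combination hc, by linear_combination hc⟩

theorem isKleinFour_outerFour (D : Data k x y z) (i : ZMod (2 ^ (k + 2))) :
    IsKleinFour (D.outerFour i) := by
  refine isKleinFour_of_card ?_ ?_
  · have key : (D.outerFour i : Set S) =
        {e 0 0, e (half k) (half k), e i (-i) * z, e (i + half k) (-i + half k) * z} := by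
      ext g
      constructor
      · rintro ⟨c, hc, hg⟩
        rcases add_self_eq_zero hc with rfl | rfl <;> rcases hg with rfl | rfl <;> simp
      · have h0 : (0 : ZMod (2 ^ (k + 2))) + 0 = 0 := add_zero 0
        have hh := half_add_half k
        rintro (rfl | rfl | rfl | rfl)
        exacts [⟨0, h0, Or.inl rfl⟩, ⟨_, hh, Or.inl rfl⟩, ⟨0, h0, Or.inr (by simp)⟩,
          ⟨_, hh, Or.inr rfl⟩]
    show Nat.card (D.outerFour i : Set S) = 4
    rw [Nat.card_coe_set_eq, key]
    have hh := half_ne_zero k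
    repeat rw [Set.ncard_insert_of_notMem]
    · rw [Set.ncard_singleton]
    all_goals
      simp only [Set.mem_insert_iff, Set.mem_singleton_iff, not_or]
    · exact fun h => hh (by simpa using (D.ez_inj h).1)
    · exact ⟨(D.ez_ne_e _ _ _ _).symm, (D.ez_ne_e _ _ _ _).symm⟩
    · exact ⟨fun h => hh (D.e_inj h).1.symm, (D.ez_ne_e _ _ _ _).symm, (D.ez_ne_e _ _ _ _).symm⟩
  · rintro h ⟨c, hc, rfl | rfl⟩
    · rw [D.mul_ee, hc, D.e_zero]
    · rw [D.sq_ez, D.e_eq_one_iff]
      exact ⟨by linear_combination hc, by linear_combination hc⟩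

theorem eq_outerFour (D : Data k x y z) {T : Subgroup S} (hT : IsKleinFour T)
    {i : ZMod (2 ^ (k + 2))} (hi : e i (-i) * z ∈ T) : T = D.outerFour i := by
  have := D.finite
  have := IsKleinFour.isMulCommutative (G := T)
  refine Subgroup.eq_of_le_of_card_ge (fun g hg => ?_)
    (by rw [show Nat.card (D.outerFour i) = 4 from (D.isKleinFour_outerFour i).card_four,
      show Nat.card T = 4 from IsKleinFour.card_four])
  have key : ∀ a b, e a b ∈ T → a + a = 0 ∧ a = b := fun a b hab => by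
    have hsq := sq_of_mem_kleinFour hT hab
    rw [D.mul_ee, D.e_eq_one_iff] at hsq
    have hc : Commute (e a b) (e i (-i) * z) :=
      congrArg Subtype.val (mul_comm' (⟨_, hab⟩ : T) ⟨_, hi⟩)
    exact ⟨hsq.1, D.commute_e_ez.1 hc⟩
  rcases D.cases g with ⟨a, b, rfl⟩ | ⟨a, b, rfl⟩
  · obtain ⟨ha, rfl⟩ := key a b hg
    exact ⟨a, ha, Or.inl rfl⟩
  · have hm := mul_mem hg hi
    rw [D.mul_ezez] at hm
    obtain ⟨h1, h2⟩ := key _ _ hm
    refine ⟨a + -i, h1, Or.inr ?_⟩
    congr 2
    · ring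
    · linear_combination -h2

theorem outerFour_conj (D : Data k x y z) (i i' : ZMod (2 ^ (k + 2))) :
    (D.outerFour i).map (MulAut.conj (e (i' - i) 0)).toMonoidHom = D.outerFour i' := by
  have := D.finite
  refine Subgroup.eq_of_le_of_card_ge ?_ ?_
  · rintro _ ⟨g, ⟨c, hc, rfl | rfl⟩, rfl⟩
    · refine ⟨c, hc, Or.inl ?_⟩
      show e (i' - i) 0 * e c c * (e (i' - i) 0)⁻¹ = e c c
      rw [(D.e_comm _ _ c c).eq, mul_inv_cancel_right]
    · refine ⟨c, hc, Or.inr ?_⟩
      show e (i' - i) 0 * (e (i + c) (-i + c) * z) * (e (i' - i) 0)⁻¹ = _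
      rw [D.conj_e_ez]
      congr 2 <;> ring
  · rw [Subgroup.card_map_of_injective (MulAut.conj (e (i' - i) 0)).injective,
      show Nat.card (D.outerFour i) = 4 from (D.isKleinFour_outerFour i).card_four,
      show Nat.card (D.outerFour i') = 4 from (D.isKleinFour_outerFour i').card_four]

/-! ### Subgroups described by the exponent sum -/

/-- The elements whose exponent sum is killed by `m`. -/
def sumSub (D : Data k x y z) (m : ZMod (2 ^ (k + 2))) : Subgroup S where
  carrier := {g | ∃ i j, m * (i + j) = 0 ∧ (g = e i j ∨ g = e i j * z)}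
  one_mem' := ⟨0, 0, by ring, Or.inl D.e_zero.symm⟩
  mul_mem' := by
    rintro a b ⟨i, j, h, rfl | rfl⟩ ⟨i', j', h', rfl | rfl⟩
    · exact ⟨_, _, by linear_combination h + h', Or.inl (D.mul_ee _ _ _ _)⟩
    · exact ⟨_, _, by linear_combination h + h', Or.inr (D.mul_eez _ _ _ _)⟩
    · exact ⟨_, _, by linear_combination h + h', Or.inr (D.mul_eze _ _ _ _)⟩
    · exact ⟨_, _, by linear_combination h + h', Or.inl (D.mul_ezez _ _ _ _)⟩
  inv_mem' := by
    rintro a ⟨i, j, h, rfl | rfl⟩
    · exact ⟨_, _, by linear_combination -h, Or.inl (D.e_inv i j)⟩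
    · refine ⟨-j, -i, by linear_combination -h, Or.inr (inv_eq_of_mul_eq_one_right ?_)⟩
      rw [D.mul_ezez, add_neg_cancel, add_neg_cancel, D.e_zero]

theorem closure_involutions (D : Data k x y z) :
    closure {g : S | orderOf g = 2} = D.sumSub 2 := by
  have h00 : e 0 0 * z = z := by rw [D.e_zero, one_mul]
  refine le_antisymm ((closure_le _).2 fun g hg => ?_) fun g hg => ?_
  · have hh := half_add_half k
    rcases D.invol_cases hg with rfl | rfl | rfl | ⟨i, rfl⟩
    · exact ⟨_, _, by linear_combination hh + hh, Or.inl rfl⟩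
    · exact ⟨_, _, by linear_combination hh, Or.inl rfl⟩
    · exact ⟨_, _, by linear_combination hh, Or.inl rfl⟩
    · exact ⟨_, _, by ring, Or.inr rfl⟩
  · have hz : z ∈ closure {g : S | orderOf g = 2} := subset_closure D.orderOf_z
    have key : ∀ i j, 2 * (i + j) = 0 → e i j ∈ closure {g : S | orderOf g = 2} := by
      intro i j h
      have hoc : ∀ i : ZMod (2 ^ (k + 2)), e i (-i) ∈ closure {g : S | orderOf g = 2} := fun i => by
        have := mul_mem (subset_closure (D.orderOf_ez_two i) :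
          e i (-i) * z ∈ closure {g : S | orderOf g = 2}) hz
        rwa [mul_assoc, D.z_mul_z, mul_one] at this
      rcases add_self_eq_zero (k := k) (i := i + j) (by linear_combination h) with h' | h'
      · exact eq_neg_of_add_eq_zero_right h' ▸ hoc i
      · have := mul_mem (hoc i) (subset_closure (D.orderOf_e_two (add_zero 0) (half_add_half k)
          (Or.inr (half_ne_zero k))) : e 0 (half k) ∈ closure {g : S | orderOf g = 2})
        rw [D.mul_ee] at this
        convert this using 2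
        · ring
        · linear_combination h'
    rcases hg with ⟨i, j, h, rfl | rfl⟩
    · exact key i j h
    · exact mul_mem (key i j h) hz

theorem card_sumSub_two (D : Data k x y z) : Nat.card (D.sumSub 2) = 2 ^ (k + 4) := by
  let f : ZMod (2 ^ (k + 2)) × Bool × Bool → D.sumSub 2 := fun p =>
    ⟨e p.1 (-p.1 + if p.2.1 then half k else 0) * if p.2.2 then z else 1, by
      refine ⟨p.1, -p.1 + if p.2.1 then half k else 0, ?_, ?_⟩
      · show (2 : ZMod (2 ^ (k + 2))) * (p.1 + (-p.1 + if p.2.1 then half k else 0)) = 0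
        split
        · linear_combination half_add_half k
        · ring
      · rcases p with ⟨i, a, _ | _⟩ <;> simp⟩
  have hf : Function.Bijective f := by
    refine ⟨?_, ?_⟩
    · rintro ⟨i, a, b⟩ ⟨i', a', b'⟩ h
      have h' := congrArg Subtype.val h
      simp only [f] at h'
      have hh := half_ne_zero k
      cases b <;> cases b' <;> simp only [Bool.false_eq_true, if_false, if_true, mul_one] at h'
      · obtain ⟨rfl, h2⟩ := D.e_inj h'
        cases a <;> cases a' <;> simp_all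
      · exact absurd h'.symm (D.ez_ne_e _ _ _ _)
      · exact absurd h' (D.ez_ne_e _ _ _ _)
      · obtain ⟨rfl, h2⟩ := D.ez_inj h'
        cases a <;> cases a' <;> simp_all
    · rintro ⟨g, i, j, h, hg⟩
      rcases add_self_eq_zero (k := k) (i := i + j) (by linear_combination h) with h' | h' <;>
        rcases hg with rfl | rfl
      · exact ⟨(i, false, false), Subtype.ext (by simp [f, eq_neg_of_add_eq_zero_right h'])⟩
      · exact ⟨(i, false, true), Subtype.ext (by simp [f, eq_neg_of_add_eq_zero_right h'])⟩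
      · exact ⟨(i, true, false), Subtype.ext (by
          simp [f, show -i + half k = j by linear_combination -h'])⟩
      · exact ⟨(i, true, true), Subtype.ext (by
          simp [f, show -i + half k = j by linear_combination -h'])⟩
  rw [← Nat.card_congr (Equiv.ofBijective f hf)]
  simp [Nat.card_prod, Nat.card_zmod]
  ring

theorem sup_zpowers_eq_top (D : Data k x y z) :
    closure {g : S | orderOf g = 2} ⊔ zpowers x = ⊤ := by
  set M := closure {g : S | orderOf g = 2} ⊔ zpowers x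
  rw [eq_top_iff]
  intro g _
  have hz : z ∈ M := mem_sup_left (subset_closure D.orderOf_z)
  have hx : ∀ i, e i 0 ∈ M := fun i => by
    refine mem_sup_right ?_
    rw [el, powZ_zero, mul_one]
    exact powZ_mem_zpowers _ _ _
  have hall : ∀ i j, e i j ∈ M := fun i j => by
    have := mul_mem (hx i) (mul_mem (mul_mem hz (hx j)) (inv_mem hz))
    rwa [D.conj_z, D.mul_ee, add_zero, zero_add] at this
  rcases D.cases g with ⟨i, j, rfl⟩ | ⟨i, j, rfl⟩
  · exact hall i j
  · exact mul_mem (hall i j) hz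

/-- The generalised quaternion subgroup of order `2 ^ (k + 3)`. -/
def quatSub (D : Data k x y z) : Subgroup S where
  carrier := {g | ∃ i, g = e i (-i) ∨ g = e i (half k - i) * z}
  one_mem' := ⟨0, Or.inl (by rw [neg_zero, D.e_zero])⟩
  mul_mem' := by
    have hh := half_add_half k
    rintro a b ⟨i, rfl | rfl⟩ ⟨j, rfl | rfl⟩
    · exact ⟨i + j, Or.inl (by rw [D.mul_ee]; congr 1; ring)⟩
    · exact ⟨i + j, Or.inr (by rw [D.mul_eez]; congr 2; ring)⟩
    · exact ⟨i - j, Or.inr (by rw [D.mul_eze]; congr 2 <;> ring)⟩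
    · exact ⟨i + half k - j, Or.inl (by
        rw [D.mul_ezez]; congr 1
        · ring
        · linear_combination hh)⟩
  inv_mem' := by
    have hh := half_add_half k
    rintro a ⟨i, rfl | rfl⟩
    · exact ⟨-i, Or.inl (D.e_inv i (-i))⟩
    · refine ⟨i + half k, Or.inr (inv_eq_of_mul_eq_one_right ?_)⟩
      rw [D.mul_ezez, D.e_eq_one_iff]
      exact ⟨by ring, by linear_combination hh⟩

theorem card_quatSub (D : Data k x y z) : Nat.card D.quatSub = 2 ^ (k + 3) := by
  let f : ZMod (2 ^ (k + 2)) × Bool → D.quatSub := fun p =>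
    if p.2 then ⟨_, p.1, Or.inr rfl⟩ else ⟨_, p.1, Or.inl rfl⟩
  have hf : Function.Bijective f := by
    refine ⟨?_, ?_⟩
    · rintro ⟨i, b⟩ ⟨j, b'⟩ h
      cases b <;> cases b' <;> simp only [f, Bool.false_eq_true, if_false, if_true] at h <;>
        have h' := congrArg Subtype.val h
      · rw [(D.e_inj h').1]
      · exact absurd h'.symm (D.ez_ne_e _ _ _ _)
      · exact absurd h' (D.ez_ne_e _ _ _ _)
      · rw [(D.ez_inj h').1]
    · rintro ⟨g, i, rfl | rfl⟩
      exacts [⟨(i, false), rfl⟩, ⟨(i, true), rfl⟩]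
  rw [← Nat.card_congr (Equiv.ofBijective f hf)]
  simp [Nat.card_prod, Nat.card_zmod]
  ring

theorem quaternion_quatSub (D : Data k x y z) :
    Nonempty (D.quatSub ≃* QuaternionGroup (2 ^ (k + 1))) := by
  have := D.finite
  refine nonempty_quaternion_subgroup (a := e 1 (-1)) (b := e 0 (half k - 0) * z)
    ⟨1, Or.inl rfl⟩ ⟨0, Or.inr rfl⟩ ?_ ?_ ?_ ?_ ?_
  · rw [D.orderOf_of_one]; ring
  · rw [D.sq_ez, D.e_pow]
    have hh := half_add_half k
    have hq : (((2 ^ (k + 1) : ℕ)) : ZMod (2 ^ (k + 2))) = half k := rfl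
    rw [hq]
    congr 1
    · ring
    · linear_combination hh
  · rw [D.conj_ez_e, D.e_inv, neg_neg]
  · exact fun h => D.ez_notMem _ _ (zpowers_le.2 (D.e_mem_base _ _) h)
  · rw [D.card_quatSub]; ring

theorem normal_quatSub (D : Data k x y z) : D.quatSub.Normal := by
  refine ⟨fun a ha g => ?_⟩
  have hh := half_add_half k
  rcases D.cases g with ⟨p, q, rfl⟩ | ⟨p, q, rfl⟩ <;> rcases ha with ⟨i, rfl | rfl⟩
  · exact ⟨i, Or.inl (by rw [(D.e_comm p q i (-i)).eq, mul_inv_cancel_right])⟩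
  · exact ⟨p + i - q, Or.inr (by rw [D.conj_e_ez]; congr 2; ring)⟩
  · exact ⟨-i, Or.inl (by rw [D.conj_ez_e, neg_neg])⟩
  · refine ⟨half k - i + p - q, Or.inr ?_⟩
    rw [mul_inv_eq_iff_eq_mul, D.mul_ezez, D.mul_ezez]
    congr 1 <;> ring

theorem eq_quatSub (D : Data k x y z) {Y : Subgroup S} (hcard : Nat.card Y = 2 ^ (k + 3))
    (eY : Y ≃* QuaternionGroup (2 ^ (k + 1))) : Y = D.quatSub := by
  have := D.finite
  have hab : ¬ IsMulCommutative Y := by
    intro h
    have h1 : Commute (eY.symm (QuaternionGroup.a 1)) (eY.symm (QuaternionGroup.xa 0)) :=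
      mul_comm' _ _
    have h2 := h1.map eY.toMonoidHom
    simp only [MulEquiv.coe_toMonoidHom, MulEquiv.apply_symm_apply] at h2
    have h3 := h2.eq
    rw [QuaternionGroup.a_mul_xa, QuaternionGroup.xa_mul_a, QuaternionGroup.xa.injEq] at h3
    have h4 : ((2 : ℕ) : ZMod (2 * 2 ^ (k + 1))) = 0 := by
      rw [Nat.cast_two]; linear_combination -h3
    rw [ZMod.natCast_eq_zero_iff] at h4
    have := Nat.le_of_dvd two_pos h4
    have : 2 ≤ 2 ^ (k + 1) := Nat.le_self_pow (by omega) 2
    omega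
  have hout : ∃ g ∈ Y, g ∉ D.base := by
    by_contra hno
    simp only [not_exists, not_and, not_not] at hno
    exact hab ⟨⟨fun a b => Subtype.ext (by
      obtain ⟨i, j, ha⟩ := hno a a.2
      obtain ⟨i', j', hb⟩ := hno b b.2
      show (a : S) * b = b * a
      rw [ha, hb]; exact (D.e_comm i j i' j').eq)⟩⟩
  obtain ⟨g₀, hg₀, hg₀U⟩ := hout
  -- the central involution of `Y`
  have hcenter : ∀ c : Y, c ∈ center Y → (c : S) * c = 1 := by
    intro c hc
    have hc' : eY c ∈ center (QuaternionGroup (2 ^ (k + 1))) := by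
      rw [mem_center_iff] at hc ⊢
      intro q
      obtain ⟨q, rfl⟩ := eY.surjective q
      rw [← map_mul, ← map_mul, hc]
    have h1 : eY c * eY c = 1 := by
      rw [mem_center_iff] at hc'
      generalize eY c = w at hc'
      cases w with
      | a i =>
        have := hc' (QuaternionGroup.xa 0)
        rw [QuaternionGroup.xa_mul_a, QuaternionGroup.a_mul_xa, QuaternionGroup.xa.injEq] at this
        rw [QuaternionGroup.a_mul_a, QuaternionGroup.one_def]
        congr 1
        linear_combination this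
      | xa i =>
        exfalso
        have := hc' (QuaternionGroup.a 1)
        rw [QuaternionGroup.a_mul_xa, QuaternionGroup.xa_mul_a, QuaternionGroup.xa.injEq] at this
        have h4 : ((2 : ℕ) : ZMod (2 * 2 ^ (k + 1))) = 0 := by
          rw [Nat.cast_two]; linear_combination -this
        rw [ZMod.natCast_eq_zero_iff] at h4
        have := Nat.le_of_dvd two_pos h4
        have : 2 ≤ 2 ^ (k + 1) := Nat.le_self_pow (by omega) 2
        omega
    rw [← map_mul, MulEquiv.map_eq_one_iff] at h1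
    exact congrArg Subtype.val h1
  -- `Y` has an involution in `base`
  obtain ⟨t, ht, htU, ht2⟩ : ∃ t ∈ Y, t ∈ D.base ∧ orderOf t = 2 := by
    have : Fact (Nat.Prime 2) := ⟨Nat.prime_two⟩
    refine ⟨_, (eY.symm (QuaternionGroup.a ((2 ^ (k + 1) : ℕ) : ZMod (2 * 2 ^ (k + 1))))).2, ?_, ?_⟩
    · have hs : (QuaternionGroup.a ((2 ^ (k + 1) : ℕ) : ZMod (2 * 2 ^ (k + 1))) :
          QuaternionGroup (2 ^ (k + 1))) = QuaternionGroup.xa 0 ^ 2 := (QuaternionGroup.xa_sq 0).symm
      rw [hs, map_pow, SubmonoidClass.coe_pow]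
      exact Subgroup.sq_mem_of_index_two D.index_base _
    · rw [Subgroup.orderOf_coe, MulEquiv.orderOf_eq, ← QuaternionGroup.a_one_pow,
        orderOf_pow_of_dvd (by positivity) (by rw [QuaternionGroup.orderOf_a_one]; exact ⟨2, by ring⟩),
        QuaternionGroup.orderOf_a_one, Nat.mul_div_cancel _ (by positivity)]
  have houter : ∀ i j, e i j * z ∈ Y → i + j = half k := by
    intro i j hij
    have hsq : e (i + j) (i + j) ∈ Y := D.sq_ez i j ▸ mul_mem hij hij
    have hc := hcenter ⟨_, hsq⟩ (mem_center_iff.2 fun q => Subtype.ext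
      (mem_center_iff.1 (D.diag_mem_center (i + j)) q))
    change e (i + j) (i + j) * e (i + j) (i + j) = 1 at hc
    rw [D.mul_ee, D.e_eq_one_iff] at hc
    rcases add_self_eq_zero hc.1 with h | h
    · exfalso
      have hinv : orderOf (e i j * z) = 2 := orderOf_eq_prime
        (by rw [pow_two, D.sq_ez, h, D.e_zero]) (fun h1 => D.ez_notMem i j (h1 ▸ one_mem _))
      have := invol_unique eY (s := ⟨_, hij⟩) (t := ⟨_, ht⟩)
        ((Subgroup.orderOf_coe _).symm.trans hinv) ((Subgroup.orderOf_coe _).symm.trans ht2)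
      have he : e i j * z = t := congrArg Subtype.val this
      exact D.ez_notMem i j (by rw [he]; exact htU)
    · exact h
  obtain ⟨i₀, j₀, rfl⟩ : ∃ i j, g₀ = e i j * z :=
    (D.cases g₀).resolve_left (fun ⟨i, j, h⟩ => hg₀U (h ▸ D.e_mem_base i j))
  refine Subgroup.eq_of_le_of_card_ge (fun g hg => ?_) (by rw [hcard, D.card_quatSub])
  rcases D.cases g with ⟨a, b, rfl⟩ | ⟨a, b, rfl⟩
  · have h1 := houter _ _ (D.mul_eez a b i₀ j₀ ▸ mul_mem hg hg₀)
    have h2 := houter _ _ hg₀
    exact ⟨a, Or.inl (by congr 1; linear_combination h1 - h2)⟩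
  · exact ⟨a, Or.inr (by congr 2; linear_combination houter _ _ hg)⟩

/-- In a nonabelian subgroup the centre lies in the centre of the whole group. -/
theorem center_le (D : Data k x y z) {X : Subgroup S} (hX : ¬ IsMulCommutative X) {c : S}
    (hc : c ∈ X) (hcc : ∀ g ∈ X, Commute c g) : c ∈ center S := by
  obtain ⟨g, hg, hgU⟩ : ∃ g ∈ X, g ∉ D.base := by
    by_contra hno
    simp only [not_exists, not_and, not_not] at hno
    exact hX ⟨⟨fun a b => Subtype.ext (by
      obtain ⟨i, j, ha⟩ := hno a a.2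
      obtain ⟨i', j', hb⟩ := hno b b.2
      show (a : S) * b = b * a
      rw [ha, hb]; exact (D.e_comm i j i' j').eq)⟩⟩
  obtain ⟨i, j, rfl⟩ : ∃ i j, g = e i j * z :=
    (D.cases g).resolve_left (fun ⟨i, j, h⟩ => hgU (h ▸ D.e_mem_base i j))
  rcases D.cases c with ⟨a, b, rfl⟩ | ⟨a, b, rfl⟩
  · rw [D.commute_e_ez.1 (hcc _ hg)]
    exact D.diag_mem_center b
  · exfalso
    have hdiag : ∀ p q, e p q ∈ X → p = q := fun p q h => D.commute_e_ez.1 (hcc _ h).symm
    apply hX
    have key : ∀ h ∈ X, ∃ m, h = e m m ∨ h = e m m * (e a b * z) := by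
      intro h hh
      rcases D.cases h with ⟨p, q, rfl⟩ | ⟨p, q, rfl⟩
      · obtain rfl := hdiag p q hh
        exact ⟨p, Or.inl rfl⟩
      · have hm : e (p - a) (q - b) ∈ X := by
          have := mul_mem hh (inv_mem hc)
          rwa [mul_inv_rev, mul_assoc, mul_inv_cancel_left, D.e_inv, D.mul_ee,
            ← sub_eq_add_neg, ← sub_eq_add_neg] at this
        have h1 := hdiag _ _ hm
        refine ⟨p - a, Or.inr ?_⟩
        rw [D.mul_eez]
        congr 2
        · ring
        · linear_combination -h1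
    refine ⟨⟨fun u v => Subtype.ext ?_⟩⟩
    show Commute (u : S) (v : S)
    have hd : ∀ m (w : S), Commute (e m m) w := fun m w =>
      (mem_center_iff.1 (D.diag_mem_center m) w).symm
    obtain ⟨m, hu⟩ := key u u.2
    obtain ⟨m', hv⟩ := key v v.2
    rcases hu with hu | hu <;> rcases hv with hv | hv <;> rw [hu, hv]
    · exact hd m _
    · exact hd m _
    · exact (hd m' _).symm
    · exact (hd m _).mul_left ((hd m' _).symm.mul_right (Commute.refl _))

end Data

end Cfsg.Agent.Lib.TwoGroups.Wreathed
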