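import Mathlib
import Cfsg.Agent.Lib.TwoGroups.Recognition
import Cfsg.Agent.Lib.TwoGroups.Wreathed
import Cfsg.Agent.Lib.TwoGroups.OddAut

/-!
Self-centralising subgroups of a wreathed 2-group with automorphism group not a 2-group:
the abelian maximal subgroup and the central products `Q₈ * Z`.
-/

set_option autoImplicit false

namespace Cfsg.Agent.Lib.TwoGroups.WreathedAut

open Subgroup Cfsg.Agent.Lib.TwoGroups.Recognition Cfsg.Agent.Lib.TwoGroups.Wreathed
  Cfsg.Agent.Lib.TwoGroups.OddAut

variable {S : Type*} [Group S] {k : ℕ} {x y z : S}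

local notation "e" => el k x y

theorem two_pow_succ_mul_quarter (k : ℕ) : ((2 ^ k : ℕ) : ZMod (2 ^ (k + 2))) * 2 = half k := by
  rw [half, show (2 ^ (k + 1) : ℕ) = 2 ^ k * 2 from pow_succ 2 k]
  push_cast
  ring

theorem exists_double {k : ℕ} (i : ZMod (2 ^ (k + 2))) :
    (∃ c, i = c + c) ∨ (∃ c, i = c + c + 1) := by
  rcases Nat.even_or_odd i.val with ⟨c, hc⟩ | ⟨c, hc⟩
  · exact Or.inl ⟨(c : ZMod _), by rw [← ZMod.natCast_zmod_val i, hc, Nat.cast_add]⟩
  · refine Or.inr ⟨(c : ZMod _), ?_⟩
    rw [← ZMod.natCast_zmod_val i, hc]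
    push_cast
    ring

theorem half_mul_odd (k : ℕ) (c : ZMod (2 ^ (k + 2))) : half k * (c + c + 1) = half k := by
  linear_combination c * half_add_half k

/-- The central product of a quaternion subgroup of order eight with the centre. -/
def qzSub (D : Data k x y z) (i : ZMod (2 ^ (k + 2))) : Subgroup S where
  carrier := {g | ∃ c t, t + t = 0 ∧ (g = e (c + t) c ∨ g = e (i + c + t) (half k - i + c) * z)}
  one_mem' := ⟨0, 0, add_zero 0, Or.inl (by rw [add_zero, D.e_zero])⟩
  mul_mem' := by
    have hh := half_add_half k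
    rintro a b ⟨c, t, ht, rfl | rfl⟩ ⟨c', t', ht', rfl | rfl⟩
    · exact ⟨c + c', t + t', by linear_combination ht + ht',
        Or.inl (by rw [D.mul_ee]; congr 1; ring)⟩
    · refine ⟨c + c', t + t', by linear_combination ht + ht', Or.inr ?_⟩
      rw [D.mul_eez]; congr 2 <;> ring
    · refine ⟨c + c' + t', t + t', by linear_combination ht + ht', Or.inr ?_⟩
      rw [D.mul_eze]; congr 2
      · linear_combination -ht'
      · ring
    · refine ⟨half k + c + c' + t', t + t', by linear_combination ht + ht', Or.inl ?_⟩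
      rw [D.mul_ezez]; congr 1
      · linear_combination -ht'
      · ring
  inv_mem' := by
    have hh := half_add_half k
    rintro a ⟨c, t, ht, rfl | rfl⟩
    · exact ⟨-c, -t, by linear_combination -ht, Or.inl (by rw [D.e_inv, neg_add])⟩
    · refine ⟨-c + half k + t, t, ht, Or.inr (inv_eq_of_mul_eq_one_right ?_)⟩
      rw [D.mul_ezez, D.e_eq_one_iff]
      exact ⟨by linear_combination hh + ht, by linear_combination hh + ht⟩

theorem qz_not_comm (D : Data k x y z) (i : ZMod (2 ^ (k + 2))) :
    ¬ IsMulCommutative (qzSub D i) := by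
  intro h
  have h1 : e (0 + half k) 0 ∈ qzSub D i := ⟨0, half k, half_add_half k, Or.inl rfl⟩
  have h2 : e (i + 0 + 0) (half k - i + 0) * z ∈ qzSub D i := ⟨0, 0, add_zero 0, Or.inr rfl⟩
  have := D.commute_e_ez.1 (congrArg Subtype.val (mul_comm' (⟨_, h1⟩ : qzSub D i) ⟨_, h2⟩))
  rw [zero_add] at this
  exact half_ne_zero k this

theorem qz_map_le (D : Data k x y z) (i i' : ZMod (2 ^ (k + 2))) :
    (qzSub D i).map (MulAut.conj (e (i' - i) 0)).toMonoidHom ≤ qzSub D i' := by
  rintro _ ⟨g, ⟨c, t, ht, rfl | rfl⟩, rfl⟩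
  · refine ⟨c, t, ht, Or.inl ?_⟩
    show e (i' - i) 0 * e (c + t) c * (e (i' - i) 0)⁻¹ = e (c + t) c
    rw [(D.e_comm _ _ (c + t) c).eq, mul_inv_cancel_right]
  · refine ⟨c, t, ht, Or.inr ?_⟩
    show e (i' - i) 0 * (e (i + c + t) (half k - i + c) * z) * (e (i' - i) 0)⁻¹ = _
    rw [D.conj_e_ez]
    congr 2 <;> ring

theorem qz_conj (D : Data k x y z) (i i' : ZMod (2 ^ (k + 2))) :
    (qzSub D i).map (MulAut.conj (e (i' - i) 0)).toMonoidHom = qzSub D i' := by
  refine le_antisymm (qz_map_le D i i') fun g hg => ?_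
  have h := qz_map_le D i' i ⟨g, hg, rfl⟩
  refine ⟨_, h, ?_⟩
  show e (i' - i) 0 * (e (i - i') 0 * g * (e (i - i') 0)⁻¹) * (e (i' - i) 0)⁻¹ = g
  have : e (i' - i) 0 * e (i - i') 0 = 1 := by
    rw [D.mul_ee, add_zero, show i' - i + (i - i') = 0 by ring, D.e_zero]
  rw [← mul_assoc, ← mul_assoc, this, one_mul, mul_assoc, ← mul_inv_rev, this, inv_one, mul_one]

/-- `qzSub` is the product of a quaternion group of order eight and the centre. -/
theorem exists_quaternion (D : Data k x y z) (i : ZMod (2 ^ (k + 2))) :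
    ∃ Q : Subgroup S, Nonempty (Q ≃* QuaternionGroup 2) ∧ qzSub D i = Q ⊔ center S := by
  have hh := half_add_half k
  have hq := quarter_add_quarter k
  have hne := half_ne_zero k
  set a := e (quarter k) (-quarter k) with ha_def
  set b := e i (half k - i) * z with hb_def
  have hb : b * b = a ^ 2 := by
    rw [hb_def, ha_def, D.sq_ez, pow_two, D.mul_ee]
    congr 1
    · linear_combination -hq
    · linear_combination hh + hq
  have hab : b * a * b⁻¹ = a⁻¹ := by rw [hb_def, ha_def, D.conj_ez_e, D.e_inv, neg_neg]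
  have hord : orderOf a = 2 * 2 := by
    have : Fact (Nat.Prime 2) := ⟨Nat.prime_two⟩
    refine orderOf_eq_prime_pow (p := 2) (n := 1) ?_ ?_
    · rw [pow_one, ha_def, pow_two, D.mul_ee, D.e_eq_one_iff, hq]
      exact fun h => hne h.1
    · rw [show 2 ^ (1 + 1) = 2 * 2 by norm_num, pow_mul, ha_def, pow_two (e _ _), D.mul_ee,
        pow_two, D.mul_ee, hq, hh, D.e_eq_one_iff]
      exact ⟨rfl, by linear_combination -hq - hq - hh⟩
  have hmem : b ∉ zpowers a := fun h =>
    D.ez_notMem _ _ (zpowers_le.2 (D.e_mem_base _ _) h)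
  have hinj := quaternionHom_injective (m := 2) hord hb hab hmem
  set f := quaternionHom (m := 2) (pow_eq_one_of_orderOf hord) hb hab
  refine ⟨f.range, ⟨(MonoidHom.ofInjective hinj).symm⟩, ?_⟩
  have haR : a ∈ f.range := ⟨QuaternionGroup.a 1, powZ_one (pow_eq_one_of_orderOf hord)⟩
  have hbR : b ∈ f.range := ⟨QuaternionGroup.xa 0, by
    show b * powZ _ a 0 = b
    rw [powZ_zero, mul_one]⟩
  apply le_antisymm
  · have key : ∀ c t, t + t = 0 → e (c + t) c ∈ f.range ⊔ center S := by
      intro c t ht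
      rcases add_self_eq_zero ht with rfl | rfl
      · rw [add_zero]; exact mem_sup_right (D.diag_mem_center c)
      · have := mul_mem (mem_sup_left haR : a ∈ f.range ⊔ center S)
          (mem_sup_right (D.diag_mem_center (c + quarter k)) :
            e (c + quarter k) (c + quarter k) ∈ f.range ⊔ center S)
        rw [ha_def, D.mul_ee] at this
        convert this using 2
        · linear_combination -hq
        · ring
    rintro g ⟨c, t, ht, rfl | rfl⟩
    · exact key c t ht
    · have := mul_mem (key c t ht) (mem_sup_left hbR : b ∈ f.range ⊔ center S)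
      rw [hb_def, D.mul_eez] at this
      convert this using 3 <;> ring
  · refine sup_le ?_ fun g hg => ?_
    · have ha' : a ∈ qzSub D i :=
        ⟨-quarter k, half k, hh, Or.inl (by rw [ha_def]; congr 1; linear_combination hq)⟩
      have hb' : b ∈ qzSub D i := ⟨0, 0, add_zero 0, Or.inr (by rw [hb_def]; simp)⟩
      rintro _ ⟨q, rfl⟩
      cases q with
      | a j => exact pow_mem ha' _
      | xa j => exact mul_mem hb' (pow_mem ha' _)
    · obtain ⟨c, rfl⟩ := D.mem_center_iff_diag.1 hg
      exact ⟨c, 0, add_zero 0, Or.inl (by rw [add_zero])⟩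

theorem relIndex_normalizer_qz (D : Data k x y z) (i : ZMod (2 ^ (k + 2))) :
    (qzSub D i).relIndex (normalizer (qzSub D i : Set S)) = 2 := by
  have := D.finite
  have hh := half_add_half k
  have hq := quarter_add_quarter k
  have hne := half_ne_zero k
  have hg₀ : e i (half k - i) * z ∈ qzSub D i := ⟨0, 0, add_zero 0, Or.inr (by simp)⟩
  have hcoset : ∀ a b, e a b ∈ normalizer (qzSub D i : Set S) ↔
      (∃ u, a - b = u ∧ 4 * u = 0) := by
    intro a b
    constructor
    · intro hab
      obtain ⟨c, t, ht, h | h⟩ := (mem_normalizer_iff.1 hab _).1 hg₀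
      · rw [D.conj_e_ez] at h
        exact absurd h (D.ez_ne_e _ _ _ _)
      · rw [D.conj_e_ez] at h
        obtain ⟨h1, h2⟩ := D.ez_inj h
        exact ⟨_, rfl, by linear_combination 2 * h1 - 2 * h2 + ht⟩
    · rintro ⟨u, hu, h4⟩
      have ht : (2 * (a - b)) + (2 * (a - b)) = 0 := by rw [hu]; linear_combination h4
      have hmem : e a b * (e i (half k - i) * z) * (e a b)⁻¹ ∈ qzSub D i := by
        rw [D.conj_e_ez]
        exact ⟨b - a, 2 * (a - b), ht, Or.inr (by congr 2 <;> ring)⟩
      have hmap : (qzSub D i).map (MulAut.conj (e a b)).toMonoidHom ≤ qzSub D i := by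
        rintro _ ⟨g, ⟨c, t, ht', hg⟩, rfl⟩
        show e a b * g * (e a b)⁻¹ ∈ qzSub D i
        rcases hg with rfl | rfl
        · rw [(D.e_comm a b _ _).eq, mul_inv_cancel_right]
          exact ⟨c, t, ht', Or.inl rfl⟩
        · rw [D.conj_e_ez]
          refine ⟨b - a + c, 2 * (a - b) + t, by linear_combination ht + ht', Or.inr ?_⟩
          congr 2 <;> ring
      have heq : (qzSub D i).map (MulAut.conj (e a b)).toMonoidHom = qzSub D i :=
        Subgroup.eq_of_le_of_card_ge hmap
          (Subgroup.card_map_of_injective (MulAut.conj (e a b)).injective).ge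
      rw [mem_normalizer_iff]
      intro g
      constructor
      · exact fun hg => hmap ⟨g, hg, rfl⟩
      · intro hg
        obtain ⟨g', hg', he⟩ := heq.ge hg
        rwa [← (MulAut.conj (e a b)).injective he]
  have hw : e (quarter k) 0 ∈ normalizer (qzSub D i : Set S) :=
    (hcoset _ _).2 ⟨_, rfl, by linear_combination 2 * hq + hh⟩
  have hwX : e (quarter k) 0 ∉ qzSub D i := by
    rintro ⟨c, t, ht, h | h⟩
    · obtain ⟨h1, h2⟩ := D.e_inj h
      exact hne (by linear_combination ht + 2 * h1 - hq - 2 * h2)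
    · exact absurd h.symm (D.ez_ne_e _ _ _ _)
  show ((qzSub D i).subgroupOf (normalizer (qzSub D i : Set S))).index = 2
  rw [Subgroup.index_eq_two_iff]
  refine ⟨⟨_, hw⟩, fun m => ?_⟩
  simp only [mem_subgroupOf, Subgroup.coe_mul]
  suffices h : (m : S) ∈ qzSub D i ∨ (m : S) * e (quarter k) 0 ∈ qzSub D i by
    by_cases hm : (m : S) ∈ qzSub D i
    · exact Or.inr ⟨hm, fun h' => hwX (((qzSub D i).mul_mem_cancel_left hm).1 h')⟩
    · exact Or.inl ⟨h.resolve_left hm, hm⟩
  obtain ⟨a, b, hm⟩ : ∃ a b, (m : S) = e a b ∨ (m : S) = e a b * (e i (half k - i) * z) := by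
    rcases D.cases (m : S) with ⟨a, b, h⟩ | ⟨a, b, h⟩
    · exact ⟨a, b, Or.inl h⟩
    · refine ⟨a - i, b - (half k - i), Or.inr ?_⟩
      rw [h, D.mul_eez, sub_add_cancel, sub_add_cancel]
  have hab : e a b ∈ normalizer (qzSub D i : Set S) := by
    rcases hm with h | h
    · exact h ▸ m.2
    · have h' := mul_mem m.2 (inv_mem (le_normalizer hg₀))
      rwa [h, mul_inv_cancel_right] at h'
  obtain ⟨u, hu, h4⟩ := (hcoset a b).1 hab
  have hcases : e a b ∈ qzSub D i ∨ e a b * e (quarter k) 0 ∈ qzSub D i := by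
    rcases add_self_eq_zero (k := k) (i := u + u) (by linear_combination h4) with h | h
    · exact Or.inl ⟨b, a - b, by rw [hu, h], Or.inl (by rw [add_sub_cancel])⟩
    · right
      rw [D.mul_ee, add_zero]
      exact ⟨b, a + quarter k - b, by linear_combination h + hh + 2 * hu + hq,
        Or.inl (by rw [add_sub_cancel])⟩
  rcases hm with h | h
  · rw [h]; exact hcases
  · rw [h]
    refine hcases.imp (fun h' => mul_mem h' hg₀) fun h' => ?_
    have hwn : (e (quarter k) 0)⁻¹ * (e i (half k - i) * z) * e (quarter k) 0 ∈ qzSub D i :=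
      (mem_normalizer_iff''.1 hw _).1 hg₀
    have h2 := mul_mem h' hwn
    rwa [show e a b * e (quarter k) 0 * ((e (quarter k) 0)⁻¹ * (e i (half k - i) * z) *
      e (quarter k) 0) = e a b * (e i (half k - i) * z) * e (quarter k) 0 by group] at h2

theorem relIndex_normalizer_base (D : Data k x y z) :
    D.base.relIndex (normalizer (D.base : Set S)) = 2 := by
  have := D.normal_base
  rw [normalizer_eq_top, relIndex_top_right, D.index_base]

theorem center_le_of_centralizer_le {X : Subgroup S} (hC : centralizer (X : Set S) ≤ X) :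
    center S ≤ X := (center_le_centralizer (X : Set S)).trans hC

/-- The abelian case. -/
theorem isPGroup_aut_abelian (D : Data k x y z) {X : Subgroup S}
    (hC : centralizer (X : Set S) ≤ X) (hab : IsMulCommutative X) (hne : X ≠ D.base) :
    IsPGroup 2 (MulAut X) := by
  have := D.finite
  have hh := half_add_half k
  have hZ := center_le_of_centralizer_le hC
  have hcomm : ∀ g ∈ X, ∀ h ∈ X, Commute g h := fun g hg h hh =>
    congrArg Subtype.val (mul_comm' (⟨g, hg⟩ : X) ⟨h, hh⟩)
  obtain ⟨g, hg, hgU⟩ : ∃ g ∈ X, g ∉ D.base := by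
    by_contra hno
    simp only [not_exists, not_and, not_not] at hno
    refine hne (le_antisymm (fun g hg => hno g hg) fun g hg => hC (mem_centralizer_iff.2 ?_))
    intro h hh
    exact congrArg Subtype.val
      (D.isMulCommutative_base.is_comm.comm (⟨h, hno h hh⟩ : D.base) ⟨g, hg⟩)
  obtain ⟨i, j, rfl⟩ : ∃ i j, g = e i j * z :=
    (D.cases g).resolve_left (fun ⟨i, j, h⟩ => hgU (h ▸ D.e_mem_base i j))
  have hform : ∀ w ∈ X, ∃ c, w = e c c ∨ w = e c c * (e i j * z) := by
    intro w hw
    rcases D.cases w with ⟨a, b, rfl⟩ | ⟨a, b, rfl⟩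
    · obtain rfl := D.commute_e_ez.1 (hcomm _ hw _ hg)
      exact ⟨a, Or.inl rfl⟩
    · have hm : e (a - i) (b - j) ∈ X := by
        have := mul_mem hw (inv_mem hg)
        rwa [mul_inv_rev, mul_assoc, mul_inv_cancel_left, D.e_inv, D.mul_ee,
          ← sub_eq_add_neg, ← sub_eq_add_neg] at this
      have h1 := D.commute_e_ez.1 (hcomm _ hm _ hg)
      refine ⟨a - i, Or.inr ?_⟩
      rw [D.mul_eez]
      congr 2
      · ring
      · linear_combination -h1
  refine isPGroup_mulAut fun φ hφ => ?_
  -- squares of the centre are fixed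
  have hz1 : e 1 1 ∈ X := hZ (D.diag_mem_center 1)
  set ζ : X := ⟨e 1 1, hz1⟩ with hζ
  have hζord : orderOf ζ = 2 ^ (k + 2) := by
    rw [← Subgroup.orderOf_coe]; exact D.orderOf_of_one 1
  rcases exists_double (i + j) with ⟨t, ht⟩ | ⟨t, ht⟩
  · -- split case: an outer involution
    set τ : X := ⟨e (i - t) (t - i) * z, by
      have := mul_mem (hZ (D.diag_mem_center (-t))) hg
      rw [D.mul_eez] at this
      convert this using 3
      · ring
      · linear_combination -ht⟩ with hτ
    have hτ2 : τ * τ = 1 := Subtype.ext (by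
      show e (i - t) (t - i) * z * (e (i - t) (t - i) * z) = 1
      rw [D.sq_ez, show i - t + (t - i) = 0 by ring, D.e_zero])
    have hζpow : ∀ c : ZMod (2 ^ (k + 2)), ((ζ ^ c.val : X) : S) = e c c := fun c => by
      simp [hζ, D.e_pow]
    have hgen : ∀ w : X, ∃ n : ℕ, w = ζ ^ n ∨ w = ζ ^ n * τ := by
      intro w
      obtain ⟨c, hc | hc⟩ := hform w w.2
      · exact ⟨c.val, Or.inl (Subtype.ext (by rw [hc, hζpow]))⟩
      · refine ⟨(c + t).val, Or.inr (Subtype.ext ?_)⟩
        rw [Subgroup.coe_mul, hζpow, hc, hτ, D.mul_eez, D.mul_eez]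
        congr 2
        · ring
        · linear_combination -ht + ht + ht
    have hcom : Commute ζ τ := Subtype.ext (hcomm _ ζ.2 _ τ.2).eq
    have hsq : φ (ζ ^ 2) = ζ ^ 2 := by
      have hord : orderOf (ζ ^ 2) = 2 ^ (k + 1) := by
        rw [orderOf_pow' _ two_ne_zero, hζord, Nat.gcd_eq_right (dvd_pow_self 2 (by omega)),
          pow_succ 2 (k + 1), Nat.mul_div_cancel _ two_pos]
      obtain ⟨n, hn | hn⟩ := hgen (φ ζ)
      · refine fix_of_power (r := n) ?_ hφ hord
        rw [map_pow, hn, ← pow_mul, ← pow_mul, mul_comm]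
      · refine fix_of_power (r := n) ?_ hφ hord
        rw [map_pow, hn, hcom.pow_left n |>.mul_pow, pow_two τ, hτ2, mul_one, ← pow_mul,
          ← pow_mul, mul_comm]
    set ν : X := ζ ^ 2 ^ (k + 1) with hν
    have hνfix : φ ν = ν := by
      rw [hν, show 2 ^ (k + 1) = 2 * 2 ^ k by ring, pow_mul, map_pow, hsq]
    have hν2 : ν * ν = 1 := by
      rw [hν, ← pow_add, ← two_mul, show 2 * 2 ^ (k + 1) = 2 ^ (k + 2) by ring, ← hζord,
        pow_orderOf_eq_one]
    have hν1 : ν ≠ 1 := by
      intro h
      have := orderOf_dvd_of_pow_eq_one (hν ▸ h : ζ ^ 2 ^ (k + 1) = 1)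
      rw [hζord] at this
      have := Nat.le_of_dvd (by positivity) this
      rw [pow_succ 2 (k + 1)] at this
      have : 0 < 2 ^ (k + 1) := by positivity
      omega
    -- elements of square one
    have hsq1 : ∀ w : X, w * w = 1 → w = 1 ∨ w = ν ∨ w = τ ∨ w = ν * τ := by
      intro w hw
      obtain ⟨n, hn⟩ := hgen w
      have hn2 : ζ ^ (n + n) = 1 := by
        rcases hn with rfl | rfl
        · rwa [pow_add]
        · rw [pow_add]
          rwa [(hcom.pow_left n).symm.mul_mul_mul_comm, hτ2, mul_one] at hw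
      rw [← orderOf_dvd_iff_pow_eq_one, hζord, pow_succ 2 (k + 1)] at hn2
      obtain ⟨q, hq⟩ := hn2
      have hn' : n = 2 ^ (k + 1) * q := by rw [mul_right_comm] at hq; omega
      have hνq : ζ ^ n = 1 ∨ ζ ^ n = ν := by
        rw [hn', pow_mul, ← hν]
        rcases Nat.even_or_odd q with ⟨p, rfl⟩ | ⟨p, rfl⟩
        · left; rw [pow_add, ← (Commute.refl ν).mul_pow, hν2, one_pow]
        · right; rw [pow_succ, pow_mul, pow_two, hν2, one_pow, one_mul]
      rcases hn with rfl | rfl <;> rcases hνq with h | h <;> rw [h] <;> simp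
    -- the outer involution is fixed
    have hτfix : φ τ = τ := by
      have h1 : φ τ * φ τ = 1 := by rw [← map_mul, hτ2, map_one]
      rcases hsq1 _ h1 with h | h | h | h
      · rw [map_eq_one_iff _ φ.injective] at h
        exfalso
        exact D.ez_notMem _ _ (show (τ : S) ∈ D.base by rw [h]; exact one_mem _)
      · rw [← hνfix] at h
        have := φ.injective h
        exfalso
        refine D.ez_notMem (i - t) (t - i) ?_
        show (τ : S) ∈ D.base
        rw [this, hν, Subgroup.coe_pow]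
        exact pow_mem (D.e_mem_base 1 1) _
      · exact h
      · exact fix_of_translate (n := 1) hφ (f := ν)
          (by rw [h]; exact Subtype.ext (hcomm _ ν.2 _ τ.2).eq) hνfix
          (by rw [pow_one, pow_two, hν2])
    have hζfix : φ ζ = ζ := by
      set f := ζ⁻¹ * φ ζ with hf
      have hf2 : f * f = 1 := by
        have hc0 : Commute ζ (φ ζ) := Subtype.ext (hcomm _ ζ.2 _ (φ ζ).2).eq
        have hcf : Commute ζ⁻¹ (φ ζ) := hc0.inv_left
        rw [hf, hcf.symm.mul_mul_mul_comm, ← pow_two, ← pow_two, ← map_pow, hsq, inv_pow,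
          inv_mul_cancel]
      have hffix : φ f = f := by
        rcases hsq1 f hf2 with h | h | h | h <;> rw [h]
        · exact map_one φ
        · exact hνfix
        · exact hτfix
        · rw [map_mul, hνfix, hτfix]
      exact fix_of_translate (n := 1) hφ (by rw [hf, mul_inv_cancel_left]) hffix
        (by rw [pow_one, pow_two, hf2])
    ext w
    obtain ⟨n, rfl | rfl⟩ := hgen w <;> simp [map_pow, hζfix, hτfix]
  · -- cyclic case
    set γ : X := ⟨e i j * z, hg⟩ with hγ
    have hγ2 : ∀ n : ℕ, ((γ ^ (2 * n) : X) : S) = e ((n : ZMod (2 ^ (k + 2))) * (i + j))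
        ((n : ZMod (2 ^ (k + 2))) * (i + j)) := fun n => by
      rw [pow_mul, SubmonoidClass.coe_pow, SubmonoidClass.coe_pow, pow_two]
      show (e i j * z * (e i j * z)) ^ n = _
      rw [D.sq_ez, D.e_pow]
    have hunit : IsUnit (i + j) := by
      rw [← ZMod.natCast_zmod_val (i + j), ZMod.isUnit_iff_coprime]
      refine (Nat.coprime_two_right.2 ?_).pow_right _
      rw [← Nat.not_even_iff_odd]
      rintro ⟨q, hq⟩
      have h1 : i + j = (q : ZMod (2 ^ (k + 2))) + q := by
        rw [← ZMod.natCast_zmod_val (i + j), hq, Nat.cast_add]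
      have := half_mul_odd k t
      rw [← ht, h1] at this
      exact half_ne_zero k (by linear_combination (q : ZMod (2 ^ (k + 2))) * hh - this)
    obtain ⟨u, hu⟩ := hunit
    have hgen : ∀ w : X, ∃ n : ℕ, w = γ ^ n := by
      intro w
      obtain ⟨c, hc⟩ := hform w w.2
      set n := (c * ↑u⁻¹ : ZMod (2 ^ (k + 2))).val with hn
      have hcn : (n : ZMod (2 ^ (k + 2))) * (i + j) = c := by
        rw [hn, ZMod.natCast_zmod_val, ← hu, Units.inv_mul_cancel_right]
      rcases hc with hc | hc
      · exact ⟨2 * n, Subtype.ext (by rw [hγ2, hcn, hc])⟩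
      · refine ⟨2 * n + 1, Subtype.ext ?_⟩
        rw [pow_succ, Subgroup.coe_mul, hγ2, hcn, hc]
    have hord : orderOf γ = 2 ^ (k + 3) := by
      have : Fact (Nat.Prime 2) := ⟨Nat.prime_two⟩
      refine orderOf_eq_prime_pow (n := k + 2) ?_ ?_
      · intro h
        have h1 : ((γ ^ (2 * 2 ^ (k + 1)) : X) : S) = 1 := by
          rw [show 2 * 2 ^ (k + 1) = 2 ^ (k + 2) by ring, h]; rfl
        rw [hγ2, D.e_eq_one_iff] at h1
        have h2 : half k * (i + j) = 0 := h1.1
        rw [ht, half_mul_odd] at h2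
        exact half_ne_zero k h2
      · apply Subtype.ext
        rw [show 2 ^ (k + 2 + 1) = 2 * 2 ^ (k + 2) by ring, hγ2, ZMod.natCast_self, zero_mul,
          D.e_zero]
        rfl
    obtain ⟨n, hn⟩ := hgen (φ γ)
    have hfix : φ γ = γ := fix_of_power hn hφ hord
    ext w
    obtain ⟨n, rfl⟩ := hgen w
    rw [map_pow, hfix, MulAut.one_apply]

/-- The nonabelian case. -/
theorem aut_cases (D : Data k x y z) {X : Subgroup S}
    (hC : centralizer (X : Set S) ≤ X) (hab : ¬ IsMulCommutative X) :
    IsPGroup 2 (MulAut X) ∨ ∃ i, X = qzSub D i := by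
  have := D.finite
  have hh := half_add_half k
  have hZ := center_le_of_centralizer_le hC
  obtain ⟨g, hg, hgU⟩ : ∃ g ∈ X, g ∉ D.base := by
    by_contra hno
    simp only [not_exists, not_and, not_not] at hno
    refine hab ⟨⟨fun a b => ?_⟩⟩
    have h := congrArg Subtype.val
      (D.isMulCommutative_base.is_comm.comm (⟨a, hno a a.2⟩ : D.base) ⟨b, hno b b.2⟩)
    exact Subtype.ext h
  obtain ⟨i, j, rfl⟩ : ∃ i j, g = e i j * z :=
    (D.cases g).resolve_left (fun ⟨i, j, h⟩ => hgU (h ▸ D.e_mem_base i j))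
  -- the exponents `d` with `e d 0 ∈ X`
  let A : AddSubgroup (ZMod (2 ^ (k + 2))) :=
    { carrier := {d | e d 0 ∈ X}
      zero_mem' := by show e 0 0 ∈ X; rw [D.e_zero]; exact one_mem _
      add_mem' := fun {a b} ha hb => by
        show e (a + b) 0 ∈ X
        have := mul_mem (show e a 0 ∈ X from ha) (show e b 0 ∈ X from hb)
        rwa [D.mul_ee, add_zero] at this
      neg_mem' := fun {a} ha => by
        show e (-a) 0 ∈ X
        have := inv_mem (show e a 0 ∈ X from ha)
        rwa [D.e_inv, neg_zero] at this }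
  have hA : ∀ a b, e a b ∈ X ↔ a - b ∈ A := by
    intro a b
    show _ ↔ e (a - b) 0 ∈ X
    rw [← Subgroup.mul_mem_cancel_right X (hZ (D.diag_mem_center (-b))), D.mul_ee,
      add_neg_cancel, sub_eq_add_neg]
  obtain ⟨d₀, hd₀⟩ : ∃ d₀, AddSubgroup.zmultiples d₀ = A := by
    have : IsAddCyclic A := isAddCyclic_of_injective A.subtype Subtype.coe_injective
    obtain ⟨g₀, hg₀⟩ := IsAddCyclic.exists_generator (α := A)
    refine ⟨g₀, le_antisymm (AddSubgroup.zmultiples_le.2 g₀.2) fun d hd => ?_⟩
    obtain ⟨n, hn⟩ := AddSubgroup.mem_zmultiples_iff.1 (hg₀ ⟨d, hd⟩)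
    exact AddSubgroup.mem_zmultiples_iff.2 ⟨n, congrArg Subtype.val hn⟩
  have hd₀X : e d₀ 0 ∈ X := by
    have : d₀ ∈ A := hd₀ ▸ AddSubgroup.mem_zmultiples d₀
    exact this
  have hout : ∀ w ∈ X, w ∉ D.base → ∃ a b, w = e a b * z ∧ a - i - (b - j) ∈ A := by
    intro w hw hwU
    obtain ⟨a, b, rfl⟩ : ∃ a b, w = e a b * z :=
      (D.cases w).resolve_left (fun ⟨a, b, h⟩ => hwU (h ▸ D.e_mem_base a b))
    refine ⟨a, b, rfl, (hA _ _).1 ?_⟩
    have := mul_mem hw (inv_mem hg)
    rwa [mul_inv_rev, mul_assoc, mul_inv_cancel_left, D.e_inv, D.mul_ee,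
      ← sub_eq_add_neg, ← sub_eq_add_neg] at this
  set Z : Subgroup X := (center S).subgroupOf X with hZdef
  have hZc : Z ≤ center X := fun c hc => mem_center_iff.2 fun w =>
    Subtype.ext (mem_center_iff.1 hc (w : S))
  have hcent : ∀ c : X, c ∈ center X → c ∈ Z := fun c hc =>
    D.center_le hab c.2 fun w hw => (congrArg Subtype.val (mem_center_iff.1 hc ⟨w, hw⟩)).symm
  have hZn : ∀ c ∈ Z, c ^ 2 ^ (k + 2) = 1 := by
    intro c hc
    obtain ⟨d, hd⟩ := D.mem_center_iff_diag.1 (mem_subgroupOf.1 hc)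
    apply Subtype.ext
    rw [SubmonoidClass.coe_pow, hd, D.e_pow, ZMod.natCast_self, zero_mul, D.e_zero]
    rfl
  set ζ : X := ⟨e 1 1, hZ (D.diag_mem_center 1)⟩ with hζ
  have hζgen : ∀ c ∈ Z, ∃ n : ℕ, c = ζ ^ n := by
    intro c hc
    obtain ⟨d, hd⟩ := D.mem_center_iff_diag.1 (mem_subgroupOf.1 hc)
    exact ⟨d.val, Subtype.ext (by simp [hd, hζ, D.e_pow])⟩
  have hZfix : ∀ φ : MulAut X, Odd (orderOf φ) → ∀ c ∈ Z, φ c = c := by
    intro φ hφ
    have hmem : φ ζ ∈ Z := by
      refine hcent _ (mem_center_iff.2 fun w => ?_)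
      obtain ⟨w, rfl⟩ := φ.surjective w
      rw [← map_mul, ← map_mul,
        mem_center_iff.1 (hZc (mem_subgroupOf.2 (D.diag_mem_center 1) : ζ ∈ Z)) w]
    obtain ⟨n, hn⟩ := hζgen _ hmem
    have hfix : φ ζ = ζ := fix_of_power hn hφ (n := k + 2)
      (by rw [← Subgroup.orderOf_coe]; exact D.orderOf_of_one 1)
    intro c hc
    obtain ⟨n, rfl⟩ := hζgen c hc
    rw [map_pow, hfix]
  -- once the part in the abelian maximal subgroup is fixed, so is everything
  have finish : ∀ φ : MulAut X, Odd (orderOf φ) →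
      (∀ v : X, (v : S) ∈ D.base → φ v = v) → φ = 1 := by
    intro φ hφ hK
    ext w
    rw [MulAut.one_apply]
    apply congrArg Subtype.val
    by_cases hw : (w : S) ∈ D.base
    · exact hK w hw
    · have hφw : (φ w : S) ∉ D.base := fun h => hw (φ.injective (hK _ h) ▸ h)
      obtain ⟨v, hv⟩ : ∃ v, v = w⁻¹ * φ w := ⟨_, rfl⟩
      have hvU : (v : S) ∈ D.base := by
        rw [hv, Subgroup.coe_mul, Subgroup.coe_inv,
          Subgroup.mul_mem_iff_of_index_two D.index_base, inv_mem_iff]
        exact iff_of_false hw hφw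
      refine fix_of_translate (f := v) (n := k + 2) hφ (by rw [hv, mul_inv_cancel_left])
        (hK v hvU) ?_
      obtain ⟨a, b, hab'⟩ := hvU
      apply Subtype.ext
      rw [SubmonoidClass.coe_pow, hab', D.e_pow, ZMod.natCast_self, zero_mul, zero_mul, D.e_zero]
      rfl
  set υ : X := ⟨e d₀ 0, hd₀X⟩ with hυ
  have hK : ∀ v : X, (v : S) ∈ D.base → ∃ n : ℕ, ∃ c ∈ Z, v = c * υ ^ n := by
    rintro v ⟨a, b, hv⟩
    have h1 : a - b ∈ A := (hA a b).1 (hv ▸ v.2)
    rw [← hd₀, ← mem_multiples_iff_mem_zmultiples] at h1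
    obtain ⟨n, hn⟩ := h1
    change n • d₀ = a - b at hn
    rw [nsmul_eq_mul] at hn
    refine ⟨n, ⟨e b b, hZ (D.diag_mem_center b)⟩,
      mem_subgroupOf.2 (D.diag_mem_center b), Subtype.ext ?_⟩
    simp only [hυ, hv, Subgroup.coe_mul, SubmonoidClass.coe_pow, D.e_pow, D.mul_ee, mul_zero,
      hn, add_sub_cancel, add_zero]
  by_cases hd2 : d₀ + d₀ = 0
  swap
  · -- a square outside the centre
    left
    refine isPGroup_mulAut fun φ hφ => finish φ hφ ?_
    have hfixυ : φ υ = υ := by
      have hυU : (φ υ : S) ∈ D.base := by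
        by_contra hn
        obtain ⟨a, b, hab', -⟩ := hout _ (φ υ).2 hn
        have hsq : φ (υ * υ) ∈ Z := by
          rw [map_mul, mem_subgroupOf, Subgroup.coe_mul, hab', D.sq_ez]
          exact D.diag_mem_center _
        have h' : υ * υ = φ (υ * υ) := φ.injective (hZfix φ hφ _ hsq).symm
        rw [← h', mem_subgroupOf, Subgroup.coe_mul] at hsq
        change e d₀ 0 * e d₀ 0 ∈ center S at hsq
        rw [D.mul_ee, D.mem_center_iff_diag] at hsq
        obtain ⟨c, hc⟩ := hsq
        obtain ⟨h1, h2⟩ := D.e_inj hc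
        exact hd2 (by rw [h1, ← h2, add_zero])
      obtain ⟨n, c, hc, hn⟩ := hK _ hυU
      obtain ⟨l, -, hl⟩ : ∃ l ≤ k + 2, addOrderOf d₀ = 2 ^ l :=
        (Nat.dvd_prime_pow Nat.prime_two).1
          (addOrderOf_dvd_of_nsmul_eq_zero (by rw [nsmul_eq_mul, ZMod.natCast_self, zero_mul]))
      refine fix_of_power_mod Z hZc (hZfix φ hφ) hc hn hφ (l := l) (fun m => ?_) hZn
      rw [mem_subgroupOf, SubmonoidClass.coe_pow, hυ, D.e_pow, D.mem_center_iff_diag, mul_zero,
        ← hl, addOrderOf_dvd_iff_nsmul_eq_zero, nsmul_eq_mul]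
      constructor
      · rintro ⟨c, hc⟩
        obtain ⟨h1, h2⟩ := D.e_inj hc
        rw [h1, ← h2]
      · intro h
        exact ⟨0, by rw [h]⟩
    intro v hv
    obtain ⟨n, c, hc, rfl⟩ := hK v hv
    rw [map_mul, map_pow, hfixυ, hZfix φ hφ c hc]
  · -- all squares are central
    have hA2 : ∀ d ∈ A, d + d = 0 := by
      intro d hd
      rw [← hd₀, ← mem_multiples_iff_mem_zmultiples] at hd
      obtain ⟨n, rfl⟩ := hd
      show n • d₀ + n • d₀ = 0
      rw [← nsmul_add, hd2, nsmul_zero]
    have hd₀h : d₀ = half k := by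
      rcases add_self_eq_zero hd2 with h | h
      · exfalso
        have hdiag : ∀ a b, e a b ∈ X → a = b := fun a b hm => by
          have h1 := (hA a b).1 hm
          rw [← hd₀, h, AddSubgroup.zmultiples_zero_eq_bot, AddSubgroup.mem_bot] at h1
          exact sub_eq_zero.1 h1
        have hgen : ∀ w : X, ∃ c, ((w : S) = e c c ∨ (w : S) = e c c * (e i j * z)) := by
          intro w
          rcases D.cases (w : S) with ⟨a, b, hw⟩ | ⟨a, b, hw⟩
          · obtain rfl := hdiag a b (hw ▸ w.2)
            exact ⟨a, Or.inl hw⟩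
          · obtain ⟨a', b', he, hmem⟩ := hout _ w.2 (hw ▸ D.ez_notMem a b)
            rw [← hd₀, h, AddSubgroup.zmultiples_zero_eq_bot, AddSubgroup.mem_bot] at hmem
            refine ⟨a' - i, Or.inr ?_⟩
            rw [he, D.mul_eez]
            congr 2
            · ring
            · linear_combination -hmem
        have hd : ∀ m (w : S), Commute (e m m) w := fun m w =>
          (mem_center_iff.1 (D.diag_mem_center m) w).symm
        refine hab ⟨⟨fun u v => Subtype.ext ?_⟩⟩
        show Commute (u : S) (v : S)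
        obtain ⟨m, hu⟩ := hgen u
        obtain ⟨m', hv⟩ := hgen v
        rcases hu with hu | hu <;> rcases hv with hv | hv <;> rw [hu, hv]
        · exact hd m _
        · exact hd m _
        · exact (hd m' _).symm
        · exact (hd m _).mul_left ((hd m' _).symm.mul_right (Commute.refl _))
      · exact h
    rcases exists_double (i + j) with ⟨c, hc⟩ | ⟨c, hc⟩
    · right
      refine ⟨i + quarter k - c, le_antisymm ?_ ?_⟩
      · intro w hw
        rcases D.cases w with ⟨a, b, rfl⟩ | ⟨a, b, rfl⟩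
        · exact ⟨b, a - b, hA2 _ ((hA a b).1 hw), Or.inl (by rw [add_sub_cancel])⟩
        · obtain ⟨a', b', he, hmem⟩ := hout _ hw (D.ez_notMem a b)
          obtain ⟨rfl, rfl⟩ := D.ez_inj he
          refine ⟨b - half k + (i + quarter k - c), a - i - (b - j), hA2 _ hmem, Or.inr ?_⟩
          congr 2
          · linear_combination -quarter_add_quarter k - hc
          · ring
      · rintro w ⟨m, t, ht, rfl | rfl⟩
        · refine (hA _ _).2 ?_
          rw [add_sub_cancel_left]
          rcases add_self_eq_zero ht with rfl | rfl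
          · exact zero_mem _
          · rw [← hd₀h, ← hd₀]; exact AddSubgroup.mem_zmultiples d₀
        · have h1 : e (quarter k - c + m + t) (quarter k - c + m) ∈ X := by
            refine (hA _ _).2 ?_
            rw [add_sub_cancel_left]
            rcases add_self_eq_zero ht with rfl | rfl
            · exact zero_mem _
            · rw [← hd₀h, ← hd₀]; exact AddSubgroup.mem_zmultiples d₀
          have := mul_mem h1 hg
          rw [D.mul_eez] at this
          convert this using 3
          · ring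
          · linear_combination -quarter_add_quarter k - hc
    · left
      refine isPGroup_mulAut fun φ hφ => finish φ hφ ?_
      have hυU : (φ υ : S) ∈ D.base := by
        by_contra hn
        obtain ⟨a, b, hab', hmem⟩ := hout _ (φ υ).2 hn
        have h1 : φ υ * φ υ = 1 := by
          rw [← map_mul]
          refine (map_eq_one_iff _ φ.injective).2 (Subtype.ext ?_)
          show e d₀ 0 * e d₀ 0 = 1
          rw [D.mul_ee, hd2, add_zero, D.e_zero]
        have h2 := congrArg Subtype.val h1
        rw [Subgroup.coe_mul, hab', D.sq_ez, OneMemClass.coe_one, D.e_eq_one_iff] at h2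
        have h3 := hA2 _ hmem
        -- `a + b = 0` and `a + b = i + j + 2 (a - i) + t`
        have h4 : half k * (i + j) = 0 := by
          rcases add_self_eq_zero h3 with h5 | h5
          · linear_combination half k * h2.1 + half k * h5 - (a - i) * hh
          · linear_combination half k * h2.1 + half k * h5 - (a - i) * hh +
              ((2 ^ k : ℕ) : ZMod (2 ^ (k + 2))) * hh - half k * two_pow_succ_mul_quarter k
        rw [hc, half_mul_odd] at h4
        exact half_ne_zero k h4
      have hfixυ : φ υ = υ := by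
        obtain ⟨n, c, hc', hn⟩ := hK _ hυU
        refine fix_of_power_mod Z hZc (hZfix φ hφ) hc' hn hφ (l := 1) (fun m => ?_) hZn
        rw [pow_one, mem_subgroupOf, SubmonoidClass.coe_pow, hυ, D.e_pow, D.mem_center_iff_diag,
          mul_zero, hd₀h]
        constructor
        · rintro ⟨c, hc⟩
          obtain ⟨h1, h2⟩ := D.e_inj hc
          rw [← h2] at h1
          rcases Nat.even_or_odd m with hm | ⟨q, rfl⟩
          · exact even_iff_two_dvd.1 hm
          · exfalso
            refine half_ne_zero k ?_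
            rw [← h1]
            push_cast
            linear_combination -(q : ZMod (2 ^ (k + 2))) * hh
        · rintro ⟨q, rfl⟩
          refine ⟨0, ?_⟩
          congr 1
          push_cast
          linear_combination (q : ZMod (2 ^ (k + 2))) * hh
      intro v hv
      obtain ⟨n, c, hc', rfl⟩ := hK v hv
      rw [map_mul, map_pow, hfixυ, hZfix φ hφ c hc']

/-- Classification of self-centralising subgroups with automorphism group not a 2-group. -/
theorem classify (D : Data k x y z) {X : Subgroup S} (hC : centralizer (X : Set S) ≤ X)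
    (hA : ¬ IsPGroup 2 (MulAut X)) : X = D.base ∨ ∃ i, X = qzSub D i := by
  by_cases hab : IsMulCommutative X
  · by_contra hno
    simp only [not_or] at hno
    exact hA (isPGroup_aut_abelian D hC hab hno.1)
  · exact Or.inr ((aut_cases D hC hab).resolve_left hA)

end Cfsg.Agent.Lib.TwoGroups.WreathedAut
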