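import Mathlib
import Cfsg.Agent.Lib.TwoGroups.Wreathed
import Cfsg.Agent.Lib.TwoGroups.WreathedAut
import Cfsg.Agent.Lib.TwoGroups.OddAut
import Cfsg.Agent.Lib.TwoGroups.Triangle
import Cfsg.Agent.Lib.TwoGroups.QDFusion

/-!
The normalisers of the abelian maximal subgroup and of the central products `Q₈ * Z` of a
wreathed Sylow 2-subgroup.
-/

set_option autoImplicit false
set_option linter.unusedSectionVars false

namespace Cfsg.Agent.Lib.TwoGroups.WreathedLocal

open Subgroup Cfsg.Agent.Lib.TwoGroups.Recognition Cfsg.Agent.Lib.TwoGroups.Wreathed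
  Cfsg.Agent.Lib.TwoGroups.WreathedAut Cfsg.Agent.Lib.TwoGroups.Triangle
  Cfsg.Agent.Lib.TwoGroups.OddAut
open Cfsg.Agent.Lib.TwoGroups.QDFusion (ActsLike normal_centralizer_subgroupOf
  normal_sup_centralizer_subgroupOf even_relIndex eq_two_or_six)

/-! ### Inside the wreathed group -/

section Inner

variable {T : Type*} [Group T] {k : ℕ} {x y z : T}

local notation "e" => el k x y

theorem model_center_or : ∀ u : QuaternionGroup 2,
    (∀ v, u * v = v * u) ∨ (u * u ≠ 1 ∧ u * u * (u * u) = 1) := by decide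

theorem model_conj_cases : ∀ u v : QuaternionGroup 2, u * v * u⁻¹ = v ∨ u * v * u⁻¹ = v⁻¹ := by
  decide

theorem model_pow_four : ∀ u : QuaternionGroup 2, u * u * (u * u) = 1 := by decide

/-- A quaternion subgroup of order eight generates a `qzSub` with the centre. -/
theorem qz_of_quaternion (D : Data k x y z) {Q : Subgroup T} (f : Q ≃* QuaternionGroup 2) :
    ∃ i, Q ⊔ center T = qzSub D i := by
  have := D.finite
  have hh := half_add_half k
  have hna : ¬ IsMulCommutative Q := fun h => quaternion_two_not_comm ⟨⟨fun u v => by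
    have := congrArg f (mul_comm' (f.symm u) (f.symm v))
    rwa [map_mul, map_mul, MulEquiv.apply_symm_apply, MulEquiv.apply_symm_apply] at this⟩⟩
  obtain ⟨g, hg, hgU⟩ : ∃ g ∈ Q, g ∉ D.base := by
    by_contra hno
    simp only [not_exists, not_and, not_not] at hno
    exact hna ⟨⟨fun a b => Subtype.ext (by
      obtain ⟨i, j, ha⟩ := hno a a.2
      obtain ⟨i', j', hb⟩ := hno b b.2
      show (a : T) * b = b * a
      rw [ha, hb]; exact (D.e_comm i j i' j').eq)⟩⟩
  obtain ⟨i, j, rfl⟩ : ∃ i j, g = e i j * z :=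
    (D.cases g).resolve_left (fun ⟨i, j, h⟩ => hgU (h ▸ D.e_mem_base i j))
  have hnc : ¬ ∀ w ∈ Q, Commute (e i j * z) w := fun h => by
    obtain ⟨c, hc⟩ := D.mem_center_iff_diag.1 (D.center_le hna hg h)
    exact D.ez_ne_e _ _ _ _ hc
  have hsum : i + j = half k := by
    rcases model_center_or (f ⟨_, hg⟩) with hc | ⟨h2, h4⟩
    · refine absurd (fun w hw => ?_) hnc
      have := hc (f ⟨w, hw⟩)
      rw [← map_mul, ← map_mul] at this
      exact congrArg Subtype.val (f.injective this)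
    · rw [← map_mul, ne_eq, MulEquiv.map_eq_one_iff] at h2
      rw [← map_mul, ← map_mul, MulEquiv.map_eq_one_iff] at h4
      have h4' : e i j * z * (e i j * z) * (e i j * z * (e i j * z)) = 1 :=
        congrArg Subtype.val h4
      rw [D.sq_ez, D.mul_ee, D.e_eq_one_iff] at h4'
      rcases add_self_eq_zero h4'.1 with h | h
      · refine absurd (Subtype.ext ?_) h2
        show e i j * z * (e i j * z) = 1
        rw [D.sq_ez, h, D.e_zero]
      · exact h
  obtain rfl : j = half k - i := by linear_combination hsum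
  refine ⟨i, ?_⟩
  have hb : e i (half k - i) * z ∈ qzSub D i := ⟨0, 0, add_zero 0, Or.inr (by simp)⟩
  have hanti : ∀ p q, e p q ∈ Q → p = q ∨ (q = -p ∧ p + p + (p + p) = 0) := by
    intro p q hpq
    have h4 := model_pow_four (f ⟨_, hpq⟩)
    rw [← map_mul, ← map_mul, MulEquiv.map_eq_one_iff] at h4
    have h4' : e p q * e p q * (e p q * e p q) = 1 := congrArg Subtype.val h4
    rw [D.mul_ee, D.mul_ee, D.e_eq_one_iff] at h4'
    rcases model_conj_cases (f ⟨_, hg⟩) (f ⟨_, hpq⟩) with h | h <;>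
      simp only [← map_inv, ← map_mul] at h <;>
      have h' := congrArg Subtype.val (f.injective h)
    · change e i (half k - i) * z * e p q * (e i (half k - i) * z)⁻¹ = e p q at h'
      rw [D.conj_ez_e] at h'
      exact Or.inl (D.e_inj h').2
    · change e i (half k - i) * z * e p q * (e i (half k - i) * z)⁻¹ = (e p q)⁻¹ at h'
      rw [D.conj_ez_e, D.e_inv] at h'
      exact Or.inr ⟨(D.e_inj h').1, h4'.1⟩
  have hbase : ∀ p q, e p q ∈ Q → e p q ∈ qzSub D i := by
    intro p q hpq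
    rcases hanti p q hpq with rfl | ⟨rfl, h4⟩
    · exact ⟨p, 0, add_zero 0, Or.inl (by rw [add_zero])⟩
    · exact ⟨-p, p + p, h4, Or.inl (by congr 1; ring)⟩
  refine le_antisymm (sup_le (fun w hw => ?_) fun w hw => ?_) ?_
  · rcases D.cases w with ⟨p, q, rfl⟩ | ⟨p, q, rfl⟩
    · exact hbase p q hw
    · have h1 := mul_mem hw (inv_mem hg)
      rw [mul_inv_rev, mul_assoc, mul_inv_cancel_left, D.e_inv, D.mul_ee] at h1
      have h2 := mul_mem (hbase _ _ h1) hb
      rwa [D.mul_eez, neg_add_cancel_right, neg_add_cancel_right] at h2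
  · obtain ⟨c, rfl⟩ := D.mem_center_iff_diag.1 hw
    exact ⟨c, 0, add_zero 0, Or.inl (by rw [add_zero])⟩
  · obtain ⟨p, q, hpq, hne⟩ : ∃ p q, e p q ∈ Q ∧ p ≠ q := by
      obtain ⟨w, hw, hwc⟩ : ∃ w ∈ Q, ¬ Commute (e i (half k - i) * z) w := by
        simpa only [not_forall, exists_prop] using hnc
      rcases D.cases w with ⟨p, q, rfl⟩ | ⟨p, q, rfl⟩
      · exact ⟨p, q, hw, fun h => hwc (D.commute_e_ez.2 h).symm⟩
      · have h1 := mul_mem hw (inv_mem hg)
        rw [mul_inv_rev, mul_assoc, mul_inv_cancel_left, D.e_inv, D.mul_ee] at h1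
        refine ⟨_, _, h1, fun h => hwc ?_⟩
        have h2 := ((D.commute_e_ez (i := i) (j := half k - i)).2 h).mul_left
          (Commute.refl (e i (half k - i) * z))
        rw [D.mul_eez, neg_add_cancel_right, neg_add_cancel_right] at h2
        exact h2.symm
    obtain ⟨rfl, h4⟩ := (hanti p q hpq).resolve_left hne
    have hp : p + p = half k := by
      refine (add_self_eq_zero h4).resolve_left fun h => hne ?_
      linear_combination h
    have hhalf : e (half k) 0 ∈ Q ⊔ center T := by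
      have := mul_mem (mem_sup_left hpq : e p (-p) ∈ Q ⊔ center T)
        (mem_sup_right (D.diag_mem_center p) : e p p ∈ Q ⊔ center T)
      rwa [D.mul_ee, hp, neg_add_cancel] at this
    have key : ∀ c t, t + t = 0 → e (c + t) c ∈ Q ⊔ center T := by
      intro c t ht
      rcases add_self_eq_zero ht with rfl | rfl
      · rw [add_zero]; exact mem_sup_right (D.diag_mem_center c)
      · have := mul_mem hhalf (mem_sup_right (D.diag_mem_center c) : e c c ∈ Q ⊔ center T)
        rwa [D.mul_ee, zero_add, add_comm] at this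
    rintro w ⟨c, t, ht, rfl | rfl⟩
    · exact key c t ht
    · have := mul_mem (key c t ht) (mem_sup_left hg : e i (half k - i) * z ∈ Q ⊔ center T)
      rw [D.mul_eez] at this
      convert this using 3 <;> ring

/-- Representatives of the three nontrivial cosets of the centre in `qzSub D i`. -/
def rep (k : ℕ) (x y z : T) (i : ZMod (2 ^ (k + 2))) : Fin 3 → T :=
  ![el k x y (half k) 0, el k x y i (half k - i) * z,
    el k x y (half k + i) (half k - i) * z]

theorem rep_mem (D : Data k x y z) (i : ZMod (2 ^ (k + 2))) (j : Fin 3) :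
    rep k x y z i j ∈ qzSub D i := by
  fin_cases j
  · exact ⟨0, half k, half_add_half k, Or.inl (by simp [rep])⟩
  · exact ⟨0, 0, add_zero 0, Or.inr (by simp [rep])⟩
  · refine ⟨0, half k, half_add_half k, Or.inr ?_⟩
    show e (half k + i) (half k - i) * z = _
    congr 2 <;> ring

theorem rep_two (D : Data k x y z) (i : ZMod (2 ^ (k + 2))) :
    rep k x y z i 2 = rep k x y z i 0 * rep k x y z i 1 := by
  show e (half k + i) (half k - i) * z = e (half k) 0 * (e i (half k - i) * z)
  rw [D.mul_eez, zero_add]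

theorem rep_sq_zero (D : Data k x y z) (i : ZMod (2 ^ (k + 2))) :
    rep k x y z i 0 * rep k x y z i 0 = 1 := by
  show e (half k) 0 * e (half k) 0 = 1
  rw [D.mul_ee, half_add_half, add_zero, D.e_zero]

theorem rep_sq_one (D : Data k x y z) (i : ZMod (2 ^ (k + 2))) :
    rep k x y z i 1 * rep k x y z i 1 = e (half k) (half k) := by
  show e i (half k - i) * z * (e i (half k - i) * z) = _
  rw [D.sq_ez, add_sub_cancel]

theorem rep_ne (D : Data k x y z) (i : ZMod (2 ^ (k + 2))) {j l : Fin 3}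
    {c : ZMod (2 ^ (k + 2))} (h : rep k x y z i l = rep k x y z i j * e c c) : j = l := by
  have hne := half_ne_zero k
  fin_cases j <;> fin_cases l <;>
    simp only [rep, D.mul_ee, D.mul_eze, Matrix.cons_val_zero, Matrix.cons_val_one,
      Fin.zero_eta, Fin.mk_one, Fin.reduceFinMk, Matrix.cons_val] at h ⊢
  all_goals try rfl
  all_goals exfalso
  all_goals first
    | exact D.ez_ne_e _ _ _ _ h
    | exact D.ez_ne_e _ _ _ _ h.symm
    | (obtain ⟨h1, h2⟩ := D.ez_inj h
       exact hne (by linear_combination h1 - h2))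
    | (obtain ⟨h1, h2⟩ := D.ez_inj h
       exact hne (by linear_combination h2 - h1))

theorem rep_notMem_center (D : Data k x y z) (i : ZMod (2 ^ (k + 2))) (j : Fin 3) :
    rep k x y z i j ∉ center T := by
  rw [D.mem_center_iff_diag]
  rintro ⟨c, hc⟩
  fin_cases j <;> simp [rep] at hc
  · obtain ⟨h1, h2⟩ := D.e_inj hc
    exact half_ne_zero k (h1.trans h2.symm)
  all_goals exact D.ez_ne_e _ _ _ _ hc

theorem qz_decomp (D : Data k x y z) (i : ZMod (2 ^ (k + 2))) {w : T} (hw : w ∈ qzSub D i) :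
    w ∈ center T ∨ ∃ j, ∃ c ∈ center T, w = rep k x y z i j * c := by
  obtain ⟨c, t, ht, rfl | rfl⟩ := hw <;> rcases add_self_eq_zero ht with rfl | rfl
  · left; rw [add_zero]; exact D.diag_mem_center c
  · refine Or.inr ⟨0, e c c, D.diag_mem_center c, ?_⟩
    show _ = e (half k) 0 * e c c
    rw [D.mul_ee, zero_add, add_comm]
  · refine Or.inr ⟨1, e c c, D.diag_mem_center c, ?_⟩
    show _ = e i (half k - i) * z * e c c
    rw [D.mul_eze, add_zero]
  · refine Or.inr ⟨2, e c c, D.diag_mem_center c, ?_⟩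
    show _ = e (half k + i) (half k - i) * z * e c c
    rw [D.mul_eze]
    congr 2
    ring

/-- Commutators in `qzSub` are central. -/
theorem qz_conj_mem (D : Data k x y z) (i : ZMod (2 ^ (k + 2))) {v r : T} (hv : v ∈ qzSub D i)
    (hr : r ∈ qzSub D i) : ∃ c ∈ center T, v * r * v⁻¹ = r * c := by
  obtain ⟨a, s, hs, rfl | rfl⟩ := hv <;> obtain ⟨b, t, ht, rfl | rfl⟩ := hr
  · exact ⟨1, one_mem _, by rw [mul_one, (D.e_comm _ _ (b + t) b).eq, mul_inv_cancel_right]⟩
  · refine ⟨e s s, D.diag_mem_center s, ?_⟩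
    rw [D.conj_e_ez, D.mul_eze]
    congr 2
    · ring
    · linear_combination -hs
  · refine ⟨e t t, D.diag_mem_center t, ?_⟩
    rw [D.conj_ez_e, D.mul_ee]
    congr 1
    linear_combination -ht
  · refine ⟨e (s - t) (s - t), D.diag_mem_center _, ?_⟩
    rw [mul_inv_eq_iff_eq_mul, D.mul_ezez, D.mul_eze, D.mul_ezez]
    congr 1 <;> first
      | linear_combination (0 : ZMod (2 ^ (k + 2))) * hs
      | linear_combination ht - hs
      | linear_combination hs - ht

/-- The possible inner actions on the representatives. -/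
theorem exists_conj_rep (D : Data k x y z) (i : ZMod (2 ^ (k + 2)))
    {d₀ d₁ : ZMod (2 ^ (k + 2))} (h₀ : d₀ + d₀ = 0) (h₁ : d₁ + d₁ = 0) :
    ∃ q ∈ qzSub D i, q * rep k x y z i 0 * q⁻¹ = rep k x y z i 0 * e d₀ d₀ ∧
      q * rep k x y z i 1 * q⁻¹ = rep k x y z i 1 * e d₁ d₁ := by
  have hh := half_add_half k
  have c01 : rep k x y z i 0 * rep k x y z i 1 * (rep k x y z i 0)⁻¹ =
      rep k x y z i 1 * e (half k) (half k) := by
    show e (half k) 0 * (e i (half k - i) * z) * (e (half k) 0)⁻¹ =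
      e i (half k - i) * z * e (half k) (half k)
    rw [D.conj_e_ez, D.mul_eze]
    congr 2
    · ring
    · linear_combination -hh
  have c10 : rep k x y z i 1 * rep k x y z i 0 * (rep k x y z i 1)⁻¹ =
      rep k x y z i 0 * e (half k) (half k) := by
    show e i (half k - i) * z * e (half k) 0 * (e i (half k - i) * z)⁻¹ =
      e (half k) 0 * e (half k) (half k)
    rw [D.conj_ez_e, D.mul_ee, hh, zero_add]
  have m0 := rep_mem D i 0
  have m1 := rep_mem D i 1
  rcases add_self_eq_zero h₀ with rfl | rfl <;> rcases add_self_eq_zero h₁ with rfl | rfl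
  · exact ⟨1, one_mem _, by simp [D.e_zero], by simp [D.e_zero]⟩
  · exact ⟨_, m0, by rw [D.e_zero, mul_one, mul_inv_cancel_right], c01⟩
  · exact ⟨_, m1, c10, by rw [D.e_zero, mul_one, mul_inv_cancel_right]⟩
  · refine ⟨_, mul_mem m0 m1, ?_, ?_⟩
    · calc rep k x y z i 0 * rep k x y z i 1 * rep k x y z i 0 *
            (rep k x y z i 0 * rep k x y z i 1)⁻¹
          = rep k x y z i 0 * (rep k x y z i 1 * rep k x y z i 0 * (rep k x y z i 1)⁻¹) *
            (rep k x y z i 0)⁻¹ := by group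
        _ = rep k x y z i 0 * (rep k x y z i 0 * e (half k) (half k)) *
            (rep k x y z i 0)⁻¹ := by rw [c10]
        _ = rep k x y z i 0 * e (half k) (half k) := by
            rw [mul_assoc (rep k x y z i 0) (rep k x y z i 0 * _) _, mul_assoc (rep k x y z i 0),
              (mem_center_iff.1 (D.diag_mem_center (half k)) (rep k x y z i 0)⁻¹).symm,
              mul_inv_cancel_left]
    · calc rep k x y z i 0 * rep k x y z i 1 * rep k x y z i 1 *
            (rep k x y z i 0 * rep k x y z i 1)⁻¹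
          = rep k x y z i 0 * rep k x y z i 1 * (rep k x y z i 0)⁻¹ := by group
        _ = _ := c01

theorem rep_product (D : Data k x y z) (i : ZMod (2 ^ (k + 2))) {a b c : Fin 3} (hab : a ≠ b)
    (hac : a ≠ c) (hbc : b ≠ c) :
    rep k x y z i a * rep k x y z i b * rep k x y z i c ∈ center T := by
  have hh := half_add_half k
  rw [D.mem_center_iff_diag]
  fin_cases a <;> fin_cases b <;> fin_cases c <;>
    simp only [ne_eq, not_true_eq_false, Fin.zero_eta, Fin.mk_one, Fin.reduceFinMk,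
      Fin.reduceEq, not_false_eq_true] at hab hac hbc ⊢
  all_goals
    simp only [rep, Matrix.cons_val_zero, Matrix.cons_val_one, Matrix.cons_val, D.mul_eze,
      D.mul_eez, D.mul_ezez, D.mul_ee]
  all_goals refine ⟨_, congrArg (el k x y _) ?_⟩
  all_goals first
    | linear_combination (0 : ZMod (2 ^ (k + 2))) * hh
    | linear_combination hh
    | linear_combination -hh
    | linear_combination hh + hh
    | linear_combination -(hh + hh)
    | linear_combination hh + hh + hh
    | linear_combination -(hh + hh + hh)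

theorem centralizer_qz_le (D : Data k x y z) (i : ZMod (2 ^ (k + 2))) :
    centralizer (qzSub D i : Set T) ≤ center T := by
  intro w hw
  have h0 : Commute (e (half k) 0) w := hw _ (rep_mem D i 0)
  have h1 : Commute (e i (half k - i) * z) w := hw _ (rep_mem D i 1)
  rcases D.cases w with ⟨p, q, rfl⟩ | ⟨p, q, rfl⟩
  · obtain rfl := D.commute_e_ez.1 h1.symm
    exact D.diag_mem_center p
  · exact absurd (D.commute_e_ez.1 h0) (half_ne_zero k)

theorem center_le_qz (D : Data k x y z) (i : ZMod (2 ^ (k + 2))) : center T ≤ qzSub D i := by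
  intro w hw
  obtain ⟨c, rfl⟩ := D.mem_center_iff_diag.1 hw
  exact ⟨c, 0, add_zero 0, Or.inl (by rw [add_zero])⟩

end Inner

/-! ### Automorphisms -/

/-- An automorphism of odd order of an abelian 2-group fixing the elements of square one is
trivial. -/
theorem abelian_fix {X : Type*} [Group X] [IsMulCommutative X] (hX : IsPGroup 2 X) {φ : MulAut X}
    (hφ : Odd (orderOf φ)) (h : ∀ w : X, w * w = 1 → φ w = w) : φ = 1 := by
  have key : ∀ (a : ℕ) (w : X), w ^ 2 ^ a = 1 → φ w = w := by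
    intro a
    induction a with
    | zero => intro w hw; rw [pow_zero, pow_one] at hw; rw [hw, map_one]
    | succ a ih =>
      intro w hw
      have hsq : φ (w * w) = w * w := ih _ (by
        rw [← pow_two, ← pow_mul, mul_comm, ← pow_succ]; exact hw)
      have hcm : Commute w⁻¹ (φ w) := mul_comm' _ _
      have hf : w⁻¹ * φ w * (w⁻¹ * φ w) = 1 := by
        rw [hcm.symm.mul_mul_mul_comm, ← map_mul, hsq, ← mul_inv_rev, inv_mul_cancel]
      exact fix_of_translate hφ (by rw [mul_inv_cancel_left]) (h _ hf) (n := 1)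
        (by rw [pow_one, pow_two, hf])
  ext w
  obtain ⟨a, ha⟩ := hX w
  exact key a w ha

/-! ### In the ambient group -/

variable {G : Type*} [Group G] [Finite G] {S : Sylow 2 G} {k : ℕ} {x y z : (S : Subgroup G)}

local notation "e" => el k x y

/-- The centre of the Sylow subgroup, in `G`. -/
abbrev centG (S : Sylow 2 G) : Subgroup G :=
  (center (S : Subgroup G)).map (S : Subgroup G).subtype

/-- The abelian maximal subgroup, in `G`. -/
def baseG (D : Data k x y z) : Subgroup G := D.base.map (S : Subgroup G).subtype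

/-- The normal four group, in `G`. -/
def omegaG (D : Data k x y z) : Subgroup G := D.omegaBase.map (S : Subgroup G).subtype

/-- The central product of a quaternion group and the centre, in `G`. -/
def qzG (D : Data k x y z) (i : ZMod (2 ^ (k + 2))) : Subgroup G :=
  (qzSub D i).map (S : Subgroup G).subtype

theorem coe_mem_map {H : Subgroup (S : Subgroup G)} {v : (S : Subgroup G)} :
    (v : G) ∈ H.map (S : Subgroup G).subtype ↔ v ∈ H :=
  Subgroup.mem_map_iff_mem (f := (S : Subgroup G).subtype) (S : Subgroup G).subtype_injective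

theorem le_normalizer_of_normal (H : Subgroup (S : Subgroup G)) [H.Normal] :
    (S : Subgroup G) ≤
      normalizer ((H.map (S : Subgroup G).subtype : Subgroup G) : Set G) := by
  intro s hs
  refine Subgroup.le_normalizer_map _ ⟨⟨s, hs⟩, ?_, rfl⟩
  rw [normalizer_eq_top]
  exact mem_top _

/-- Two-part of an element. -/
theorem exists_odd_pow (n : G) : ∃ m a : ℕ, Odd m ∧ (n ^ m) ^ 2 ^ a = 1 := by
  obtain ⟨a, m, hm, hd⟩ := Nat.exists_eq_two_pow_mul_odd (orderOf_pos n).ne'
  exact ⟨m, a, hm, by rw [← pow_mul, mul_comm, ← hd, pow_orderOf_eq_one]⟩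

/-- A 2-element normalising a 2-subgroup is conjugate into `S` together with it. -/
theorem conj_two_sylow {R : Subgroup G} (hR : IsPGroup 2 R) {t : G}
    (ht : t ∈ normalizer (R : Set G)) {a : ℕ} (hta : t ^ 2 ^ a = 1) :
    ∃ g : G, R.map (MulAut.conj g).toMonoidHom ≤ S ∧ g * t * g⁻¹ ∈ S := by
  have hT : IsPGroup 2 (zpowers t) := by
    rw [IsPGroup.iff_card]
    obtain ⟨i, -, hi⟩ := (Nat.dvd_prime_pow Nat.prime_two).1 (orderOf_dvd_of_pow_eq_one hta)
    exact ⟨i, by rw [Nat.card_zpowers, hi]⟩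
  obtain ⟨P, hP⟩ := (hR.to_sup_of_normal_left' hT (zpowers_le.2 ht)).exists_le_sylow
  obtain ⟨g, rfl⟩ := MulAction.exists_smul_eq G P S
  refine ⟨g, ?_, ⟨t, hP (mem_sup_right (mem_zpowers t)), rfl⟩⟩
  rintro _ ⟨w, hw, rfl⟩
  exact ⟨w, hP (mem_sup_left hw), rfl⟩

theorem isPGroup_of_le {R : Subgroup G} (h : R ≤ S) : IsPGroup 2 R := S.2.to_le h

/-! ### The abelian maximal subgroup -/

theorem baseG_le (D : Data k x y z) : baseG D ≤ S := map_subtype_le _

theorem baseG_comm (D : Data k x y z) {u v : G} (hu : u ∈ baseG D) (hv : v ∈ baseG D) :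
    u * v = v * u := by
  obtain ⟨u, hu, rfl⟩ := hu
  obtain ⟨v, hv, rfl⟩ := hv
  exact congrArg (fun w : D.base => ((w : (S : Subgroup G)) : G))
    (D.isMulCommutative_base.is_comm.comm ⟨u, hu⟩ ⟨v, hv⟩)

theorem base_eq (D : Data k x y z) {U : Subgroup G} (hUS : U ≤ S) (hUab : IsMulCommutative U)
    (hU : Nat.card U = 2 ^ (2 * k + 4)) : U = baseG D := by
  have h := D.eq_base_of_abelian (A := U.subgroupOf (S : Subgroup G))
    ⟨⟨fun a b => Subtype.ext (Subtype.ext (by
      exact congrArg (fun w : U => (w : G)) (hUab.is_comm.comm ⟨_, a.2⟩ ⟨_, b.2⟩)))⟩⟩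
    (by rw [Nat.card_congr (subgroupOfEquivOfLe hUS).toEquiv, hU])
  rw [baseG, ← h, map_subgroupOf_eq_of_le hUS]

theorem z_mem_normalizer_base (D : Data k x y z) :
    (z : G) ∈ normalizer (baseG D : Set G) := by
  have := D.normal_base
  exact le_normalizer_of_normal D.base z.2

theorem mem_omegaG (D : Data k x y z) {w : G} :
    w ∈ omegaG D ↔ w ∈ baseG D ∧ w * w = 1 := by
  constructor
  · rintro ⟨v, hv, rfl⟩
    obtain ⟨h1, h2⟩ := D.mem_omegaBase.1 hv
    exact ⟨⟨v, h1, rfl⟩, congrArg Subtype.val h2⟩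
  · rintro ⟨⟨v, hv, rfl⟩, h⟩
    exact ⟨v, D.mem_omegaBase.2 ⟨hv, Subtype.ext h⟩, rfl⟩

theorem omega_le_base (D : Data k x y z) : omegaG D ≤ baseG D := fun _ h =>
  ((mem_omegaG D).1 h).1

theorem isKleinFour_omegaG (D : Data k x y z) : IsKleinFour (omegaG D) :=
  isKleinFour_of_card (by
    rw [omegaG, card_map_of_injective (S : Subgroup G).subtype_injective]
    exact D.isKleinFour_omegaBase.card_four) fun _ h => ((mem_omegaG D).1 h).2

theorem conj_mem_omega (D : Data k x y z) {n w : G} (hn : n ∈ normalizer (baseG D : Set G))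
    (hw : w ∈ omegaG D) : n * w * n⁻¹ ∈ omegaG D := by
  obtain ⟨h1, h2⟩ := (mem_omegaG D).1 hw
  exact (mem_omegaG D).2 ⟨(mem_normalizer_iff.1 hn w).1 h1,
    by rw [conj_mul, h2, mul_one, mul_inv_cancel]⟩

theorem half_mem_omega (D : Data k x y z) : ((e (half k) 0 : (S : Subgroup G)) : G) ∈ omegaG D :=
  ⟨_, ⟨_, _, half_add_half k, add_zero 0, rfl⟩, rfl⟩

/-- An element of `N(U)` fixing the involutions of `U` centralises `U`. -/
theorem centralizes_base (D : Data k x y z) {n : G} (hn : n ∈ normalizer (baseG D : Set G))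
    (hfix : ∀ w ∈ omegaG D, n * w * n⁻¹ = w) : n ∈ centralizer (baseG D : Set G) := by
  obtain ⟨m, a, hm, hta⟩ := exists_odd_pow n
  have htN : n ^ m ∈ normalizer (baseG D : Set G) := pow_mem hn m
  have htC : n ^ m ∈ centralizer (omegaG D : Set G) := pow_mem (fun w hw => by
    have := hfix w hw
    rw [mul_inv_eq_iff_eq_mul] at this
    exact this.symm) m
  have htB : n ^ m ∈ baseG D := by
    obtain ⟨g, hgB, hgt⟩ := conj_two_sylow (isPGroup_of_le (baseG_le D)) htN hta
    have hB : (baseG D).map (MulAut.conj g).toMonoidHom = baseG D := by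
      refine base_eq D hgB ⟨⟨?_⟩⟩ ?_
      · rintro ⟨_, u, hu, rfl⟩ ⟨_, v, hv, rfl⟩
        refine Subtype.ext ?_
        show MulAut.conj g u * MulAut.conj g v = MulAut.conj g v * MulAut.conj g u
        rw [← map_mul, ← map_mul, baseG_comm D hu hv]
      · rw [card_map_of_injective (MulAut.conj g).injective, baseG,
          card_map_of_injective (S : Subgroup G).subtype_injective, D.card_base]
    have hgb : g * n ^ m * g⁻¹ ∈ baseG D := by
      obtain ⟨v, hv, hvw⟩ : ((e (half k) 0 : (S : Subgroup G)) : G) ∈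
          (baseG D).map (MulAut.conj g).toMonoidHom := hB.symm ▸ omega_le_base D (half_mem_omega D)
      have hvO : v ∈ omegaG D := (mem_omegaG D).2 ⟨hv, (MulAut.conj g).injective (by
        show MulAut.conj g (v * v) = MulAut.conj g 1
        rw [map_mul, map_one]
        exact (congrArg (fun u : G => u * u) hvw).trans ((mem_omegaG D).1 (half_mem_omega D)).2)⟩
      have hc := htC v hvO
      have hc2 : Commute (⟨_, hgt⟩ : (S : Subgroup G)) (e (half k) 0) := Subtype.ext (by
        show g * n ^ m * g⁻¹ * ((e (half k) 0 : (S : Subgroup G)) : G) = ((e (half k) 0 : (S : Subgroup G)) : G) * (g * n ^ m * g⁻¹)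
        rw [← hvw]
        show g * n ^ m * g⁻¹ * (g * v * g⁻¹) = g * v * g⁻¹ * (g * n ^ m * g⁻¹)
        rw [conj_mul, conj_mul, hc])
      rcases D.cases (⟨_, hgt⟩ : (S : Subgroup G)) with ⟨i, j, h⟩ | ⟨i, j, h⟩
      · exact ⟨_, D.e_mem_base i j, (congrArg Subtype.val h).symm⟩
      · rw [h] at hc2
        exact absurd (D.commute_e_ez.1 hc2.symm) (half_ne_zero k)
    rw [← hB] at hgb
    exact (Subgroup.mem_map_iff_mem (f := (MulAut.conj g).toMonoidHom)
      (MulAut.conj g).injective).1 hgb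
  set φ := (baseG D).normalizerMonoidHom ⟨n, hn⟩ with hφdef
  have hφm : φ ^ m = 1 := by
    rw [hφdef, ← map_pow]
    ext w
    show n ^ m * (w : G) * (n ^ m)⁻¹ = w
    rw [baseG_comm D htB w.2, mul_inv_cancel_right]
  have hodd : Odd (orderOf φ) := hm.of_dvd_nat (orderOf_dvd_of_pow_eq_one hφm)
  have : IsMulCommutative (baseG D) := ⟨⟨fun u v => Subtype.ext (baseG_comm D u.2 v.2)⟩⟩
  have hone : φ = 1 := abelian_fix (isPGroup_of_le (baseG_le D)) hodd fun w hw =>
    Subtype.ext (hfix w ((mem_omegaG D).2 ⟨w.2, congrArg Subtype.val hw⟩))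
  intro w hw
  have h1 : n * w * n⁻¹ = w := congrArg Subtype.val (DFunLike.congr_fun hone (⟨w, hw⟩ : baseG D))
  rw [mul_inv_eq_iff_eq_mul] at h1
  exact h1.symm

theorem z_notMem_centralizer_base (D : Data k x y z) :
    (z : G) ∉ centralizer (baseG D : Set G) := by
  intro h
  have h1 : ((e (half k) 0 : (S : Subgroup G)) : G) * (z : G) = (z : G) * ((e (half k) 0 : (S : Subgroup G)) : G) :=
    h _ (omega_le_base D (half_mem_omega D))
  have h2 : Commute (e (half k) 0) (e 0 0 * z) := by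
    rw [D.e_zero, one_mul]; exact Subtype.ext h1
  exact half_ne_zero k (D.commute_e_ez.1 h2)

theorem base_three (D : Data k x y z) :
    (centralizer (baseG D : Set G)).relIndex (normalizer (baseG D : Set G)) ∣ 6 ∧
      ((centralizer (baseG D : Set G)).relIndex (normalizer (baseG D : Set G)) = 6 →
        ∃ n ∈ normalizer (baseG D : Set G), Odd (orderOf n) ∧
          (∀ u ∈ omegaG D, u ≠ 1 → n * u * n⁻¹ ≠ u) ∧
          ∀ u ∈ baseG D, u * (n * u * n⁻¹) * (n * n * u * (n * n)⁻¹) = 1) := by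
  have hΩ := isKleinFour_omegaG D
  obtain ⟨a, b, ha, hb, ha1, hb1, hab, hab1, ha2, hb2, hall⟩ := four_elems hΩ
  let P : Fin 3 → Set G := ![{a}, {b}, {a * b}]
  have hP : Function.Injective P := by
    intro i j h
    fin_cases i <;> fin_cases j <;> simp_all [P]
  have hmemT : ∀ i, ∃ u, P i = {u} ∧ u ∈ omegaG D ∧ u ≠ 1 := by
    intro i
    fin_cases i
    exacts [⟨a, rfl, ha, ha1⟩, ⟨b, rfl, hb, hb1⟩, ⟨a * b, rfl, mul_mem ha hb, hab1⟩]
  have hidx : ∀ u ∈ omegaG D, u ≠ 1 → ∃ i, P i = {u} := by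
    intro u hu hu1
    rcases hall u hu with h | h | h | h
    exacts [absurd h hu1, ⟨0, by simp [P, h]⟩, ⟨1, by simp [P, h]⟩, ⟨2, by simp [P, h]⟩]
  have hperm : ∀ n ∈ normalizer (baseG D : Set G), ∀ i, ∃ j, conjSet n (P i) = P j := by
    intro n hn i
    obtain ⟨u, hi, hu, hu1⟩ := hmemT i
    obtain ⟨j, hj⟩ := hidx (n * u * n⁻¹) (conj_mem_omega D hn hu)
      (fun h => hu1 (conj_eq_one_iff.1 h))
    exact ⟨j, by rw [hi, hj]; simp [conjSet]⟩
  have hker : ∀ n ∈ normalizer (baseG D : Set G),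
      (n ∈ centralizer (baseG D : Set G) ↔ ∀ i, conjSet n (P i) = P i) := by
    intro n hn
    constructor
    · intro hc i
      obtain ⟨u, hi, hu, -⟩ := hmemT i
      simp only [hi, conjSet, Set.image_singleton, Set.singleton_eq_singleton_iff]
      rw [← hc u (omega_le_base D hu), mul_inv_cancel_right]
    · intro h
      refine centralizes_base D hn fun u hu => ?_
      by_cases hu1 : u = 1
      · simp [hu1]
      · obtain ⟨i, hi⟩ := hidx u hu hu1
        have := h i
        simpa [hi, conjSet] using this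
  obtain ⟨h6, hn⟩ := three (normalizer (baseG D : Set G)) (centralizer (baseG D : Set G))
    (centralizer_le_normalizer _) P hP hperm hker
  refine ⟨h6, fun h => ?_⟩
  obtain ⟨n, hnN, hodd, hmove⟩ := hn h
  have hne : ∀ u ∈ omegaG D, u ≠ 1 → n * u * n⁻¹ ≠ u := fun u hu hu1 h' => by
    obtain ⟨i, hi⟩ := hidx u hu hu1
    exact hmove i (by simp [hi, conjSet, h'])
  have hcube : ∀ u ∈ omegaG D, n * (n * n * u * (n * n)⁻¹) * n⁻¹ = u := by
    intro u hu
    by_cases hu1 : u = 1
    · simp [hu1]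
    obtain ⟨i, hi⟩ := hidx u hu hu1
    have hne2 : n * n * u * (n * n)⁻¹ ≠ u := fun h' =>
      sq_moves hodd (A := {u}) (hi ▸ hmove i) (by
        rw [conjSet, Set.image_singleton]
        exact congrArg (fun w => ({w} : Set G)) h')
    have hu' := conj_mem_omega D hnN hu
    have hu'' := conj_mem_omega D (mul_mem hnN hnN) hu
    have hu'1 : n * u * n⁻¹ ≠ 1 := fun h' => hu1 (conj_eq_one_iff.1 h')
    have h2 : n * n * u * (n * n)⁻¹ = u * (n * u * n⁻¹) :=
      four_mul_eq hΩ hu hu' hu'' hu1 hu'1 (fun h' => hu1 (conj_eq_one_iff.1 h'))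
        (Ne.symm (hne u hu hu1)) (Ne.symm hne2) fun h' => hne _ hu' hu'1
          ((show n * (n * u * n⁻¹) * n⁻¹ = n * n * u * (n * n)⁻¹ by group).trans h'.symm)
    calc n * (n * n * u * (n * n)⁻¹) * n⁻¹ = (n * u * n⁻¹) * (n * n * u * (n * n)⁻¹) := by
          nth_rewrite 1 [h2]; group
      _ = n * u * n⁻¹ * ((n * u * n⁻¹) * u) := by
          rw [h2, baseG_comm D (omega_le_base D hu) (omega_le_base D hu')]
      _ = u := by rw [← mul_assoc, ((mem_omegaG D).1 hu').2, one_mul]
  have hn3 : ∀ u ∈ baseG D, n * (n * n * u * (n * n)⁻¹) * n⁻¹ = u := by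
    intro u hu
    have h3 := centralizes_base D (mul_mem hnN (mul_mem hnN hnN)) fun w hw =>
      (show n * (n * n) * w * (n * (n * n))⁻¹ = n * (n * n * w * (n * n)⁻¹) * n⁻¹ by group).trans
        (hcube w hw)
    calc n * (n * n * u * (n * n)⁻¹) * n⁻¹ = n * (n * n) * u * (n * (n * n))⁻¹ := by group
      _ = u := by rw [← h3 u hu, mul_inv_cancel_right]
  have hfree : ∀ a : ℕ, ∀ w ∈ baseG D, n * w * n⁻¹ = w → w ^ 2 ^ a = 1 → w = 1 := by
    intro a
    induction a with
    | zero => intro w _ _ hw; rwa [pow_zero, pow_one] at hw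
    | succ a ih =>
      intro w hwB hwn hw
      have hsq : w * w = 1 := ih _ (mul_mem hwB hwB) (by rw [← conj_mul, hwn])
        (by rw [← pow_two, ← pow_mul, mul_comm, ← pow_succ]; exact hw)
      by_contra hw1
      exact hne w ((mem_omegaG D).2 ⟨hwB, hsq⟩) hw1 hwn
  refine ⟨n, hnN, hodd, hne, fun u hu => ?_⟩
  have hu' := (mem_normalizer_iff.1 hnN u).1 hu
  have hu'' := (mem_normalizer_iff.1 (mul_mem hnN hnN) u).1 hu
  set p := u * (n * u * n⁻¹) * (n * n * u * (n * n)⁻¹) with hp
  have hpB : p ∈ baseG D := mul_mem (mul_mem hu hu') hu''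
  have hpn : n * p * n⁻¹ = p := by
    calc n * p * n⁻¹ = (n * u * n⁻¹) * (n * n * u * (n * n)⁻¹) *
          (n * (n * n * u * (n * n)⁻¹) * n⁻¹) := by rw [hp]; group
      _ = (n * u * n⁻¹) * (n * n * u * (n * n)⁻¹) * u := by rw [hn3 u hu]
      _ = p := by rw [hp, baseG_comm D (mul_mem hu' hu'') hu]; group
  obtain ⟨j, hj⟩ := isPGroup_of_le (baseG_le D) (⟨p, hpB⟩ : baseG D)
  exact hfree j p hpB hpn (congrArg Subtype.val hj)

theorem base_relIndex (D : Data k x y z) :
    (centralizer (baseG D : Set G)).relIndex (normalizer (baseG D : Set G)) = 2 ∨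
      (centralizer (baseG D : Set G)).relIndex (normalizer (baseG D : Set G)) = 6 :=
  eq_two_or_six (base_three D).1 (even_relIndex (normal_centralizer_subgroupOf _)
    (z_mem_normalizer_base D) (z_notMem_centralizer_base D) (a := 1)
    (by rw [pow_one, pow_two]; exact congrArg Subtype.val D.z_mul_z))

theorem actsLike_base (D : Data k x y z)
    (h : (centralizer (baseG D : Set G)).relIndex (normalizer (baseG D : Set G)) = 2) :
    ActsLike (S : Subgroup G) (baseG D) := by
  intro n hn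
  have key : ∀ m ∈ centralizer (baseG D : Set G), ∀ w ∈ baseG D, m * w * m⁻¹ = w :=
    fun m hm w hw => by rw [← hm w hw, mul_inv_cancel_right]
  rcases mem_or_mem_of_relIndex_two h (z_mem_normalizer_base D) (z_notMem_centralizer_base D) hn
    with h' | h'
  · exact ⟨1, one_mem _, fun w hw => by rw [key n h' w hw]; group⟩
  · refine ⟨(z : G), z.2, fun w hw => ?_⟩
    calc n * w * n⁻¹ = (z : G) * ((z : G)⁻¹ * n * w * ((z : G)⁻¹ * n)⁻¹) * (z : G)⁻¹ := by group
      _ = (z : G) * w * (z : G)⁻¹ := by rw [key _ h' w hw]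

/-! ### The subgroups `Q * Z` -/

theorem qz_eq (D : Data k x y z) {Q : Subgroup G} (f : Q ≃* QuaternionGroup 2) (hQS : Q ≤ S) :
    ∃ i, Q ⊔ centG S = qzG D i := by
  obtain ⟨i, hi⟩ := qz_of_quaternion D ((subgroupOfEquivOfLe hQS).trans f)
  exact ⟨i, by rw [qzG, ← hi, Subgroup.map_sup, map_subgroupOf_eq_of_le hQS]⟩

theorem qzG_le (D : Data k x y z) (i : ZMod (2 ^ (k + 2))) : qzG D i ≤ S := map_subtype_le _

theorem centG_le_qz (D : Data k x y z) (i : ZMod (2 ^ (k + 2))) : centG S ≤ qzG D i :=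
  Subgroup.map_mono (center_le_qz D i)

theorem centG_comm {c s : G} (hc : c ∈ centG S) (hs : s ∈ S) : c * s = s * c := by
  obtain ⟨c, hc, rfl⟩ := hc
  exact (congrArg Subtype.val (mem_center_iff.1 hc ⟨s, hs⟩)).symm

theorem qz_conjugate (D : Data k x y z) (i i' : ZMod (2 ^ (k + 2))) :
    (qzG D i).map (MulAut.conj ((e (i' - i) 0 : (S : Subgroup G)) : G)).toMonoidHom = qzG D i' := by
  rw [qzG, qzG, ← qz_conj D i i', Subgroup.map_map, Subgroup.map_map]
  rfl

/-- A 2-element of `N(Q * Z)` centralises `Z`; so does every element. -/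
theorem centralizes_center (D : Data k x y z) (i : ZMod (2 ^ (k + 2))) {n : G}
    (hn : n ∈ normalizer (qzG D i : Set G)) {c : G} (hc : c ∈ centG S) :
    n * c * n⁻¹ = c := by
  have : Fact (Nat.Prime 2) := ⟨Nat.prime_two⟩
  have hnorm : ∀ n ∈ normalizer (qzG D i : Set G), ∀ c ∈ centG S, n * c * n⁻¹ ∈ centG S := by
    intro n hn c hc
    obtain ⟨v, hv, hvw⟩ : n * c * n⁻¹ ∈ qzG D i :=
      (mem_normalizer_iff.1 hn c).1 (centG_le_qz D i hc)
    refine ⟨v, D.center_le (qz_not_comm D i) hv fun g hg => Subtype.ext ?_, hvw⟩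
    have hg' : n⁻¹ * (g : G) * n ∈ qzG D i :=
      (mem_normalizer_iff''.1 hn _).1 (coe_mem_map.2 hg)
    have h1 := centG_comm hc (qzG_le D i hg')
    show (v : G) * g = g * v
    rw [show (v : G) = n * c * n⁻¹ from hvw]
    calc n * c * n⁻¹ * (g : G) = n * (c * (n⁻¹ * g * n)) * n⁻¹ := by group
      _ = n * (n⁻¹ * g * n * c) * n⁻¹ := by rw [h1]
      _ = (g : G) * (n * c * n⁻¹) := by group
  have h2el : ∀ t ∈ normalizer (qzG D i : Set G), ∀ a : ℕ, t ^ 2 ^ a = 1 →
      ∀ c ∈ centG S, t * c * t⁻¹ = c := by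
    intro t ht a hta c hc
    obtain ⟨g, hgW, hgt⟩ := conj_two_sylow (isPGroup_of_le (qzG_le D i)) ht hta
    have hin : ∀ {w}, w ∈ qzG D i → g * w * g⁻¹ ∈ S := fun hw => hgW ⟨_, hw, rfl⟩
    let X : Subgroup (S : Subgroup G) :=
      ((qzG D i).map (MulAut.conj g).toMonoidHom).subgroupOf (S : Subgroup G)
    have hX : ¬ IsMulCommutative X := by
      intro hab
      apply qz_not_comm D i
      refine ⟨⟨fun u v => Subtype.ext (Subtype.ext ?_)⟩⟩
      have hu : ((u : (S : Subgroup G)) : G) ∈ qzG D i := coe_mem_map.2 u.2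
      have hv : ((v : (S : Subgroup G)) : G) ∈ qzG D i := coe_mem_map.2 v.2
      have h := congrArg (fun w : X => ((w : (S : Subgroup G)) : G))
        (hab.is_comm.comm ⟨⟨_, hin hu⟩, ⟨_, hu, rfl⟩⟩ ⟨⟨_, hin hv⟩, ⟨_, hv, rfl⟩⟩)
      change g * ((u : (S : Subgroup G)) : G) * g⁻¹ * (g * ((v : (S : Subgroup G)) : G) * g⁻¹) =
        g * ((v : (S : Subgroup G)) : G) * g⁻¹ * (g * ((u : (S : Subgroup G)) : G) * g⁻¹) at h
      rw [conj_mul, conj_mul] at h
      exact mul_left_cancel (mul_right_cancel h)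
    have hcW := centG_le_qz D i hc
    have hz : g * c * g⁻¹ ∈ centG S := by
      refine ⟨⟨_, hin hcW⟩, D.center_le hX ⟨c, hcW, rfl⟩ fun v hv => Subtype.ext ?_, rfl⟩
      obtain ⟨w, hw, hwv⟩ := hv
      show g * c * g⁻¹ * (v : G) = (v : G) * (g * c * g⁻¹)
      rw [← (show g * w * g⁻¹ = (v : G) from hwv), conj_mul, conj_mul,
        centG_comm hc (qzG_le D i hw)]
    have h := centG_comm hz hgt
    rw [conj_mul, conj_mul] at h
    rw [← mul_left_cancel (mul_right_cancel h), mul_inv_cancel_right]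
  -- the automorphism of the cyclic group `Z` has odd and 2-power order
  obtain ⟨m, a, hm, hta⟩ := exists_odd_pow n
  have hnZ : n ∈ normalizer (centG S : Set G) := by
    rw [mem_normalizer_iff]
    refine fun w => ⟨hnorm n hn w, fun h => ?_⟩
    have := hnorm n⁻¹ (inv_mem hn) _ h
    simpa [mul_assoc] using this
  set φ := (centG S).normalizerMonoidHom ⟨n, hnZ⟩ with hφdef
  have hφm : φ ^ m = 1 := by
    rw [hφdef, ← map_pow]
    ext w
    exact h2el _ (pow_mem hn m) a hta w w.2
  have hcyc : IsCyclic (center (S : Subgroup G)) := by rw [D.center_eq]; infer_instance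
  have hcyc' : IsCyclic (centG S) :=
    ((center (S : Subgroup G)).equivMapOfInjective _
      (S : Subgroup G).subtype_injective).isCyclic.1 hcyc
  have hcard : Nat.card (MulAut (centG S)) = 2 ^ (k + 1) := by
    rw [IsCyclic.card_mulAut, card_map_of_injective (S : Subgroup G).subtype_injective,
      D.card_center, Nat.totient_prime_pow Nat.prime_two (by omega)]
    simp
  have hφ2 : φ ^ 2 ^ (k + 1) = 1 := by rw [← hcard]; exact pow_card_eq_one'
  have h3 := pow_gcd_eq_one.2 ⟨hφm, hφ2⟩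
  rw [show Nat.gcd m (2 ^ (k + 1)) = 1 from (Nat.coprime_two_right.2 hm).pow_right _, pow_one] at h3
  exact congrArg Subtype.val (DFunLike.congr_fun h3 (⟨c, hc⟩ : centG S))

/-- The cosets of `Z` in `qzG D i`. -/
def qzCoset (_D : Data k x y z) (i : ZMod (2 ^ (k + 2))) (j : Fin 3) : Set G :=
  (fun w => ((rep k x y z i j : (S : Subgroup G)) : G) * w) '' (centG S : Set G)

theorem coset_eq_of_mem {Z : Subgroup G} {r v : G} (hv : v ∈ (fun w => r * w) '' (Z : Set G)) :
    (fun w => v * w) '' (Z : Set G) = (fun w => r * w) '' (Z : Set G) := by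
  obtain ⟨c, hc, rfl⟩ := hv
  ext w
  constructor
  · rintro ⟨d, hd, rfl⟩
    exact ⟨c * d, mul_mem hc hd, (mul_assoc _ _ _).symm⟩
  · rintro ⟨d, hd, rfl⟩
    exact ⟨c⁻¹ * d, mul_mem (inv_mem hc) hd, by group⟩

theorem rep_mem_qzG (D : Data k x y z) (i : ZMod (2 ^ (k + 2))) (j : Fin 3) :
    ((rep k x y z i j : (S : Subgroup G)) : G) ∈ qzG D i := coe_mem_map.2 (rep_mem D i j)

theorem rep_mem_coset (D : Data k x y z) (i : ZMod (2 ^ (k + 2))) (j : Fin 3) :
    ((rep k x y z i j : (S : Subgroup G)) : G) ∈ qzCoset D i j := ⟨1, one_mem _, mul_one _⟩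

theorem qzG_decomp (D : Data k x y z) (i : ZMod (2 ^ (k + 2))) {w : G} (hw : w ∈ qzG D i) :
    w ∈ centG S ∨ ∃ j, w ∈ qzCoset D i j := by
  obtain ⟨v, hv, rfl⟩ := hw
  rcases qz_decomp D i hv with h | ⟨j, c, hc, rfl⟩
  · exact Or.inl (coe_mem_map.2 h)
  · exact Or.inr ⟨j, _, coe_mem_map.2 hc, rfl⟩

theorem coset_disjoint (D : Data k x y z) (i : ZMod (2 ^ (k + 2))) {j l : Fin 3}
    (h : ((rep k x y z i l : (S : Subgroup G)) : G) ∈ qzCoset D i j) : j = l := by
  obtain ⟨_, ⟨c, hc, rfl⟩, h⟩ := h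
  obtain ⟨d, rfl⟩ := D.mem_center_iff_diag.1 hc
  exact rep_ne D i (Subtype.ext h.symm)

theorem conjSet_coset (D : Data k x y z) (i : ZMod (2 ^ (k + 2))) {n : G}
    (hn : n ∈ normalizer (qzG D i : Set G)) (j : Fin 3) :
    conjSet n (qzCoset D i j) =
      (fun w => n * ((rep k x y z i j : (S : Subgroup G)) : G) * n⁻¹ * w) '' (centG S : Set G) := by
  rw [qzCoset, conjSet, Set.image_image]
  refine Set.image_congr fun c hc => ?_
  rw [← conj_mul, centralizes_center D i hn hc]

theorem sq_of_translate (D : Data k x y z) (i : ZMod (2 ^ (k + 2))) {n : G}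
    (hn : n ∈ normalizer (qzG D i : Set G)) {j : Fin 3}
    (hfix : conjSet n (qzCoset D i j) = qzCoset D i j)
    (hsq : ((rep k x y z i j : (S : Subgroup G)) : G) * ((rep k x y z i j : (S : Subgroup G)) : G) ∈ centG S) :
    ∃ d, d + d = 0 ∧ n * ((rep k x y z i j : (S : Subgroup G)) : G) * n⁻¹ =
      ((rep k x y z i j * e d d : (S : Subgroup G)) : G) := by
  obtain ⟨_, ⟨c, hc, rfl⟩, hcw⟩ : n * ((rep k x y z i j : (S : Subgroup G)) : G) * n⁻¹ ∈ qzCoset D i j :=
    hfix ▸ ⟨_, rep_mem_coset D i j, rfl⟩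
  obtain ⟨d, rfl⟩ := D.mem_center_iff_diag.1 hc
  refine ⟨d, ?_, hcw.symm⟩
  have h1 := centralizes_center D i hn hsq
  rw [← conj_mul, ← hcw] at h1
  have hcc : Commute (rep k x y z i j) (e d d) := mem_center_iff.1 (D.diag_mem_center d) _
  have h2 : rep k x y z i j * e d d * (rep k x y z i j * e d d) =
      rep k x y z i j * rep k x y z i j := Subtype.ext h1
  rw [hcc.symm.mul_mul_mul_comm, mul_eq_left, D.mul_ee, D.e_eq_one_iff] at h2
  exact h2.1

theorem qz_kernel (D : Data k x y z) (i : ZMod (2 ^ (k + 2))) {n : G}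
    (hn : n ∈ normalizer (qzG D i : Set G)) :
    n ∈ qzG D i ⊔ centralizer (qzG D i : Set G) ↔
      ∀ j, conjSet n (qzCoset D i j) = qzCoset D i j := by
  constructor
  · intro hm j
    rw [← SetLike.mem_coe, Subgroup.coe_mul_of_right_le_normalizer_left (qzG D i) _
      (centralizer_le_normalizer _), Set.mem_mul] at hm
    obtain ⟨v, hv, c, hc, rfl⟩ := hm
    rw [conjSet_coset D i hn]
    refine coset_eq_of_mem ?_
    obtain ⟨v, hv, rfl⟩ := hv
    obtain ⟨d, hd, hdw⟩ := qz_conj_mem D i hv (rep_mem D i j)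
    refine ⟨(d : G), coe_mem_map.2 hd, ?_⟩
    show ((rep k x y z i j : (S : Subgroup G)) : G) * (d : G) =
      (v : G) * c * ((rep k x y z i j : (S : Subgroup G)) : G) * ((v : G) * c)⁻¹
    rw [show ((rep k x y z i j : (S : Subgroup G)) : G) * (d : G) =
      (v : G) * ((rep k x y z i j : (S : Subgroup G)) : G) * (v : G)⁻¹ from (congrArg Subtype.val hdw).symm,
      mul_assoc (v : G) c, ← hc _ (rep_mem_qzG D i j)]
    group
  · intro h
    obtain ⟨d₀, hd₀, hn₀⟩ := sq_of_translate D i hn (h 0) (by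
      rw [← Subgroup.coe_mul, rep_sq_zero D i]; exact one_mem _)
    obtain ⟨d₁, hd₁, hn₁⟩ := sq_of_translate D i hn (h 1) (by
      rw [← Subgroup.coe_mul, rep_sq_one D i]; exact coe_mem_map.2 (D.diag_mem_center _))
    obtain ⟨q, hq, hq₀, hq₁⟩ := exists_conj_rep D i hd₀ hd₁
    have hcomm : ∀ {r : (S : Subgroup G)}, (q * r * q⁻¹ : (S : Subgroup G)) = n * (r : G) * n⁻¹ →
        Commute ((q : G)⁻¹ * n) (r : G) := fun {r} hr => by
      push_cast at hr
      show (q : G)⁻¹ * n * (r : G) = (r : G) * ((q : G)⁻¹ * n)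
      calc (q : G)⁻¹ * n * (r : G) = (q : G)⁻¹ * (n * (r : G) * n⁻¹) * n := by group
        _ = (q : G)⁻¹ * ((q : G) * r * (q : G)⁻¹) * n := by rw [hr]
        _ = (r : G) * ((q : G)⁻¹ * n) := by group
    have h0 := hcomm (by rw [hn₀, hq₀])
    have h1 := hcomm (by rw [hn₁, hq₁])
    have hZ : ∀ c ∈ centG S, Commute ((q : G)⁻¹ * n) c := fun c hc => by
      refine Commute.mul_left (Commute.inv_left ((centG_comm hc q.2).symm)) ?_
      have := centralizes_center D i hn hc
      rwa [mul_inv_eq_iff_eq_mul] at this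
    have hrep : ∀ j, Commute ((q : G)⁻¹ * n) ((rep k x y z i j : (S : Subgroup G)) : G) := by
      intro j
      fin_cases j
      · exact h0
      · exact h1
      · show Commute _ ((rep k x y z i 2 : (S : Subgroup G)) : G)
        rw [rep_two D i, Subgroup.coe_mul]
        exact h0.mul_right h1
    have hC : (q : G)⁻¹ * n ∈ centralizer (qzG D i : Set G) := by
      intro w hw
      rcases qzG_decomp D i hw with hw | ⟨j, c, hc, rfl⟩
      · exact (hZ w hw).eq.symm
      · exact ((hrep j).mul_right (hZ c hc)).eq.symm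
    have := mul_mem (mem_sup_left (coe_mem_map.2 hq) :
      (q : G) ∈ qzG D i ⊔ centralizer (qzG D i : Set G)) (mem_sup_right hC)
    rwa [mul_inv_cancel_left] at this

theorem qz_three (D : Data k x y z) (i : ZMod (2 ^ (k + 2))) :
    (qzG D i ⊔ centralizer (qzG D i : Set G)).relIndex (normalizer (qzG D i : Set G)) ∣ 6 ∧
      ((qzG D i ⊔ centralizer (qzG D i : Set G)).relIndex (normalizer (qzG D i : Set G)) = 6 →
        ∃ n ∈ normalizer (qzG D i : Set G), Odd (orderOf n) ∧
          (∀ j, n * ((rep k x y z i j : (S : Subgroup G)) : G) * n⁻¹ ∉ qzCoset D i j) ∧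
          ∀ j, ((rep k x y z i j : (S : Subgroup G)) : G) * (n * ((rep k x y z i j : (S : Subgroup G)) : G) * n⁻¹) *
            (n * n * ((rep k x y z i j : (S : Subgroup G)) : G) * (n * n)⁻¹) ∈ centG S) := by
  have hP : Function.Injective (qzCoset D i) := fun j l h =>
    coset_disjoint D i (h ▸ rep_mem_coset D i l)
  have hmem : ∀ n ∈ normalizer (qzG D i : Set G), ∀ j,
      ∃ l, n * ((rep k x y z i j : (S : Subgroup G)) : G) * n⁻¹ ∈ qzCoset D i l := by
    intro n hn j
    refine (qzG_decomp D i ((mem_normalizer_iff.1 hn _).1 (rep_mem_qzG D i j))).resolve_left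
      fun h => rep_notMem_center D i j ?_
    have hc := centralizes_center D i (inv_mem hn) h
    have h' : ((rep k x y z i j : (S : Subgroup G)) : G) ∈ centG S := by
      have heq : ((rep k x y z i j : (S : Subgroup G)) : G) = n * ((rep k x y z i j : (S : Subgroup G)) : G) * n⁻¹ := by
        calc ((rep k x y z i j : (S : Subgroup G)) : G)
            = n⁻¹ * (n * ((rep k x y z i j : (S : Subgroup G)) : G) * n⁻¹) * n⁻¹⁻¹ := by group
          _ = _ := hc
      rw [heq]; exact h
    exact coe_mem_map.1 h'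
  have hperm : ∀ n ∈ normalizer (qzG D i : Set G), ∀ j,
      ∃ l, conjSet n (qzCoset D i j) = qzCoset D i l := fun n hn j => by
    obtain ⟨l, hl⟩ := hmem n hn j
    exact ⟨l, (conjSet_coset D i hn j).trans (coset_eq_of_mem hl)⟩
  obtain ⟨h6, hn⟩ := three (normalizer (qzG D i : Set G))
    (qzG D i ⊔ centralizer (qzG D i : Set G)) (sup_le le_normalizer (centralizer_le_normalizer _))
    (qzCoset D i) hP hperm (fun n hn => qz_kernel D i hn)
  refine ⟨h6, fun h => ?_⟩
  obtain ⟨n, hnN, hodd, hmove⟩ := hn h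
  have hne : ∀ j, n * ((rep k x y z i j : (S : Subgroup G)) : G) * n⁻¹ ∉ qzCoset D i j := fun j hj =>
    hmove j ((conjSet_coset D i hnN j).trans (coset_eq_of_mem hj))
  refine ⟨n, hnN, hodd, hne, fun j => ?_⟩
  obtain ⟨l, hl⟩ := hmem n hnN j
  obtain ⟨m, hm⟩ := hmem (n * n) (mul_mem hnN hnN) j
  have hjl : j ≠ l := fun h' => hne j (h' ▸ hl)
  have hjm : j ≠ m := fun h' => sq_moves hodd (hmove j)
    ((conjSet_coset D i (mul_mem hnN hnN) j).trans (coset_eq_of_mem (h'.symm ▸ hm)))
  have hlm : l ≠ m := by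
    rintro rfl
    have hj' : conjSet n (qzCoset D i j) = qzCoset D i l :=
      (conjSet_coset D i hnN j).trans (coset_eq_of_mem hl)
    have hj'' : conjSet (n * n) (qzCoset D i j) = qzCoset D i l :=
      (conjSet_coset D i (mul_mem hnN hnN) j).trans (coset_eq_of_mem hm)
    rw [← conjSet_conjSet, hj'] at hj''
    exact hmove l hj''
  obtain ⟨c, hc, hcw⟩ := hl
  obtain ⟨d, hd, hdw⟩ := hm
  rw [← hcw, ← hdw]
  have hcm := centG_comm hc (rep k x y z i m).2
  have hprod : ((rep k x y z i j : (S : Subgroup G)) : G) * ((rep k x y z i l : (S : Subgroup G)) : G) * ((rep k x y z i m : (S : Subgroup G)) : G) ∈ centG S :=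
    coe_mem_map.2 (rep_product D i hjl hjm hlm)
  rw [show ((rep k x y z i j : (S : Subgroup G)) : G) * (((rep k x y z i l : (S : Subgroup G)) : G) * c) * (((rep k x y z i m : (S : Subgroup G)) : G) * d) =
    ((rep k x y z i j : (S : Subgroup G)) : G) * ((rep k x y z i l : (S : Subgroup G)) : G) * (c * ((rep k x y z i m : (S : Subgroup G)) : G)) * d by group, hcm,
    show ((rep k x y z i j : (S : Subgroup G)) : G) * ((rep k x y z i l : (S : Subgroup G)) : G) * (((rep k x y z i m : (S : Subgroup G)) : G) * c) * d =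
    ((rep k x y z i j : (S : Subgroup G)) : G) * ((rep k x y z i l : (S : Subgroup G)) : G) * ((rep k x y z i m : (S : Subgroup G)) : G) * c * d by group]
  exact mul_mem (mul_mem hprod hc) hd

/-- An element of `S` normalising `Q * Z` and outside `Q * Z * C(Q * Z)`. -/
theorem exists_outer_qz (D : Data k x y z) (i : ZMod (2 ^ (k + 2))) :
    ∃ s ∈ S, s ∈ normalizer (qzG D i : Set G) ∧
      s ∉ qzG D i ⊔ centralizer (qzG D i : Set G) := by
  have h := relIndex_normalizer_qz D i
  have hne : ¬ normalizer (qzSub D i : Set (S : Subgroup G)) ≤ qzSub D i := fun hle => by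
    rw [relIndex_eq_one.2 hle] at h; omega
  obtain ⟨s, hs, hsT⟩ := SetLike.not_le_iff_exists.1 hne
  refine ⟨s, s.2, Subgroup.le_normalizer_map _ ⟨s, hs, rfl⟩, fun hm => hsT ?_⟩
  rw [← SetLike.mem_coe, Subgroup.coe_mul_of_right_le_normalizer_left (qzG D i) _
    (centralizer_le_normalizer _), Set.mem_mul] at hm
  obtain ⟨_, ⟨q, hq, rfl⟩, w, hw, hqw⟩ := hm
  have hw' : q⁻¹ * s ∈ centralizer (qzSub D i : Set (S : Subgroup G)) := by
    intro v hv
    have h1 := hw (v : G) (coe_mem_map.2 hv)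
    have h2 : ((q⁻¹ * s : (S : Subgroup G)) : G) = w := by
      push_cast
      rw [← hqw]
      exact inv_mul_cancel_left _ _
    refine Subtype.ext ?_
    push_cast at h2 ⊢
    rw [h2]
    exact h1
  have := mul_mem hq (center_le_qz D i (centralizer_qz_le D i hw'))
  rwa [mul_inv_cancel_left] at this

theorem qz_relIndex (D : Data k x y z) (i : ZMod (2 ^ (k + 2))) :
    (qzG D i ⊔ centralizer (qzG D i : Set G)).relIndex (normalizer (qzG D i : Set G)) = 2 ∨
      (qzG D i ⊔ centralizer (qzG D i : Set G)).relIndex (normalizer (qzG D i : Set G)) = 6 := by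
  obtain ⟨s, hs, hsN, hsC⟩ := exists_outer_qz D i
  obtain ⟨a, ha⟩ := QDFusion.sylow_pow (S := S) s hs
  exact eq_two_or_six (qz_three D i).1
    (even_relIndex (normal_sup_centralizer_subgroupOf _) hsN hsC ha)

theorem actsLike_qz (D : Data k x y z) {i₀ : ZMod (2 ^ (k + 2))}
    (h : (qzG D i₀ ⊔ centralizer (qzG D i₀ : Set G)).relIndex
      (normalizer (qzG D i₀ : Set G)) = 2) (i : ZMod (2 ^ (k + 2))) :
    ActsLike (S : Subgroup G) (qzG D i) := by
  rw [← qz_conjugate D i₀ i]
  refine ActsLike.conj ?_ (e (i - i₀) 0).2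
  obtain ⟨s, hs, hsN, hsC⟩ := exists_outer_qz D i₀
  intro n hn
  have key : ∀ m ∈ qzG D i₀ ⊔ centralizer (qzG D i₀ : Set G), ∃ q ∈ (S : Subgroup G),
      ∀ w ∈ qzG D i₀, m * w * m⁻¹ = q * w * q⁻¹ := fun m hm => by
    rw [← SetLike.mem_coe, Subgroup.coe_mul_of_right_le_normalizer_left (qzG D i₀) _
      (centralizer_le_normalizer _), Set.mem_mul] at hm
    obtain ⟨q, hq, v, hv, rfl⟩ := hm
    refine ⟨q, qzG_le D i₀ hq, fun w hw => ?_⟩
    calc q * v * w * (q * v)⁻¹ = q * (v * w) * v⁻¹ * q⁻¹ := by group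
      _ = q * (w * v) * v⁻¹ * q⁻¹ := by rw [hv w hw]
      _ = q * w * q⁻¹ := by group
  rcases mem_or_mem_of_relIndex_two h hsN hsC hn with h' | h'
  · exact key n h'
  · obtain ⟨q, hq, hqw⟩ := key _ h'
    refine ⟨s * q, mul_mem hs hq, fun w hw => ?_⟩
    calc n * w * n⁻¹ = s * (s⁻¹ * n * w * (s⁻¹ * n)⁻¹) * s⁻¹ := by group
      _ = s * (q * w * q⁻¹) * s⁻¹ := by rw [hqw w hw]
      _ = s * q * w * (s * q)⁻¹ := by group

end Cfsg.Agent.Lib.TwoGroups.WreathedLocal
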