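import Mathlib
import Cfsg.Prelude.Def_Transfer
import Cfsg.Agent.Lib.TwoGroups.Classes
import Cfsg.Agent.Lib.TwoGroups.FusionCentric
import Cfsg.Agent.Lib.TwoGroups.QDFusion
import Cfsg.Agent.Lib.TwoGroups.WreathedLocal
import Cfsg.Agent.Lib.Transfer.Fusion

/-!
Fusion in groups with wreathed Sylow 2-subgroups.
-/

set_option autoImplicit false
set_option linter.unusedSectionVars false

namespace Cfsg.Agent.Lib.TwoGroups.WreathedFusion

open scoped commutatorElement
open Subgroup Cfsg.Agent.Lib.TwoGroups.Recognition Cfsg.Agent.Lib.TwoGroups.Wreathed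
  Cfsg.Agent.Lib.TwoGroups.WreathedAut Cfsg.Agent.Lib.TwoGroups.WreathedLocal
open Cfsg.Agent.Lib.TwoGroups.Triangle (mem_of_product_mem)
open Cfsg.Agent.Lib.TwoGroups.QDFusion (ActsLike exists_conj_mem isPGroup_mulAut_congr
  not_dvd_relIndex index_two_absurd)

variable {G : Type*} [Group G] [Finite G] {S : Sylow 2 G} {k : ℕ} {x y z : (S : Subgroup G)}

local notation "e" => el k x y

/-- The fusion invariance criterion. -/
theorem invariant (D : Data k x y z) (Φ : G → Prop)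
    (hS : ∀ s ∈ S, ∀ w ∈ S, Φ w → Φ (s * w * s⁻¹))
    (hB : ∀ n ∈ normalizer (baseG D : Set G), ∀ w ∈ baseG D, Φ w → Φ (n * w * n⁻¹))
    (hW : ∀ i, ∀ n ∈ normalizer (qzG D i : Set G), ∀ w ∈ qzG D i, Φ w → Φ (n * w * n⁻¹))
    (w g : G) (hw : w ∈ S) (hgw : g * w * g⁻¹ ∈ S) (h : Φ w) : Φ (g * w * g⁻¹) := by
  refine FusionCentric.fusion_invariant_centric S Φ hS ?_ w g hw hgw h
  intro R hRS hC hA
  have eR := subgroupOfEquivOfLe hRS
  have hC' : centralizer (R.subgroupOf (S : Subgroup G) : Set (S : Subgroup G)) ≤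
      R.subgroupOf (S : Subgroup G) := fun v hv =>
    hC ⟨v.2, fun u hu => congrArg Subtype.val (hv ⟨u, hRS hu⟩ hu)⟩
  rcases classify D hC' (fun h => hA (isPGroup_mulAut_congr eR h)) with h1 | ⟨i, h1⟩
  · obtain rfl : R = baseG D := by rw [baseG, ← h1, map_subgroupOf_eq_of_le hRS]
    exact hB
  · obtain rfl : R = qzG D i := by rw [qzG, ← h1, map_subgroupOf_eq_of_le hRS]
    exact hW i

/-- The three kinds of involutions. -/
theorem class_invol (D : Data k x y z) {t : G} (ht : orderOf t = 2) :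
    IsConj ((e (half k) (half k) : (S : Subgroup G)) : G) t ∨
      IsConj ((e (half k) 0 : (S : Subgroup G)) : G) t ∨
        IsConj ((e 0 0 * z : (S : Subgroup G)) : G) t := by
  obtain ⟨g, hg⟩ := exists_conj_mem S (a := 1) (by rw [ht, pow_one])
  have hc : IsConj (g * t * g⁻¹) t := (isConj_iff.2 ⟨g, rfl⟩ : IsConj t (g * t * g⁻¹)).symm
  have hord : orderOf (⟨_, hg⟩ : (S : Subgroup G)) = 2 := by
    rw [← Subgroup.orderOf_coe]
    exact (MulEquiv.orderOf_eq (MulAut.conj g) t).trans ht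
  have key : ∀ {r v : (S : Subgroup G)}, IsConj r v → g * t * g⁻¹ = (v : G) → IsConj (r : G) t := by
    intro r v h h'
    obtain ⟨d, hd⟩ := isConj_iff.1 h
    exact (isConj_iff.2 ⟨(d : G), congrArg Subtype.val hd⟩).trans (h' ▸ hc)
  rcases D.invol_cases hord with h | h | h | ⟨i, h⟩
  · exact Or.inl (key (IsConj.refl _) (congrArg Subtype.val h))
  · exact Or.inr (Or.inl (key (IsConj.refl _) (congrArg Subtype.val h)))
  · exact Or.inr (Or.inl (key D.isConj_half (congrArg Subtype.val h)))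
  · exact Or.inr (Or.inr (key (D.isConj_invol_outer i) (congrArg Subtype.val h)))

theorem half_half_mem_centG (D : Data k x y z) :
    ((e (half k) (half k) : (S : Subgroup G)) : G) ∈ centG S :=
  coe_mem_map.2 (D.diag_mem_center _)

theorem orderOf_zeta (D : Data k x y z) :
    orderOf ((e (half k) (half k) : (S : Subgroup G)) : G) = 2 := by
  rw [Subgroup.orderOf_coe]
  exact D.orderOf_e_two (half_add_half k) (half_add_half k) (Or.inl (half_ne_zero k))

theorem orderOf_tau (D : Data k x y z) :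
    orderOf ((e (half k) 0 : (S : Subgroup G)) : G) = 2 := by
  rw [Subgroup.orderOf_coe]
  exact D.orderOf_e_two (half_add_half k) (add_zero 0) (Or.inl (half_ne_zero k))

theorem orderOf_sigma (D : Data k x y z) :
    orderOf ((e 0 0 * z : (S : Subgroup G)) : G) = 2 := by
  rw [Subgroup.orderOf_coe]
  have := D.orderOf_ez_two 0
  rwa [neg_zero] at this

/-- If `N(U)` acts like `S`, central elements of `S` are isolated in `S`. -/
theorem center_isolated (D : Data k x y z) (hB : ActsLike (S : Subgroup G) (baseG D)) {c g : G}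
    (hc : c ∈ centG S) (hg : g * c * g⁻¹ ∈ S) : g * c * g⁻¹ = c := by
  have hcS : ∀ s ∈ (S : Subgroup G), s * c * s⁻¹ = c := fun s hs => by
    rw [← centG_comm hc hs, mul_inv_cancel_right]
  refine invariant D (fun w => w = c) ?_ ?_ ?_ c g (map_subtype_le _ hc) hg rfl
  · intro s hs w _ hw; rw [hw]; exact hcS s hs
  · intro n hn w hw hw'
    obtain ⟨s, hs, hsw⟩ := hB n hn
    rw [hsw w hw, hw']; exact hcS s hs
  · intro i n hn w _ hw'
    rw [hw']; exact centralizes_center D i hn hc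

theorem not_isConj_zeta (D : Data k x y z) (hB : ActsLike (S : Subgroup G) (baseG D))
    {v : (S : Subgroup G)} (hv : v ≠ e (half k) (half k)) :
    ¬ IsConj ((e (half k) (half k) : (S : Subgroup G)) : G) (v : G) := by
  intro hc
  obtain ⟨g, hg⟩ := isConj_iff.1 hc
  have := center_isolated D hB (half_half_mem_centG D) (hg ▸ v.2)
  rw [hg] at this
  exact hv (Subtype.ext this)

/-- If `N(Q Z)` acts like `S`, involutions outside `U` are not fused to those inside. -/
theorem not_isConj_sigma (D : Data k x y z) (hW : ∀ i, ActsLike (S : Subgroup G) (qzG D i))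
    {v : (S : Subgroup G)} (hv : v ∈ D.base) (hv2 : orderOf v = 2) :
    ¬ IsConj (v : G) ((e 0 0 * z : (S : Subgroup G)) : G) := by
  intro hc
  obtain ⟨g, hg⟩ := isConj_iff.1 hc
  have := D.normal_base
  have hS : ∀ s ∈ S, ∀ w ∈ baseG D, s * w * s⁻¹ ∈ baseG D := fun s hs w hw =>
    (mem_normalizer_iff.1 (le_normalizer_of_normal D.base hs) w).1 hw
  have h := invariant D (fun w => orderOf w = 2 → w ∈ baseG D) ?_ ?_ ?_ (v : G) g v.2
    (hg ▸ (e 0 0 * z : (S : Subgroup G)).2) (fun _ => coe_mem_map.2 hv)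
  · rw [hg] at h
    exact D.ez_notMem 0 0 (coe_mem_map.1 (h (orderOf_sigma D)))
  · intro s hs w _ hw hord
    exact hS s hs w (hw ((MulEquiv.orderOf_eq (MulAut.conj s) w).symm.trans hord))
  · intro n hn w hw _ _
    exact (mem_normalizer_iff.1 hn w).1 hw
  · intro i n hn w hw hΦ hord
    obtain ⟨s, hs, hsw⟩ := hW i n hn
    rw [hsw w hw] at hord ⊢
    exact hS s hs w (hΦ ((MulEquiv.orderOf_eq (MulAut.conj s) w).symm.trans hord))

theorem isConj_zeta_tau (D : Data k x y z)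
    (h : (centralizer (baseG D : Set G)).relIndex (normalizer (baseG D : Set G)) = 6) :
    IsConj ((e (half k) (half k) : (S : Subgroup G)) : G)
      ((e (half k) 0 : (S : Subgroup G)) : G) := by
  obtain ⟨n, hn, -, hne, -⟩ := (base_three D).2 h
  have hz : ((e (half k) (half k) : (S : Subgroup G)) : G) ∈ omegaG D :=
    coe_mem_map.2 ⟨_, _, half_add_half k, half_add_half k, rfl⟩
  have hz1 : ((e (half k) (half k) : (S : Subgroup G)) : G) ≠ 1 := fun h' => by
    have := orderOf_zeta D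
    rw [h', orderOf_one] at this
    omega
  obtain ⟨v, ⟨a, b, ha, hb, rfl⟩, hvw⟩ := conj_mem_omega D hn hz
  have hconj : IsConj ((e (half k) (half k) : (S : Subgroup G)) : G)
      ((e a b : (S : Subgroup G)) : G) := isConj_iff.2 ⟨n, hvw.symm⟩
  rcases add_self_eq_zero ha with rfl | rfl <;> rcases add_self_eq_zero hb with rfl | rfl
  · rw [D.e_zero] at hconj
    exact absurd ((isConj_one_left.1 hconj)) hz1
  · obtain ⟨d, hd⟩ := isConj_iff.1 D.isConj_half
    exact hconj.trans (isConj_iff.2 ⟨(d : G), congrArg Subtype.val hd⟩ :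
      IsConj ((e (half k) 0 : (S : Subgroup G)) : G) ((e 0 (half k) : (S : Subgroup G)) : G)).symm
  · exact hconj
  · exact absurd hvw.symm (hne _ hz hz1)

theorem isConj_tau_sigma (D : Data k x y z) {i₀ : ZMod (2 ^ (k + 2))}
    (h : (qzG D i₀ ⊔ centralizer (qzG D i₀ : Set G)).relIndex
      (normalizer (qzG D i₀ : Set G)) = 6) :
    IsConj ((e (half k) 0 : (S : Subgroup G)) : G) ((e 0 0 * z : (S : Subgroup G)) : G) := by
  obtain ⟨n, hn, -, hne, -⟩ := (qz_three D i₀).2 h
  set τ : G := ((rep k x y z i₀ 0 : (S : Subgroup G)) : G) with hτdef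
  have hτ : τ = ((e (half k) 0 : (S : Subgroup G)) : G) := rfl
  have hτW : τ ∈ qzG D i₀ := rep_mem_qzG D i₀ 0
  have hτ' : n * τ * n⁻¹ ∈ qzG D i₀ := (mem_normalizer_iff.1 hn τ).1 hτW
  have hconj : IsConj τ (n * τ * n⁻¹) := isConj_iff.2 ⟨n, rfl⟩
  have hord : orderOf (⟨_, qzG_le D i₀ hτ'⟩ : (S : Subgroup G)) = 2 := by
    rw [← Subgroup.orderOf_coe]
    exact (MulEquiv.orderOf_eq (MulAut.conj n) τ).trans (orderOf_tau D)
  have hnot : n * τ * n⁻¹ ∉ centG S := fun hc => rep_notMem_center D i₀ 0 (coe_mem_map.1 (by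
    have h1 := centralizes_center D i₀ (inv_mem hn) hc
    rw [show n⁻¹ * (n * τ * n⁻¹) * n⁻¹⁻¹ = τ by group] at h1
    show τ ∈ centG S
    rw [h1]
    exact hc))
  rcases D.invol_cases hord with h' | h' | h' | ⟨i, h'⟩
  · have h'' : n * τ * n⁻¹ = _ := congrArg Subtype.val h'
    exact absurd (h'' ▸ half_half_mem_centG D) hnot
  · refine absurd ⟨1, one_mem _, ?_⟩ (hne 0)
    show τ * 1 = n * τ * n⁻¹
    rw [mul_one, show n * τ * n⁻¹ = _ from congrArg Subtype.val h', hτ]
  · refine absurd ⟨_, half_half_mem_centG D, ?_⟩ (hne 0)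
    show τ * ((e (half k) (half k) : (S : Subgroup G)) : G) = n * τ * n⁻¹
    rw [show n * τ * n⁻¹ = _ from congrArg Subtype.val h', hτ, ← Subgroup.coe_mul, D.mul_ee,
      half_add_half, zero_add]
  · obtain ⟨d, hd⟩ := isConj_iff.1 (D.isConj_invol_outer i)
    have h'' : n * τ * n⁻¹ = ((e i (-i) * z : (S : Subgroup G)) : G) := congrArg Subtype.val h'
    exact (h'' ▸ hconj : IsConj τ ((e i (-i) * z : (S : Subgroup G)) : G)).trans
      (isConj_iff.2 ⟨(d : G), congrArg Subtype.val hd⟩ :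
        IsConj ((e 0 0 * z : (S : Subgroup G)) : G)
          ((e i (-i) * z : (S : Subgroup G)) : G)).symm

theorem e_half_ne (D : Data k x y z) : e (half k) 0 ≠ e (half k) (half k) := fun h =>
  half_ne_zero k (D.e_inj h).2.symm

theorem card_invol_one (D : Data k x y z)
    (hzt : IsConj ((e (half k) (half k) : (S : Subgroup G)) : G)
      ((e (half k) 0 : (S : Subgroup G)) : G))
    (hts : IsConj ((e (half k) 0 : (S : Subgroup G)) : G) ((e 0 0 * z : (S : Subgroup G)) : G)) :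
    Nat.card {C : ConjClasses G // ∃ t : G, orderOf t = 2 ∧ ConjClasses.mk t = C} = 1 :=
  Classes.natCard_classes_eq_one _ (orderOf_zeta D) fun _ ht =>
    (class_invol D ht).elim id fun h => h.elim hzt.trans (hzt.trans hts).trans

theorem card_invol_two_isolated (D : Data k x y z) (hB : ActsLike (S : Subgroup G) (baseG D))
    (hts : IsConj ((e (half k) 0 : (S : Subgroup G)) : G) ((e 0 0 * z : (S : Subgroup G)) : G)) :
    Nat.card {C : ConjClasses G // ∃ t : G, orderOf t = 2 ∧ ConjClasses.mk t = C} = 2 :=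
  Classes.natCard_classes_eq_two _ _ (orderOf_zeta D) (orderOf_tau D)
    (not_isConj_zeta D hB (e_half_ne D))
    fun _ ht => (class_invol D ht).imp id fun h => h.elim id hts.trans

theorem card_invol_two_base (D : Data k x y z) (hW : ∀ i, ActsLike (S : Subgroup G) (qzG D i))
    (hzt : IsConj ((e (half k) (half k) : (S : Subgroup G)) : G)
      ((e (half k) 0 : (S : Subgroup G)) : G)) :
    Nat.card {C : ConjClasses G // ∃ t : G, orderOf t = 2 ∧ ConjClasses.mk t = C} = 2 :=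
  Classes.natCard_classes_eq_two _ _ (orderOf_zeta D) (orderOf_sigma D)
    (not_isConj_sigma D hW (D.e_mem_base _ _) (by rw [← Subgroup.orderOf_coe]; exact orderOf_zeta D))
    fun _ ht => (class_invol D ht).elim Or.inl fun h => h.imp hzt.trans id

theorem card_invol_three (D : Data k x y z) (hB : ActsLike (S : Subgroup G) (baseG D))
    (hW : ∀ i, ActsLike (S : Subgroup G) (qzG D i)) :
    Nat.card {C : ConjClasses G // ∃ t : G, orderOf t = 2 ∧ ConjClasses.mk t = C} = 3 :=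
  Classes.natCard_classes_eq_three _ _ _ (orderOf_zeta D) (orderOf_tau D) (orderOf_sigma D)
    (not_isConj_zeta D hB (e_half_ne D))
    (not_isConj_zeta D hB (D.ez_ne_e _ _ _ _))
    (not_isConj_sigma D hW (D.e_mem_base _ _) (by rw [← Subgroup.orderOf_coe]; exact orderOf_tau D))
    fun _ ht => class_invol D ht

theorem normalPComplement (D : Data k x y z) (hB : ActsLike (S : Subgroup G) (baseG D))
    (hW : ∀ i, ActsLike (S : Subgroup G) (qzG D i)) : Cfsg.HasNormalPComplement 2 G := by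
  refine Transfer.Fusion.hasNormalPComplement_of_controls S fun w hw g hgw => ?_
  have hR : ∀ R : Subgroup G, ActsLike (S : Subgroup G) R → ∀ n ∈ normalizer (R : Set G), ∀ u ∈ R,
      (∃ s ∈ S, s * w * s⁻¹ = u) → ∃ s ∈ S, s * w * s⁻¹ = n * u * n⁻¹ := by
    rintro R hR n hn u hu ⟨s, hs, rfl⟩
    obtain ⟨t, ht, htw⟩ := hR n hn
    exact ⟨t * s, mul_mem ht hs, by rw [htw _ hu]; group⟩
  exact invariant D (fun u => ∃ s ∈ S, s * w * s⁻¹ = u)
    (fun t ht u _ ⟨s, hs, hsu⟩ => ⟨t * s, mul_mem ht hs, by rw [← hsu]; group⟩)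
    (hR _ hB) (fun i => hR _ (hW i)) w g hw hgw ⟨1, one_mem _, by group⟩

/-! ### Normal subgroups -/

theorem commutator_le_quatSub (D : Data k x y z) :
    commutator (S : Subgroup G) ≤ D.quatSub := by
  rw [D.commutator_eq]
  exact zpowers_le.2 ⟨1, Or.inl rfl⟩

theorem commutator_le_base (D : Data k x y z) : commutator (S : Subgroup G) ≤ D.base := by
  rw [D.commutator_eq]
  exact zpowers_le.2 (D.e_mem_base _ _)

theorem inv_mul_conj_mem {T : Type*} [Group T] (v s : T) :
    v⁻¹ * (s * v * s⁻¹) ∈ commutator T := by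
  rw [show v⁻¹ * (s * v * s⁻¹) = ⁅v⁻¹, s⁆ by rw [commutatorElement_def]; group]
  exact commutator_mem_commutator (mem_top _) (mem_top _)

/-- A subgroup of `S` containing `S'` whose cosets are preserved by the two normalisers. -/
theorem exists_normal (D : Data k x y z) (M : Subgroup (S : Subgroup G))
    (hM : commutator (S : Subgroup G) ≤ M)
    (hB : ∀ n ∈ normalizer (baseG D : Set G), ∀ w ∈ baseG D,
      w⁻¹ * (n * w * n⁻¹) ∈ M.map (S : Subgroup G).subtype)
    (hW : ∀ i, ∀ n ∈ normalizer (qzG D i : Set G), ∀ w ∈ qzG D i,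
      w⁻¹ * (n * w * n⁻¹) ∈ M.map (S : Subgroup G).subtype) :
    ∃ K : Subgroup G, K.Normal ∧ (S : Subgroup G) ⊓ K = M.map (S : Subgroup G).subtype ∧
      K.index = M.index ∧ ¬ 2 ∣ (M.map (S : Subgroup G).subtype).relIndex K ∧
      ∀ u : G, (orderOf u).Coprime 2 → u ∈ K := by
  set M' := M.map (S : Subgroup G).subtype with hM'
  have hMS : M' ≤ S := map_subtype_le _
  have hS : ∀ s ∈ S, ∀ w ∈ S, w⁻¹ * (s * w * s⁻¹) ∈ M' := by
    intro s hs w hw
    exact ⟨(⟨w, hw⟩ : (S : Subgroup G))⁻¹ *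
      (⟨s, hs⟩ * ⟨w, hw⟩ * (⟨s, hs⟩ : (S : Subgroup G))⁻¹), hM (inv_mul_conj_mem _ _), rfl⟩
  have hstep : ∀ {u w n : G}, u⁻¹ * w ∈ M' → w⁻¹ * (n * w * n⁻¹) ∈ M' →
      u⁻¹ * (n * w * n⁻¹) ∈ M' := fun {u w n} h1 h2 => by
    have := mul_mem h1 h2
    rwa [mul_assoc, mul_inv_cancel_left] at this
  have hinv : ∀ u ∈ S, ∀ g : G, g * u * g⁻¹ ∈ S → u⁻¹ * (g * u * g⁻¹) ∈ M' := fun u hu g hgu =>
    invariant D (fun w => u⁻¹ * w ∈ M') (fun s hs w hw h => hstep h (hS s hs w hw))
      (fun n hn w hw h => hstep h (hB n hn w hw))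
      (fun i n hn w hw h => hstep h (hW i n hn w hw)) u g hu hgu
      (by rw [inv_mul_cancel]; exact one_mem _)
  obtain ⟨K, hK, hKS, hKi, hKodd⟩ := FusionCentric.exists_normal_of_invariant S M' hMS hinv
  have h2 : M'.relIndex (S : Subgroup G) = M.index := by
    rw [Subgroup.relIndex, hM', Subgroup.subgroupOf,
      Subgroup.comap_map_eq_self_of_injective (Subgroup.subtype_injective _)]
  exact ⟨K, hK, hKS, hKi.trans h2, not_dvd_relIndex S (hKS ▸ inf_le_right) hMS hKi, hKodd⟩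

theorem sylow_equiv {M : Subgroup (S : Subgroup G)} {K : Subgroup G} [K.Normal]
    (hKS : (S : Subgroup G) ⊓ K = M.map (S : Subgroup G).subtype) (P : Sylow 2 K) :
    Nonempty ((P : Subgroup K) ≃* M) := by
  obtain ⟨f⟩ := FusionCentric.sylow_subgroup_equiv S K P
  exact ⟨(f.trans (MulEquiv.subgroupCongr hKS)).trans
    (M.equivMapOfInjective _ (S : Subgroup G).subtype_injective).symm⟩

theorem quatSub_normalizer (D : Data k x y z) (i : ZMod (2 ^ (k + 2)))
    {w : (S : Subgroup G)} (hw : w ∈ qzSub D i) (hwc : w ∉ center (S : Subgroup G)) :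
    ∃ d, w * w = e d d ∧ (e (d + half k) 0)⁻¹ * w ∈ D.quatSub := by
  have hh := half_add_half k
  obtain ⟨c, t, ht, rfl | rfl⟩ := hw
  · rcases add_self_eq_zero ht with rfl | rfl
    · exact absurd (by rw [add_zero]; exact D.diag_mem_center c) hwc
    · refine ⟨c + c, ?_, ⟨-c, Or.inl ?_⟩⟩
      · rw [D.mul_ee]; congr 1; linear_combination hh
      · rw [D.e_inv, D.mul_ee]; congr 1 <;> ring
  · refine ⟨c + c + t + half k, ?_, ⟨i - c, Or.inr ?_⟩⟩
    · rw [D.sq_ez]; congr 1 <;> ring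
    · rw [D.e_inv, D.mul_eez]
      congr 2 <;> first
        | linear_combination -hh
        | linear_combination (0 : ZMod (2 ^ (k + 2))) * hh

theorem exists_normal_quat (D : Data k x y z) (hB : ActsLike (S : Subgroup G) (baseG D)) :
    ∃ K : Subgroup G, K.Normal ∧ (S : Subgroup G) ⊓ K = D.quatSub.map (S : Subgroup G).subtype ∧
      K.index = 2 ^ (k + 2) ∧ ¬ 2 ∣ (D.quatSub.map (S : Subgroup G).subtype).relIndex K ∧
      ∀ u : G, (orderOf u).Coprime 2 → u ∈ K := by
  have hidx : D.quatSub.index = 2 ^ (k + 2) := by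
    have h := D.quatSub.card_mul_index
    rw [D.card_quatSub, D.card_eq] at h
    exact Nat.eq_of_mul_eq_mul_left (Nat.two_pow_pos (k + 3)) (h.trans (by ring))
  rw [← hidx]
  refine exists_normal D D.quatSub (commutator_le_quatSub D) ?_ ?_
  · intro n hn w hw
    obtain ⟨s, hs, hsw⟩ := hB n hn
    obtain ⟨v, hvb, rfl⟩ := hw
    show (v : G)⁻¹ * (n * (v : G) * n⁻¹) ∈ _
    rw [hsw _ (coe_mem_map.2 hvb)]
    exact ⟨v⁻¹ * (⟨s, hs⟩ * v * (⟨s, hs⟩ : (S : Subgroup G))⁻¹),
      commutator_le_quatSub D (inv_mul_conj_mem _ _), rfl⟩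
  · intro i n hn w hw
    obtain ⟨v, hv, rfl⟩ := hw
    by_cases hvc : v ∈ center (S : Subgroup G)
    · have h1 : n * (v : G) * n⁻¹ = (v : G) := centralizes_center D i hn (coe_mem_map.2 hvc)
      show (v : G)⁻¹ * (n * (v : G) * n⁻¹) ∈ _
      rw [h1, inv_mul_cancel]
      exact one_mem _
    obtain ⟨v', hv', hv'w⟩ : n * (v : G) * n⁻¹ ∈ qzG D i :=
      (mem_normalizer_iff.1 hn _).1 (coe_mem_map.2 hv)
    have hv'c : v' ∉ center (S : Subgroup G) := fun hc => hvc (coe_mem_map.1 (by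
      have h1 := centralizes_center D i (inv_mem hn) (coe_mem_map.2 hc)
      have h2 : ((v' : (S : Subgroup G)) : G) = n * (v : G) * n⁻¹ := hv'w
      rw [h2, show n⁻¹ * (n * (v : G) * n⁻¹) * n⁻¹⁻¹ = (v : G) by group] at h1
      rw [h1]; exact h2 ▸ coe_mem_map.2 hc))
    obtain ⟨d, hd, hq⟩ := quatSub_normalizer D i hv hvc
    obtain ⟨d', hd', hq'⟩ := quatSub_normalizer D i hv' hv'c
    have hdd : e d' d' = e d d := Subtype.ext (by
      rw [← hd, ← hd', Subgroup.coe_mul, Subgroup.coe_mul,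
        show ((v' : (S : Subgroup G)) : G) = n * (v : G) * n⁻¹ from hv'w, conj_mul,
        ← Subgroup.coe_mul, hd]
      exact centralizes_center D i hn (coe_mem_map.2 (D.diag_mem_center d)))
    obtain rfl := (D.e_inj hdd).1
    refine ⟨v⁻¹ * v', ?_, ?_⟩
    · have := mul_mem (inv_mem hq) hq'
      rwa [mul_inv_rev, inv_inv, mul_assoc, mul_inv_cancel_left] at this
    · show (v : G)⁻¹ * (v' : G) = _
      rw [show ((v' : (S : Subgroup G)) : G) = n * (v : G) * n⁻¹ from hv'w]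
      rfl

theorem exists_normal_base (D : Data k x y z) (hW : ∀ i, ActsLike (S : Subgroup G) (qzG D i)) :
    ∃ K : Subgroup G, K.Normal ∧ (S : Subgroup G) ⊓ K = baseG D ∧
      K.index = 2 ∧ ¬ 2 ∣ (baseG D).relIndex K ∧ ∀ u : G, (orderOf u).Coprime 2 → u ∈ K := by
  suffices h : ∃ K : Subgroup G, K.Normal ∧ (S : Subgroup G) ⊓ K = baseG D ∧
      K.index = D.base.index ∧ ¬ 2 ∣ (baseG D).relIndex K ∧
        ∀ u : G, (orderOf u).Coprime 2 → u ∈ K by
    obtain ⟨K, h1, h2, h3, h4, h5⟩ := h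
    exact ⟨K, h1, h2, h3.trans D.index_base, h4, h5⟩
  refine exists_normal D D.base (commutator_le_base D) ?_ ?_
  · intro n hn w hw
    exact mul_mem (inv_mem hw) ((mem_normalizer_iff.1 hn w).1 hw)
  · intro i n hn w hw
    obtain ⟨s, hs, hsw⟩ := hW i n hn
    obtain ⟨v, hv, rfl⟩ := hw
    show (v : G)⁻¹ * (n * (v : G) * n⁻¹) ∈ _
    rw [hsw _ (coe_mem_map.2 hv)]
    exact ⟨v⁻¹ * (⟨s, hs⟩ * v * (⟨s, hs⟩ : (S : Subgroup G))⁻¹),
      commutator_le_base D (inv_mul_conj_mem _ _), rfl⟩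

/-- `U` lies in every subgroup of index two of a subgroup containing the odd elements. -/
theorem base_mem (D : Data k x y z)
    (h : (centralizer (baseG D : Set G)).relIndex (normalizer (baseG D : Set G)) = 6)
    {K H : Subgroup G} (hK : ∀ u : G, (orderOf u).Coprime 2 → u ∈ K) (hH : H.relIndex K = 2)
    {u : G} (hu : u ∈ baseG D) (huK : u ∈ K) : u ∈ H := by
  obtain ⟨n, -, hodd, -, hprod⟩ := (base_three D).2 h
  exact mem_of_product_mem hH (hK n (Nat.coprime_two_right.2 hodd)) huK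
    ((hprod u hu).symm ▸ one_mem _)

/-- The outer elements `e i (half - i) * z` lie in every subgroup of index two of a subgroup
containing the odd elements, up to the centre. -/
theorem outer_mem (D : Data k x y z) {i₀ : ZMod (2 ^ (k + 2))}
    (h : (qzG D i₀ ⊔ centralizer (qzG D i₀ : Set G)).relIndex
      (normalizer (qzG D i₀ : Set G)) = 6)
    {K H : Subgroup G} (hK : ∀ u : G, (orderOf u).Coprime 2 → u ∈ K) (hH : H.relIndex K = 2)
    (hZ : ∀ c ∈ centG S, c ∈ K → c ∈ H) (i : ZMod (2 ^ (k + 2)))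
    (hiK : ((e i (half k - i) * z : (S : Subgroup G)) : G) ∈ K) :
    ((e i (half k - i) * z : (S : Subgroup G)) : G) ∈ H := by
  obtain ⟨n, hn, hodd, -, hprod⟩ := (qz_three D i₀).2 h
  set d : G := ((e (i - i₀) 0 : (S : Subgroup G)) : G) with hd
  set r : G := ((rep k x y z i₀ 1 : (S : Subgroup G)) : G) with hr
  have hdr : d * r * d⁻¹ = ((e i (half k - i) * z : (S : Subgroup G)) : G) :=
    congrArg Subtype.val (D.conj_outer i₀ i (half k))
  have hn' : d * n * d⁻¹ ∈ K :=
    hK _ ((MulEquiv.orderOf_eq (MulAut.conj d) n) ▸ Nat.coprime_two_right.2 hodd)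
  refine mem_of_product_mem hH hn' hiK ?_
  rw [← hdr] at hiK ⊢
  have hp : d * r * d⁻¹ * (d * n * d⁻¹ * (d * r * d⁻¹) * (d * n * d⁻¹)⁻¹) *
      (d * n * d⁻¹ * (d * n * d⁻¹) * (d * r * d⁻¹) * (d * n * d⁻¹ * (d * n * d⁻¹))⁻¹) =
      r * (n * r * n⁻¹) * (n * n * r * (n * n)⁻¹) := by
    calc _ = d * (r * (n * r * n⁻¹) * (n * n * r * (n * n)⁻¹)) * d⁻¹ := by group
      _ = _ := by rw [← centG_comm (hprod 1) (e (i - i₀) 0).2, mul_inv_cancel_right]
  have hmemK : d * r * d⁻¹ * (d * n * d⁻¹ * (d * r * d⁻¹) * (d * n * d⁻¹)⁻¹) *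
      (d * n * d⁻¹ * (d * n * d⁻¹) * (d * r * d⁻¹) * (d * n * d⁻¹ * (d * n * d⁻¹))⁻¹) ∈ K :=
    mul_mem (mul_mem hiK (mul_mem (mul_mem hn' hiK) (inv_mem hn')))
      (mul_mem (mul_mem (mul_mem hn' hn') hiK) (inv_mem (mul_mem hn' hn')))
  rw [hp] at hmemK ⊢
  exact hZ _ (hprod 1) hmemK

theorem no_index_two (D : Data k x y z)
    (hB : (centralizer (baseG D : Set G)).relIndex (normalizer (baseG D : Set G)) = 6)
    {i₀ : ZMod (2 ^ (k + 2))}
    (hW : (qzG D i₀ ⊔ centralizer (qzG D i₀ : Set G)).relIndex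
      (normalizer (qzG D i₀ : Set G)) = 6)
    (H : Subgroup G) : H.index ≠ 2 := by
  intro hH
  have hrel : H.relIndex ⊤ = 2 := by rw [relIndex_top_right]; exact hH
  have hbase : ∀ v ∈ D.base, (v : G) ∈ H := fun v hv =>
    base_mem D hB (fun _ _ => mem_top _) hrel (coe_mem_map.2 hv) (mem_top _)
  have hout : ∀ i, ((e i (half k - i) * z : (S : Subgroup G)) : G) ∈ H := fun i => by
    refine outer_mem D hW (fun _ _ => mem_top _) hrel (fun c hc _ => ?_) i (mem_top _)
    obtain ⟨c, hc, rfl⟩ := hc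
    obtain ⟨a, rfl⟩ := D.mem_center_iff_diag.1 hc
    exact hbase _ (D.e_mem_base _ _)
  have hle : (S : Subgroup G) ≤ H := by
    intro s hs
    rcases D.cases (⟨s, hs⟩ : (S : Subgroup G)) with ⟨a, b, h⟩ | ⟨a, b, h⟩
    · rw [show s = _ from congrArg Subtype.val h]
      exact hbase _ (D.e_mem_base a b)
    · have hm := mul_mem (hbase _ (D.e_mem_base (a - 0) (b - (half k - 0)))) (hout 0)
      rw [← Subgroup.coe_mul, D.mul_eez, sub_add_cancel, sub_add_cancel] at hm
      rw [show s = _ from congrArg Subtype.val h]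
      exact hm
  have h3 := Subgroup.index_dvd_of_le hle
  rw [hH] at h3
  exact S.not_dvd_index h3

theorem no_index_two_quat (D : Data k x y z) {i₀ : ZMod (2 ^ (k + 2))}
    (hW : (qzG D i₀ ⊔ centralizer (qzG D i₀ : Set G)).relIndex
      (normalizer (qzG D i₀ : Set G)) = 6)
    {K : Subgroup G} (hKS : (S : Subgroup G) ⊓ K = D.quatSub.map (S : Subgroup G).subtype)
    (hodd : ¬ 2 ∣ (D.quatSub.map (S : Subgroup G).subtype).relIndex K)
    (hK : ∀ u : G, (orderOf u).Coprime 2 → u ∈ K) (H : Subgroup ↥K) : H.index ≠ 2 := by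
  intro hH
  have hrel : (H.map K.subtype).relIndex K = 2 := by
    rw [Subgroup.relIndex, Subgroup.subgroupOf,
      Subgroup.comap_map_eq_self_of_injective (Subgroup.subtype_injective _)]; exact hH
  have hiK : ∀ i, ((e i (half k - i) * z : (S : Subgroup G)) : G) ∈ K := fun i =>
    (hKS.ge ⟨_, ⟨i, Or.inr rfl⟩, rfl⟩ : _ ∈ (S : Subgroup G) ⊓ K).2
  have hsq : ∀ i, ((e i (half k - i) * z : (S : Subgroup G)) : G) *
      ((e i (half k - i) * z : (S : Subgroup G)) : G) ∈ H.map K.subtype := fun i => by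
    have h2 := Subgroup.mul_mem_iff_of_index_two hH (a := ⟨_, hiK i⟩) (b := ⟨_, hiK i⟩)
    exact ⟨_, h2.2 Iff.rfl, rfl⟩
  have hout : ∀ i, ((e i (half k - i) * z : (S : Subgroup G)) : G) ∈ H.map K.subtype := fun i => by
    refine outer_mem D hW hK hrel (fun c hc hcK => ?_) i (hiK i)
    obtain ⟨v, hv, hvc⟩ : c ∈ D.quatSub.map (S : Subgroup G).subtype :=
      hKS.le ⟨map_subtype_le _ hc, hcK⟩
    obtain ⟨w, hw, hwc⟩ := hc
    obtain rfl : v = w := Subtype.ext (hvc.trans hwc.symm)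
    obtain ⟨a, rfl⟩ := D.mem_center_iff_diag.1 hw
    rw [← hwc]
    obtain ⟨j, hj | hj⟩ := hv
    · obtain ⟨h1, h2⟩ := D.e_inj hj
      rcases add_self_eq_zero (show a + a = 0 by linear_combination h1 + h2) with rfl | rfl
      · rw [D.e_zero]; exact one_mem _
      · have := hsq 0
        rw [← Subgroup.coe_mul, D.sq_ez, add_sub_cancel] at this
        exact this
    · exact absurd hj.symm (D.ez_ne_e _ _ _ _)
  refine index_two_absurd hodd H hH fun v hv => ?_
  suffices h : (v : G) ∈ H.map K.subtype by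
    obtain ⟨w, hw, hwv⟩ := h
    exact (Subtype.ext hwv : w = v) ▸ hw
  obtain ⟨w, hw, hwv⟩ := mem_subgroupOf.1 hv
  rw [← hwv]
  obtain ⟨j, rfl | rfl⟩ := hw
  · have := mul_mem (hout j) (inv_mem (hout 0))
    rw [← Subgroup.coe_inv, ← Subgroup.coe_mul, mul_inv_rev, mul_assoc, mul_inv_cancel_left,
      D.e_inv, D.mul_ee] at this
    simpa [sub_eq_add_neg] using this
  · exact hout j

theorem no_index_two_base (D : Data k x y z)
    (hB : (centralizer (baseG D : Set G)).relIndex (normalizer (baseG D : Set G)) = 6)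
    {K : Subgroup G} (hodd : ¬ 2 ∣ (baseG D).relIndex K)
    (hK : ∀ u : G, (orderOf u).Coprime 2 → u ∈ K) (H : Subgroup ↥K) : H.index ≠ 2 := by
  intro hH
  have hrel : (H.map K.subtype).relIndex K = 2 := by
    rw [Subgroup.relIndex, Subgroup.subgroupOf,
      Subgroup.comap_map_eq_self_of_injective (Subgroup.subtype_injective _)]; exact hH
  refine index_two_absurd hodd H hH fun v hv => ?_
  obtain ⟨w, hw, hwv⟩ := base_mem D hB hK hrel hv v.2
  exact (Subtype.ext hwv : w = v) ▸ hw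

theorem weaklyClosed (D : Data k x y z) (hB : ActsLike (S : Subgroup G) (baseG D))
    (Z₀ : Subgroup G) (hZ : Z₀ ≤ centG S) : Cfsg.IsWeaklyClosed Z₀ (S : Subgroup G) := by
  refine ⟨hZ.trans (map_subtype_le _), fun g hg => ?_⟩
  have key : ∀ w ∈ Z₀, g * w * g⁻¹ = w := fun w hw =>
    center_isolated D hB (hZ hw) (hg ⟨w, hw, rfl⟩)
  ext w
  constructor
  · rintro ⟨v, hv, rfl⟩
    show g * v * g⁻¹ ∈ Z₀
    rw [key v hv]; exact hv
  · exact fun hw => ⟨w, hw, key w hw⟩

end Cfsg.Agent.Lib.TwoGroups.WreathedFusion
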