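import Mathlib
import Cfsg.Prelude.Def_CaseTheorems
import Cfsg.Prelude.Def_Transfer
import Cfsg.Agent.Lib.TwoGroups.QDFusion
import Cfsg.Agent.Lib.TwoGroups.WreathedFusion

/-!
Groups with quasi-dihedral or wreathed Sylow 2-subgroups and no subgroup of index two:
one class of involutions, and the fusion in the centraliser of an involution.
-/

set_option autoImplicit false
set_option linter.unusedSectionVars false

namespace Cfsg.Agent.Lib.TwoGroups.NoIndexTwo

open Subgroup Cfsg.Agent.Lib.TwoGroups.Recognition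

/-! ### Transport along isomorphisms -/

section Transport

variable {A B : Type*} [Group A] [Group B]

theorem map_powZ (f : A ≃* B) (N : ℕ) (a : A) (i : ZMod N) :
    f (powZ N a i) = powZ N (f a) i := map_pow f _ _

theorem qd_map (f : A ≃* B) {k : ℕ} {x y : A} (D : QuasiDihedral.QD k x y) :
    QuasiDihedral.QD k (f x) (f y) := by
  refine ⟨D.pos, (MulEquiv.orderOf_eq f x).trans D.orderOf_x,
    (Nat.card_congr f.toEquiv).symm.trans D.card_eq, fun h => D.notMem ?_, ?_, ?_⟩
  · rw [mem_zpowers_iff] at h ⊢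
    obtain ⟨n, hn⟩ := h
    exact ⟨n, f.injective (by rw [map_zpow, hn])⟩
  · rw [← map_powZ, ← D.conj_eq]; simp
  · rw [← map_powZ, ← D.sq_eq, map_mul]

theorem wreathed_map (f : A ≃* B) {k : ℕ} {x y z : A} (D : Wreathed.Data k x y z) :
    Wreathed.Data k (f x) (f y) (f z) := by
  refine ⟨(Nat.card_congr f.toEquiv).symm.trans D.card_eq,
    (MulEquiv.orderOf_eq f x).trans D.orderOf_x, D.comm.map f, ?_,
    (MulEquiv.orderOf_eq f z).trans D.orderOf_z, by rw [← D.conj_eq]; simp⟩
  rw [eq_bot_iff]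
  intro b hb
  obtain ⟨⟨n, hn⟩, ⟨m, hm⟩⟩ := hb
  have h1 : x ^ n = y ^ m := f.injective (by
    rw [map_zpow, map_zpow]; exact hn.trans hm.symm)
  have h2 : x ^ n ∈ zpowers x ⊓ zpowers y := ⟨⟨n, rfl⟩, ⟨m, h1.symm⟩⟩
  rw [D.disjoint, mem_bot] at h2
  rw [mem_bot, ← hn]
  show f x ^ n = 1
  rw [← map_zpow, h2, map_one]

theorem isQuasiDihedral_map (f : A ≃* B) (h : Cfsg.IsQuasiDihedral A) :
    Cfsg.IsQuasiDihedral B := by
  obtain ⟨n, hn, hcard, x, y, hx, hy, hxy⟩ := h
  refine ⟨n, hn, (Nat.card_congr f.toEquiv).symm.trans hcard, f x, f y,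
    (MulEquiv.orderOf_eq f x).trans hx, (MulEquiv.orderOf_eq f y).trans hy, ?_⟩
  rw [← map_pow, ← hxy]
  simp

theorem isWreathed_map (f : A ≃* B) (h : Cfsg.IsWreathed A) : Cfsg.IsWreathed B := by
  obtain ⟨n, hn, hcard, x, y, z, hx, hxy, hd, hz, hzx⟩ := h
  refine ⟨n, hn, (Nat.card_congr f.toEquiv).symm.trans hcard, f x, f y, f z,
    (MulEquiv.orderOf_eq f x).trans hx, Commute.map hxy f, ?_, (MulEquiv.orderOf_eq f z).trans hz,
    by rw [← hzx]; simp⟩
  rw [eq_bot_iff]
  intro b hb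
  obtain ⟨⟨n', hn'⟩, ⟨m, hm⟩⟩ := hb
  have h1 : x ^ n' = y ^ m := f.injective (by
    rw [map_zpow, map_zpow]; exact hn'.trans hm.symm)
  have h2 : x ^ n' ∈ zpowers x ⊓ zpowers y := ⟨⟨n', rfl⟩, ⟨m, h1.symm⟩⟩
  rw [hd, mem_bot] at h2
  rw [mem_bot, ← hn']
  show f x ^ n' = 1
  rw [← map_zpow, h2, map_one]

end Transport

/-! ### Index two -/

variable {G : Type*} [Group G] [Finite G]

/-- A proper normal subgroup of 2-power index gives a subgroup of index two. -/
theorem exists_index_two_of_pow {K : Subgroup G} [K.Normal] {m : ℕ} (hK : K.index = 2 ^ (m + 1)) :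
    ∃ H : Subgroup G, H.index = 2 := by
  have : Fact (Nat.Prime 2) := ⟨Nat.prime_two⟩
  have hcard : Nat.card (G ⧸ K) = 2 ^ (m + 1) := hK
  obtain ⟨H, hH⟩ := Sylow.exists_subgroup_card_pow_prime (G := G ⧸ K) (n := m) 2
    (by rw [hcard]; exact pow_dvd_pow 2 (Nat.le_succ m))
  refine ⟨H.comap (QuotientGroup.mk' K), ?_⟩
  rw [Subgroup.index_comap_of_surjective _ (QuotientGroup.mk'_surjective K)]
  have h4 := Subgroup.card_mul_index H
  rw [hcard, hH, pow_succ] at h4
  exact Nat.eq_of_mul_eq_mul_left (by positivity) h4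

/-! ### Quasi-dihedral -/

section QD

open Cfsg.Agent.Lib.TwoGroups.QuasiDihedral Cfsg.Agent.Lib.TwoGroups.CyclicIndexTwo

variable {S : Sylow 2 G} {k : ℕ} {x y : (S : Subgroup G)}

local notation "c" => powZ (2 ^ (k + 3)) x

theorem exists_four (D : QD k x y) :
    ∃ T : Subgroup G, IsKleinFour T ∧ T ≤ S := by
  have ha : orderOf (c (half k)) = 2 := orderOf_half D
  have hb : y * y = 1 := by rw [D.sq_eq, powZ_zero]
  have hab : y * c (half k) * y⁻¹ = (c (half k))⁻¹ := by
    rw [D.conj_y_c, D.powZ_inv]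
    congr 1
    linear_combination half_mul_even (par_half k)
  have hmem : y ∉ zpowers (c (half k)) := fun h =>
    D.notMem (zpowers_le.2 (powZ_mem_zpowers _ x _) h)
  have hinj := dihedralHom_injective (m := 2) ha hb hab hmem
  set f := dihedralHom (m := 2) (pow_eq_one_of_orderOf ha) hb hab
  refine ⟨f.range.map (S : Subgroup G).subtype, isKleinFour_of_card ?_ ?_, map_subtype_le _⟩
  · rw [card_map_of_injective (S : Subgroup G).subtype_injective,
      ← Nat.card_congr (MonoidHom.ofInjective hinj).toEquiv, DihedralGroup.nat_card]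
  · rintro _ ⟨_, ⟨d, rfl⟩, rfl⟩
    rw [← map_mul, ← map_mul, IsKleinFour.mul_self, map_one, map_one]

theorem exists_quat (D : QD k x y) :
    ∃ Q : Subgroup G, Q ≤ S ∧ Nonempty (Q ≃* QuaternionGroup 2) := by
  have ha : orderOf (c (quarter k)) = 2 * 2 := orderOf_quarter D
  have hb : c 1 * y * (c 1 * y) = c (quarter k) ^ 2 := by
    rw [sq_outer D, half_mul_odd (map_one _), pow_two, D.mul_cc, quarter_add_quarter]
  have hab : c 1 * y * c (quarter k) * (c 1 * y)⁻¹ = (c (quarter k))⁻¹ := by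
    rw [D.conj_yc_c, D.powZ_inv]
    congr 1
    linear_combination half_mul_even (par_quarter k)
  have hmem : c 1 * y ∉ zpowers (c (quarter k)) := fun h =>
    D.mul_notMem 1 (zpowers_le.2 (powZ_mem_zpowers _ x _) h)
  have hinj := quaternionHom_injective (m := 2) ha hb hab hmem
  set f := quaternionHom (m := 2) (pow_eq_one_of_orderOf ha) hb hab
  exact ⟨f.range.map (S : Subgroup G).subtype, map_subtype_le _,
    ⟨((f.range.equivMapOfInjective _ (S : Subgroup G).subtype_injective).symm).trans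
      (MonoidHom.ofInjective hinj).symm⟩⟩

/-- Without a subgroup of index two both automisers are transitive. -/
theorem qd_six (D : QD k x y) (hG : ∀ H : Subgroup G, H.index ≠ 2) {T Q : Subgroup G}
    (hT : IsKleinFour T) (hTS : T ≤ S) (e : Q ≃* QuaternionGroup 2) (hQS : Q ≤ S) :
    (centralizer (T : Set G)).relIndex (normalizer (T : Set G)) = 6 ∧
      (Q ⊔ centralizer (Q : Set G)).relIndex (normalizer (Q : Set G)) = 6 := by
  constructor
  · refine (QDFusion.relIndex_four D hT hTS).resolve_left fun h => ?_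
    obtain ⟨K, -, -, hKi, -, -⟩ := QDFusion.exists_index_two D 1
      (fun T' a b => Or.inl (QDFusion.actsLike_all_four D hT hTS h T' a b))
      (fun Q' ⟨e'⟩ b => Or.inr (QDFusion.quat_le_maxSub D e' b))
    exact hG K hKi
  · refine (QDFusion.relIndex_quat D e hQS).resolve_left fun h => ?_
    obtain ⟨K, -, -, hKi, -, -⟩ := QDFusion.exists_index_two D 0
      (fun T' a b => Or.inr (QDFusion.four_le_maxSub D a b))
      (fun Q' ⟨e'⟩ b => Or.inl (QDFusion.actsLike_all_quat D e hQS h Q' e' b))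
    exact hG K hKi

theorem qd_one_class (D : QD k x y) (hG : ∀ H : Subgroup G, H.index ≠ 2) {t : G}
    (ht : orderOf t = 2) : IsConj (c (half k) : G) t := by
  obtain ⟨T, hT, hTS⟩ := exists_four D
  obtain ⟨Q, hQS, ⟨e⟩⟩ := exists_quat D
  have h := QDFusion.isConj_invol D hT hTS (qd_six D hG hT hTS e hQS).1
  exact (QDFusion.class_invol D ht).elim id h.trans

/-- When the central involution is central in `G`, only the quaternion automiser is transitive. -/
theorem qd_central (D : QD k x y) (hz : (c (half k) : G) ∈ center G)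
    (hfour : IsConj (c (quarter k) : G) ((c 1 * y : (S : Subgroup G)) : G)) :
    (∃ K : Subgroup G, K.Normal ∧ (∃ a : ℕ, K.index = 2 ^ a) ∧
      (∀ H : Subgroup ↥K, H.index ≠ 2) ∧
      (∀ P : Sylow 2 ↥K, ∃ m : ℕ, 1 ≤ m ∧
        Nonempty ((P : Subgroup ↥K) ≃* QuaternionGroup (2 ^ m)))) ∧
      ∀ Z₀ : Subgroup G, Z₀ ≤ ((center (S : Subgroup G)).map (S : Subgroup G).subtype) →
        Cfsg.IsWeaklyClosed Z₀ (S : Subgroup G) := by
  obtain ⟨T, hT, hTS⟩ := exists_four D
  obtain ⟨Q, hQS, ⟨e⟩⟩ := exists_quat D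
  have h₁ : (centralizer (T : Set G)).relIndex (normalizer (T : Set G)) = 2 :=
    (QDFusion.relIndex_four D hT hTS).resolve_right fun h => by
      obtain ⟨g, hg⟩ := isConj_iff.1 (QDFusion.isConj_invol D hT hTS h)
      rw [mem_center_iff.1 hz g, mul_inv_cancel_right] at hg
      exact D.mul_ne_powZ 0 (half k) (Subtype.ext hg.symm)
  have h₂ : (Q ⊔ centralizer (Q : Set G)).relIndex (normalizer (Q : Set G)) = 6 :=
    (QDFusion.relIndex_quat D e hQS).resolve_left fun h =>
      QDFusion.not_isConj_four D e hQS h hfour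
  refine ⟨?_, fun Z₀ hZ₀ => ?_⟩
  · obtain ⟨K, hK, hKS, hKi, hodd, hKodd⟩ := QDFusion.exists_index_two D 1
      (fun T' a b => Or.inl (QDFusion.actsLike_all_four D hT hTS h₁ T' a b))
      (fun Q' ⟨e'⟩ b => Or.inr (QDFusion.quat_le_maxSub D e' b))
    refine ⟨K, hK, ⟨1, hKi.trans (pow_one 2).symm⟩, QDFusion.no_index_two_sub D 1 hKS hodd
      fun H hH i hi hiK => QDFusion.odd_mem D e hQS h₂ hKodd hH hi hiK,
      fun P => ⟨k + 1, by omega, ?_⟩⟩
    obtain ⟨f⟩ := QDFusion.maxSub_equiv D 1 hKS P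
    obtain ⟨g⟩ := quaternion_maxSub D
    exact ⟨f.trans g⟩
  · refine ⟨hZ₀.trans (map_subtype_le _), fun g _ => ?_⟩
    ext w
    have hc : ∀ w ∈ Z₀, g * w * g⁻¹ = w := fun w hw => by
      obtain ⟨v, hv, rfl⟩ := hZ₀ hw
      rw [center_eq D] at hv
      obtain ⟨n, rfl⟩ := mem_zpowers_iff.1 hv
      have hm : ((c (half k) ^ n : (S : Subgroup G)) : G) ∈ center G := by
        rw [SubgroupClass.coe_zpow]; exact zpow_mem hz n
      show g * ((c (half k) ^ n : (S : Subgroup G)) : G) * g⁻¹ = _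
      rw [mem_center_iff.1 hm g, mul_inv_cancel_right]
      rfl
    constructor
    · rintro ⟨v, hv, rfl⟩
      show g * v * g⁻¹ ∈ Z₀
      rw [hc v hv]; exact hv
    · exact fun hw => ⟨w, hw, hc w hw⟩

end QD

/-! ### Wreathed -/

section Wreathed

open Cfsg.Agent.Lib.TwoGroups.Wreathed Cfsg.Agent.Lib.TwoGroups.WreathedLocal

variable {S : Sylow 2 G} {k : ℕ} {x y z : (S : Subgroup G)}

local notation "e" => el k x y

/-- Without a subgroup of index two both automisers are transitive. -/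
theorem wreathed_six (D : Wreathed.Data k x y z) (hG : ∀ H : Subgroup G, H.index ≠ 2)
    (i : ZMod (2 ^ (k + 2))) :
    (centralizer (baseG D : Set G)).relIndex (normalizer (baseG D : Set G)) = 6 ∧
      (qzG D i ⊔ centralizer (qzG D i : Set G)).relIndex (normalizer (qzG D i : Set G)) = 6 := by
  constructor
  · refine (base_relIndex D).resolve_left fun h => ?_
    obtain ⟨K, hK, -, hKi, -, -⟩ :=
      WreathedFusion.exists_normal_quat D (actsLike_base D h)
    obtain ⟨H, hH⟩ := exists_index_two_of_pow (m := k + 1) hKi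
    exact hG H hH
  · refine (qz_relIndex D i).resolve_left fun h => ?_
    obtain ⟨K, -, -, hKi, -, -⟩ :=
      WreathedFusion.exists_normal_base D (actsLike_qz D h)
    exact hG K hKi

theorem wreathed_one_class (D : Wreathed.Data k x y z) (hG : ∀ H : Subgroup G, H.index ≠ 2)
    {t : G} (ht : orderOf t = 2) :
    IsConj ((e (half k) (half k) : (S : Subgroup G)) : G) t := by
  obtain ⟨h₁, h₂⟩ := wreathed_six D hG 0
  have hzt := WreathedFusion.isConj_zeta_tau D h₁
  have hts := WreathedFusion.isConj_tau_sigma D h₂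
  exact (WreathedFusion.class_invol D ht).elim id
    fun h => h.elim hzt.trans (hzt.trans hts).trans

/-- When the central involution is central in `G`, only the `Q * Z` automiser is transitive. -/
theorem wreathed_central (D : Wreathed.Data k x y z)
    (hz : ((e (half k) (half k) : (S : Subgroup G)) : G) ∈ center G)
    (hts : IsConj ((e (half k) 0 : (S : Subgroup G)) : G) ((e 0 0 * z : (S : Subgroup G)) : G)) :
    (∃ K : Subgroup G, K.Normal ∧ (∃ a : ℕ, K.index = 2 ^ a) ∧
      (∀ H : Subgroup ↥K, H.index ≠ 2) ∧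
      (∀ P : Sylow 2 ↥K, ∃ m : ℕ, 1 ≤ m ∧
        Nonempty ((P : Subgroup ↥K) ≃* QuaternionGroup (2 ^ m)))) ∧
      ∀ Z₀ : Subgroup G, Z₀ ≤ ((center (S : Subgroup G)).map (S : Subgroup G).subtype) →
        Cfsg.IsWeaklyClosed Z₀ (S : Subgroup G) := by
  have h₁ : (centralizer (baseG D : Set G)).relIndex (normalizer (baseG D : Set G)) = 2 :=
    (base_relIndex D).resolve_right fun h => by
      obtain ⟨g, hg⟩ := isConj_iff.1 (WreathedFusion.isConj_zeta_tau D h)
      rw [mem_center_iff.1 hz g, mul_inv_cancel_right] at hg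
      exact WreathedFusion.e_half_ne D (Subtype.ext hg.symm)
  have h₂ : (qzG D 0 ⊔ centralizer (qzG D 0 : Set G)).relIndex
      (normalizer (qzG D 0 : Set G)) = 6 :=
    (qz_relIndex D 0).resolve_left fun h =>
      WreathedFusion.not_isConj_sigma D (actsLike_qz D h) (D.e_mem_base _ _)
        (by rw [← Subgroup.orderOf_coe]; exact WreathedFusion.orderOf_tau D) hts
  have hB := actsLike_base D h₁
  obtain ⟨K, hK, hKS, hKi, hodd, hKodd⟩ := WreathedFusion.exists_normal_quat D hB
  refine ⟨⟨K, hK, ⟨k + 2, hKi⟩, WreathedFusion.no_index_two_quat D h₂ hKS hodd hKodd,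
    fun P => ⟨k + 1, by omega, ?_⟩⟩, WreathedFusion.weaklyClosed D hB⟩
  obtain ⟨f⟩ := WreathedFusion.sylow_equiv hKS P
  obtain ⟨g⟩ := D.quaternion_quatSub
  exact ⟨f.trans g⟩

/-- The fusion of the two non-central classes happens in the centraliser of the centre. -/
theorem exists_conj_tau_sigma (D : Wreathed.Data k x y z) {i₀ : ZMod (2 ^ (k + 2))}
    (h : (qzG D i₀ ⊔ centralizer (qzG D i₀ : Set G)).relIndex
      (normalizer (qzG D i₀ : Set G)) = 6) :
    ∃ g : G, (∀ c ∈ centG S, g * c * g⁻¹ = c) ∧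
      g * ((e (half k) 0 : (S : Subgroup G)) : G) * g⁻¹ = ((e 0 0 * z : (S : Subgroup G)) : G) := by
  obtain ⟨n, hn, -, hne, -⟩ := (qz_three D i₀).2 h
  have hτ' : n * ((e (half k) 0 : (S : Subgroup G)) : G) * n⁻¹ ∈ qzG D i₀ :=
    (mem_normalizer_iff.1 hn _).1 (rep_mem_qzG D i₀ 0)
  have hord : orderOf (⟨_, qzG_le D i₀ hτ'⟩ : (S : Subgroup G)) = 2 := by
    rw [← Subgroup.orderOf_coe]
    exact (MulEquiv.orderOf_eq (MulAut.conj n) _).trans (WreathedFusion.orderOf_tau D)
  rcases D.invol_cases hord with h' | h' | h' | ⟨i, h'⟩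
  · exfalso
    have h1 := centralizes_center D i₀ (inv_mem hn) (WreathedFusion.half_half_mem_centG D)
    rw [← show n * ((e (half k) 0 : (S : Subgroup G)) : G) * n⁻¹ = _ from
      congrArg Subtype.val h'] at h1
    rw [show n⁻¹ * (n * ((e (half k) 0 : (S : Subgroup G)) : G) * n⁻¹) * n⁻¹⁻¹ =
      ((e (half k) 0 : (S : Subgroup G)) : G) by group] at h1
    exact WreathedFusion.e_half_ne D (Subtype.ext (h1.trans (congrArg Subtype.val h')))
  · refine absurd ⟨1, one_mem _, ?_⟩ (hne 0)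
    show ((e (half k) 0 : (S : Subgroup G)) : G) * 1 = _
    rw [mul_one]
    exact (congrArg Subtype.val h').symm
  · refine absurd ⟨_, WreathedFusion.half_half_mem_centG D, ?_⟩ (hne 0)
    show ((e (half k) 0 : (S : Subgroup G)) : G) *
      ((e (half k) (half k) : (S : Subgroup G)) : G) = _
    rw [← Subgroup.coe_mul, D.mul_ee, half_add_half, zero_add]
    exact (congrArg Subtype.val h').symm
  · obtain ⟨d, hd⟩ := isConj_iff.1 (D.isConj_invol_outer i).symm
    refine ⟨(d : G) * n, fun w hw => ?_, ?_⟩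
    · calc (d : G) * n * w * ((d : G) * n)⁻¹ = (d : G) * (n * w * n⁻¹) * (d : G)⁻¹ := by group
        _ = w := by rw [centralizes_center D i₀ hn hw, ← centG_comm hw d.2, mul_inv_cancel_right]
    · calc (d : G) * n * ((e (half k) 0 : (S : Subgroup G)) : G) * ((d : G) * n)⁻¹
          = (d : G) * (n * ((e (half k) 0 : (S : Subgroup G)) : G) * n⁻¹) * (d : G)⁻¹ := by group
        _ = (d : G) * ((e i (-i) * z : (S : Subgroup G)) : G) * (d : G)⁻¹ := by
            rw [show n * ((e (half k) 0 : (S : Subgroup G)) : G) * n⁻¹ = _ from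
              congrArg Subtype.val h']
        _ = _ := congrArg Subtype.val hd

end Wreathed

/-! ### Both cases -/

theorem one_class (S : Sylow 2 G)
    (hS : Cfsg.IsQuasiDihedral (S : Subgroup G) ∨ Cfsg.IsWreathed (S : Subgroup G))
    (hG : ∀ H : Subgroup G, H.index ≠ 2) {t t' : G} (ht : orderOf t = 2) (ht' : orderOf t' = 2) :
    IsConj t t' := by
  rcases hS with hS | hS
  · obtain ⟨k, x, y, D⟩ := QuasiDihedral.exists_QD hS
    exact (qd_one_class D hG ht).symm.trans (qd_one_class D hG ht')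
  · obtain ⟨k, x, y, z, D⟩ := Wreathed.exists_data hS
    exact (wreathed_one_class D hG ht).symm.trans (wreathed_one_class D hG ht')

/-- The conjugate of the Sylow subgroup inside a subgroup. -/
theorem exists_sylow_in (S : Sylow 2 G) {g : G} {C : Subgroup G}
    (h : ∀ s ∈ S, g * s * g⁻¹ ∈ C) :
    ∃ (R : Sylow 2 C) (f : (S : Subgroup G) ≃* (R : Subgroup C)),
      ∀ s, ((f s : C) : G) = g * (s : G) * g⁻¹ := by
  have : Fact (Nat.Prime 2) := ⟨Nat.prime_two⟩
  have hle : ((g • S : Sylow 2 G) : Subgroup G) ≤ C := by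
    rintro _ ⟨s, hs, rfl⟩
    exact h s hs
  let φ : (S : Subgroup G) →* C :=
    ((MulAut.conj g).toMonoidHom.comp (S : Subgroup G).subtype).codRestrict C fun s => h s s.2
  have hφ : Function.Injective φ := fun a b hab =>
    Subtype.ext ((MulAut.conj g).injective (congrArg Subtype.val hab))
  have hrange : φ.range = (((g • S : Sylow 2 G) : Subgroup G)).subgroupOf C := by
    ext v
    constructor
    · rintro ⟨s, rfl⟩
      exact ⟨s, s.2, rfl⟩
    · rintro ⟨s, hs, hsv⟩
      exact ⟨⟨s, hs⟩, Subtype.ext hsv⟩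
  refine ⟨(g • S : Sylow 2 G).subtype hle,
    (MonoidHom.ofInjective hφ).trans (MulEquiv.subgroupCongr hrange), fun s => rfl⟩

/-- The structure of the centraliser of an involution. -/
theorem centralizer_structure (S : Sylow 2 G)
    (hS : Cfsg.IsQuasiDihedral (S : Subgroup G) ∨ Cfsg.IsWreathed (S : Subgroup G))
    (hG : ∀ H : Subgroup G, H.index ≠ 2) {t : G} (ht : orderOf t = 2) :
    ∃ R : Sylow 2 ↥(centralizer ({t} : Set G)), Nat.card R = Nat.card S ∧
      (∃ K : Subgroup ↥(centralizer ({t} : Set G)), K.Normal ∧ (∃ a : ℕ, K.index = 2 ^ a) ∧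
        (∀ H : Subgroup ↥K, H.index ≠ 2) ∧
        (∀ P : Sylow 2 ↥K, ∃ m : ℕ, 1 ≤ m ∧
          Nonempty ((P : Subgroup ↥K) ≃* QuaternionGroup (2 ^ m)))) ∧
      ∀ Z₀ : Subgroup ↥(centralizer ({t} : Set G)),
        Z₀ ≤ ((center (R : Subgroup ↥(centralizer ({t} : Set G)))).map
          (R : Subgroup ↥(centralizer ({t} : Set G))).subtype) →
        Cfsg.IsWeaklyClosed Z₀ (R : Subgroup ↥(centralizer ({t} : Set G))) := by
  have hmem : ∀ {g w : G}, g * w * g⁻¹ = t → ∀ s, Commute s w →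
      g * s * g⁻¹ ∈ centralizer ({t} : Set G) := by
    intro g w hg s hs
    rw [mem_centralizer_singleton_iff, ← hg, conj_mul, conj_mul, hs.eq]
  have hcent : ∀ v : centralizer ({t} : Set G), (v : G) = t → v ∈ center _ := fun v hv =>
    mem_center_iff.2 fun w => Subtype.ext (by
      show (w : G) * v = v * w
      rw [hv]
      exact mem_centralizer_singleton_iff.1 w.2)
  rcases hS with hS | hS
  · obtain ⟨k, x, y, D⟩ := QuasiDihedral.exists_QD hS
    obtain ⟨g, hg⟩ := isConj_iff.1 (qd_one_class D hG ht)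
    obtain ⟨R, f, hf⟩ := exists_sylow_in S (g := g) fun s hs => hmem hg s (by
      have := QDFusion.half_central D hs
      rw [mul_inv_eq_iff_eq_mul] at this
      exact this)
    refine ⟨R, (Nat.card_congr f.toEquiv).symm, qd_central (qd_map f D) ?_ ?_⟩
    · rw [← map_powZ]
      exact hcent _ ((hf _).trans hg)
    · obtain ⟨T, hT, hTS⟩ := exists_four D
      obtain ⟨Q, hQS, ⟨e⟩⟩ := exists_quat D
      obtain ⟨n, hn⟩ := isConj_iff.1
        (QDFusion.isConj_quarter_outer D e hQS (qd_six D hG hT hTS e hQS).2)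
      have hq : ((powZ (2 ^ (k + 3)) x (QuasiDihedral.half k) : (S : Subgroup G)) : G) =
          ((powZ (2 ^ (k + 3)) x (QuasiDihedral.quarter k) : (S : Subgroup G)) : G) * ((powZ (2 ^ (k + 3)) x (QuasiDihedral.quarter k) : (S : Subgroup G)) : G) := by
        rw [← Subgroup.coe_mul, D.mul_cc, QuasiDihedral.quarter_add_quarter]
      have hcomm : Commute n ((powZ (2 ^ (k + 3)) x (QuasiDihedral.half k) : (S : Subgroup G)) : G) := by
        refine mul_inv_eq_iff_eq_mul.1 ?_
        conv_lhs => rw [hq, ← conj_mul, hn]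
        rw [← Subgroup.coe_mul, QuasiDihedral.sq_outer D,
          QuasiDihedral.half_mul_odd (map_one _)]
      refine isConj_iff.2 ⟨⟨g * n * g⁻¹, hmem hg n hcomm⟩, Subtype.ext ?_⟩
      rw [← map_powZ, ← map_powZ, ← map_mul]
      push_cast
      rw [hf, hf, ← hn]
      group
  · obtain ⟨k, x, y, z, D⟩ := Wreathed.exists_data hS
    obtain ⟨g, hg⟩ := isConj_iff.1 (wreathed_one_class D hG ht)
    obtain ⟨R, f, hf⟩ := exists_sylow_in S (g := g) fun s hs => hmem hg s
      (WreathedLocal.centG_comm (WreathedFusion.half_half_mem_centG D) hs).symm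
    have hel : ∀ a b, Wreathed.el k (f x) (f y) a b = f (Wreathed.el k x y a b) := fun a b => by
      rw [Wreathed.el, Wreathed.el, map_mul, map_powZ, map_powZ]
    refine ⟨R, (Nat.card_congr f.toEquiv).symm, wreathed_central (wreathed_map f D) ?_ ?_⟩
    · rw [hel]
      exact hcent _ ((hf _).trans hg)
    · obtain ⟨n, hnc, hn⟩ := exists_conj_tau_sigma D (wreathed_six D hG 0).2
      refine isConj_iff.2 ⟨⟨g * n * g⁻¹, hmem hg n (mul_inv_eq_iff_eq_mul.1
        (hnc _ (WreathedFusion.half_half_mem_centG D)))⟩, Subtype.ext ?_⟩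
      rw [hel, hel, ← map_mul]
      push_cast
      rw [hf, hf, ← hn]
      group

end Cfsg.Agent.Lib.TwoGroups.NoIndexTwo
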