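import Mathlib
import Cfsg.Prelude.Def_CaseTheorems
import Cfsg.Agent.Lib.TwoGroups.NoIndexTwo
import Cfsg.Agent.Lib.Cores.Basic
import Cfsg.Agent.Lib.Cores.MinNormal
import Cfsg.Agent.Lib.Cores.Pi
import Cfsg.Agent.Lib.Involutions.IndexTwo

/-!
Core-free groups with quasi-dihedral or wreathed Sylow 2-subgroups and no subgroup of index two
have a simple normal subgroup of odd index.
-/

set_option autoImplicit false
set_option linter.unusedSectionVars false

namespace Cfsg.Agent.Lib.TwoGroups.SimpleSection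

open Subgroup

/-- Two involutions that do not commute, and a cyclic complement to the involutions. -/
theorem inner_facts {T : Type*} [Group T] (hT : Cfsg.IsQuasiDihedral T ∨ Cfsg.IsWreathed T) :
    (∃ a b : T, orderOf a = 2 ∧ orderOf b = 2 ∧ ¬ Commute a b) ∧
      ∃ w : T, closure {g : T | orderOf g = 2} ⊔ zpowers w = ⊤ := by
  rcases hT with hT | hT
  · obtain ⟨k, x, y, D⟩ := QuasiDihedral.exists_QD hT
    refine ⟨⟨_, _, QuasiDihedral.orderOf_outer_even D (map_zero _),
      QuasiDihedral.orderOf_outer_even D (QuasiDihedral.par_two_mul k 1), fun h => ?_⟩, x, ?_⟩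
    · have h1 := h.eq
      rw [D.mul_yy, D.mul_yy] at h1
      have h2 := D.inj h1
      have h4 : ((4 : ℕ) : ZMod (2 ^ (k + 3))) = 0 := by
        push_cast
        linear_combination QuasiDihedral.two_mul_half k - h2
      rw [ZMod.natCast_eq_zero_iff] at h4
      have h5 := Nat.le_of_dvd (by norm_num) h4
      have : 8 ≤ 2 ^ (k + 3) := by
        calc 8 = 2 ^ 3 := rfl
          _ ≤ 2 ^ (k + 3) := Nat.pow_le_pow_right two_pos (by omega)
      omega
    · rw [QuasiDihedral.closure_involutions D, eq_top_iff]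
      intro g _
      rcases D.cases g with ⟨i, rfl⟩ | ⟨i, rfl⟩
      · exact mem_sup_right (Recognition.powZ_mem_zpowers _ x i)
      · refine mul_mem (mem_sup_right (Recognition.powZ_mem_zpowers _ x i)) (mem_sup_left ?_)
        have h := (QuasiDihedral.mem_maxSub_cy D (e := 0) (i := 0)).2 (map_zero _)
        rwa [Recognition.powZ_zero, one_mul] at h
  · obtain ⟨k, x, y, z, D⟩ := Wreathed.exists_data hT
    refine ⟨⟨_, _, D.orderOf_ez_two 0,
      D.orderOf_e_two (Wreathed.half_add_half k) (add_zero 0)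
        (Or.inl (Wreathed.half_ne_zero k)), fun h => ?_⟩, x, D.sup_zpowers_eq_top⟩
    exact Wreathed.half_ne_zero k (D.commute_e_ez.1 h.symm)

variable {G : Type*} [Group G] [Finite G]

theorem mem_of_one_class {N : Subgroup G} [N.Normal] {t u : G} (ht : t ∈ N) (h : IsConj t u) :
    u ∈ N := by
  obtain ⟨g, rfl⟩ := isConj_iff.1 h
  exact Subgroup.Normal.conj_mem inferInstance t ht g

theorem exists_invol {N : Subgroup G} (hN : ¬ Odd (Nat.card N)) :
    ∃ t ∈ N, orderOf t = 2 := by
  have : Fact (Nat.Prime 2) := ⟨Nat.prime_two⟩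
  obtain ⟨t, ht⟩ := exists_prime_orderOf_dvd_card' (G := N) 2
    (even_iff_two_dvd.1 (Nat.not_odd_iff_even.1 hN))
  exact ⟨t, t.2, by rw [Subgroup.orderOf_coe, ht]⟩

/-- A core-free group with quasi-dihedral or wreathed Sylow 2-subgroup and no subgroup of index two
has a simple normal subgroup of odd index. -/
theorem exists_simple (S : Sylow 2 G)
    (hS : Cfsg.IsQuasiDihedral (S : Subgroup G) ∨ Cfsg.IsWreathed (S : Subgroup G))
    (hG : ∀ H : Subgroup G, H.index ≠ 2) (hO : Cfsg.oddCore G = ⊥) :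
    ∃ L : Subgroup G, L.Normal ∧ Odd L.index ∧ IsSimpleGroup L ∧ ¬ IsMulCommutative L := by
  obtain ⟨⟨a, b, ha, hb, hab⟩, w, hw⟩ := inner_facts hS
  have hne : Nontrivial G := ⟨(a : G), 1, fun h => by
    have : a = 1 := Subtype.ext h
    rw [this, orderOf_one] at ha; omega⟩
  obtain ⟨N, hN, hNne, hmin⟩ := Cores.MinNormal.exists_minimal (G := G)
  have := hN
  have heven : ∀ M : Subgroup G, M.Normal → M ≠ ⊥ → ¬ Odd (Nat.card M) := fun M hM hMne ho =>
    hMne (le_bot_iff.1 (hO ▸ Cores.le_oddCore (N := M) ho))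
  -- all involutions lie in `N`
  have hall : ∀ u : G, orderOf u = 2 → u ∈ N := by
    intro u hu
    obtain ⟨t, ht, ht2⟩ := exists_invol (heven N hN hNne)
    exact mem_of_one_class ht (NoIndexTwo.one_class S hS hG ht2 hu)
  have hab' : ∀ A : Subgroup G, IsMulCommutative A → ¬ N ≤ A := by
    intro A hA hle
    refine hab (Subtype.ext ?_)
    show (a : G) * (b : G) = (b : G) * (a : G)
    exact congrArg (fun w : A => (w : G)) (hA.is_comm.comm
      (⟨(a : G), hle (hall _ (by rw [Subgroup.orderOf_coe, ha]))⟩ : A)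
      ⟨(b : G), hle (hall _ (by rw [Subgroup.orderOf_coe, hb]))⟩)
  -- `N` is simple
  have hsimple : ∀ M : Subgroup N, M.Normal → M = ⊥ ∨ M = ⊤ := by
    intro M hM
    by_cases hMbot : M = ⊥
    · exact Or.inl hMbot
    refine Or.inr ?_
    obtain ⟨L, hL, hLne, hLM, hLmin⟩ :
        ∃ L : Subgroup N, L.Normal ∧ L ≠ ⊥ ∧ L ≤ M ∧
          ∀ L' : Subgroup N, L'.Normal → L' ≤ L → L' = ⊥ ∨ L' = L := by
      obtain ⟨L, ⟨hL1, hL2, hL3⟩, hL4⟩ := WellFounded.has_min
        (wellFounded_lt (α := Subgroup N)) {L | L.Normal ∧ L ≠ ⊥ ∧ L ≤ M} ⟨M, hM, hMbot, le_rfl⟩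
      refine ⟨L, hL1, hL2, hL3, fun L' h1 h2 => ?_⟩
      by_cases h : L' = ⊥
      · exact Or.inl h
      · exact Or.inr (h2.eq_or_lt.resolve_right (hL4 L' ⟨h1, h, h2.trans hL3⟩))
    suffices L = ⊤ from top_le_iff.1 (this ▸ hLM)
    by_contra hLtop
    set L₀ := L.map N.subtype with hL₀
    have hL₀N : L₀ ≤ N := map_subtype_le _
    have hL₀bot : L₀ ≠ ⊥ := fun h => hLne ((map_eq_bot_iff_of_injective _ N.subtype_injective).1 h)
    have hL₀norm : ∀ n ∈ N, ∀ v ∈ L₀, n * v * n⁻¹ ∈ L₀ := by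
      rintro n hn _ ⟨v, hv, rfl⟩
      exact ⟨⟨n, hn⟩ * v * (⟨n, hn⟩ : N)⁻¹, hL.conj_mem v hv _, rfl⟩
    -- a conjugate of `L₀` meeting it trivially
    have hdisj : ∀ g h : G, L₀.map (MulAut.conj g).toMonoidHom ≠ L₀.map (MulAut.conj h).toMonoidHom →
        L₀.map (MulAut.conj g).toMonoidHom ⊓ L₀.map (MulAut.conj h).toMonoidHom = ⊥ := by
      intro g h hgh
      by_contra hne
      apply hgh
      have key : ∀ g h : G,
          L₀.map (MulAut.conj g).toMonoidHom ⊓ L₀.map (MulAut.conj h).toMonoidHom ≠ ⊥ →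
          L₀.map (MulAut.conj g).toMonoidHom ≤ L₀.map (MulAut.conj h).toMonoidHom := by
        intro g h hne
        let L' : Subgroup N :=
          (L₀ ⊓ L₀.map (MulAut.conj (g⁻¹ * h)).toMonoidHom).subgroupOf N
        have hL'le : L' ≤ L := fun v hv => by
          obtain ⟨v', hv', hvv⟩ := hv.1
          exact (Subtype.ext hvv : v' = v) ▸ hv'
        have hL'n : L'.Normal := by
          refine ⟨fun v hv m => ⟨hL₀norm _ m.2 _ hv.1, ?_⟩⟩
          obtain ⟨u, hu, huv⟩ := hv.2
          refine ⟨(g⁻¹ * h)⁻¹ * m * (g⁻¹ * h) * u * ((g⁻¹ * h)⁻¹ * m * (g⁻¹ * h))⁻¹,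
            hL₀norm _ ?_ u hu, ?_⟩
          · simpa using hN.conj_mem _ m.2 (g⁻¹ * h)⁻¹
          · show g⁻¹ * h * _ * (g⁻¹ * h)⁻¹ = (m : G) * (v : G) * (m : G)⁻¹
            rw [← (show g⁻¹ * h * u * (g⁻¹ * h)⁻¹ = (v : G) from huv)]
            group
        rcases hLmin L' hL'n hL'le with h' | h'
        · exfalso
          apply hne
          rw [eq_bot_iff]
          rintro v ⟨⟨p, hp, rfl⟩, ⟨q, hq, hqv⟩⟩
          have hp' : (⟨p, hL₀N hp⟩ : N) ∈ L' := ⟨hp, q, hq, by
            show g⁻¹ * h * q * (g⁻¹ * h)⁻¹ = p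
            calc g⁻¹ * h * q * (g⁻¹ * h)⁻¹ = g⁻¹ * (h * q * h⁻¹) * g := by group
              _ = g⁻¹ * (g * p * g⁻¹) * g := by
                  rw [show h * q * h⁻¹ = g * p * g⁻¹ from hqv]
              _ = p := by group⟩
          rw [h', mem_bot] at hp'
          show g * p * g⁻¹ ∈ (⊥ : Subgroup G)
          rw [show p = 1 from congrArg Subtype.val hp', mul_one, mul_inv_cancel]
          exact one_mem _
        · rintro _ ⟨p, hp, rfl⟩
          obtain ⟨p', hp', hpp⟩ := hp
          have hm : p' ∈ L' := h'.symm ▸ hp'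
          obtain ⟨q, hq, hqp⟩ := hm.2
          refine ⟨q, hq, ?_⟩
          show h * q * h⁻¹ = g * p * g⁻¹
          rw [← hpp, ← (show g⁻¹ * h * q * (g⁻¹ * h)⁻¹ = (N.subtype p') from hqp)]
          group
      exact le_antisymm (key g h hne) (key h g (by rwa [inf_comm]))
    -- some conjugate is different
    obtain ⟨g, hg⟩ : ∃ g : G, L₀.map (MulAut.conj g).toMonoidHom ≠ L₀ := by
      by_contra hno
      simp only [not_exists, not_not] at hno
      have : L₀.Normal := ⟨fun v hv g => (hno g).le ⟨v, hv, rfl⟩⟩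
      rcases hmin L₀ this hL₀N with h | h
      · exact hL₀bot h
      · exact hLtop (eq_top_iff.2 fun v _ => by
          obtain ⟨v', hv', hvv⟩ : (v : G) ∈ L₀ := h.symm ▸ v.2
          exact (Subtype.ext hvv : v' = v) ▸ hv')
    have hL₀odd : ¬ Odd (Nat.card L₀) := fun ho => hL₀bot (by
      have hc : L ≤ Cfsg.oddCore N := Cores.le_oddCore (by
        rwa [← card_map_of_injective N.subtype_injective])
      have := Cores.normal_map_subtype N (Cfsg.oddCore N)
      rw [← le_bot_iff, ← hO]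
      exact (map_mono hc).trans (Cores.le_oddCore (by
        rw [card_map_of_injective N.subtype_injective]; exact Cores.oddCore_odd)))
    obtain ⟨t, ht, ht2⟩ := exists_invol hL₀odd
    have hcomm : ∀ g h : G,
        L₀.map (MulAut.conj g).toMonoidHom ≠ L₀.map (MulAut.conj h).toMonoidHom →
        ∀ p ∈ L₀.map (MulAut.conj g).toMonoidHom, ∀ q ∈ L₀.map (MulAut.conj h).toMonoidHom,
          p * q = q * p := by
      intro g h hgh p hp q hq
      have hin : ∀ {g p}, p ∈ L₀.map (MulAut.conj g).toMonoidHom → p ∈ N := fun {g p} hp => by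
        obtain ⟨p', hp', rfl⟩ := hp
        exact hN.conj_mem _ (hL₀N hp') g
      have hnorm : ∀ g : G, ∀ n ∈ N, ∀ v ∈ L₀.map (MulAut.conj g).toMonoidHom,
          n * v * n⁻¹ ∈ L₀.map (MulAut.conj g).toMonoidHom := by
        rintro g n hn _ ⟨v, hv, rfl⟩
        refine ⟨g⁻¹ * n * g * v * (g⁻¹ * n * g)⁻¹,
          hL₀norm _ (by simpa using hN.conj_mem _ hn g⁻¹) v hv, ?_⟩
        show g * (g⁻¹ * n * g * v * (g⁻¹ * n * g)⁻¹) * g⁻¹ = n * (g * v * g⁻¹) * n⁻¹
        group
      have hc : p * q * p⁻¹ * q⁻¹ ∈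
          L₀.map (MulAut.conj g).toMonoidHom ⊓ L₀.map (MulAut.conj h).toMonoidHom :=
        mem_inf.2 ⟨by
          rw [show p * q * p⁻¹ * q⁻¹ = p * (q * p⁻¹ * q⁻¹) by group]
          exact mul_mem hp (hnorm g q (hin hq) _ (inv_mem hp)),
          mul_mem (hnorm h p (hin hp) q hq) (inv_mem hq)⟩
      rw [hdisj g h hgh, mem_bot, mul_inv_eq_one, mul_inv_eq_iff_eq_mul] at hc
      exact hc
    have hone : L₀.map (MulAut.conj 1).toMonoidHom = L₀ := by
      ext v; constructor
      · rintro ⟨u, hu, rfl⟩; simpa using hu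
      · exact fun hv => ⟨v, hv, by simp⟩
    have hg1 : L₀.map (MulAut.conj g).toMonoidHom ≠ L₀.map (MulAut.conj 1).toMonoidHom := by
      rw [hone]; exact hg
    -- the product of two commuting involutions in different factors
    set t₂ := g * t * g⁻¹ with ht₂
    have ht₂L : t₂ ∈ L₀.map (MulAut.conj g).toMonoidHom := ⟨t, ht, rfl⟩
    have ht1 : t ∈ L₀.map (MulAut.conj 1).toMonoidHom := by rw [hone]; exact ht
    have hne12 : t₂ ≠ t := fun h => by
      have h1 : t ∈ L₀.map (MulAut.conj g).toMonoidHom ⊓ L₀.map (MulAut.conj 1).toMonoidHom :=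
        mem_inf.2 ⟨h ▸ ht₂L, ht1⟩
      rw [hdisj g 1 hg1, mem_bot] at h1
      rw [h1, orderOf_one] at ht2
      omega
    have hu : orderOf (t₂ * t) = 2 := by
      have : Fact (Nat.Prime 2) := ⟨Nat.prime_two⟩
      have htt : t * t = 1 := by rw [← pow_two, ← ht2, pow_orderOf_eq_one]
      have ht22 : t₂ * t₂ = 1 := by rw [ht₂, conj_mul, htt, mul_one, mul_inv_cancel]
      refine orderOf_eq_prime ?_ fun h => hne12 ?_
      · have hc : Commute t t₂ := (hcomm g 1 hg1 t₂ ht₂L t ht1).symm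
        rw [pow_two, hc.mul_mul_mul_comm, ht22, htt, one_mul]
      · rw [eq_inv_of_mul_eq_one_left h, inv_eq_of_mul_eq_one_right htt]
    obtain ⟨h, hh⟩ := isConj_iff.1 (NoIndexTwo.one_class S hS hG ht2 hu)
    have hu3 : t₂ * t ∈ L₀.map (MulAut.conj h).toMonoidHom := ⟨t, ht, hh⟩
    have h31 : L₀.map (MulAut.conj h).toMonoidHom ≠ L₀.map (MulAut.conj 1).toMonoidHom := by
      intro he
      rw [he] at hu3
      have h2 := mul_mem hu3 (inv_mem ht1)
      rw [mul_inv_cancel_right] at h2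
      have h3 : t₂ ∈ L₀.map (MulAut.conj g).toMonoidHom ⊓ L₀.map (MulAut.conj 1).toMonoidHom :=
        mem_inf.2 ⟨ht₂L, h2⟩
      rw [hdisj g 1 hg1, mem_bot] at h3
      rw [h3, one_mul] at hh
      have : orderOf t₂ = 2 := (MulEquiv.orderOf_eq (MulAut.conj g) t).trans ht2
      rw [h3, orderOf_one] at this
      omega
    have h3g : L₀.map (MulAut.conj h).toMonoidHom ≠ L₀.map (MulAut.conj g).toMonoidHom := by
      intro he
      rw [he] at hu3
      have h2 := mul_mem (inv_mem ht₂L) hu3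
      rw [inv_mul_cancel_left] at h2
      have h3 : t ∈ L₀.map (MulAut.conj g).toMonoidHom ⊓ L₀.map (MulAut.conj 1).toMonoidHom :=
        mem_inf.2 ⟨h2, ht1⟩
      rw [hdisj g 1 hg1, mem_bot] at h3
      rw [h3, orderOf_one] at ht2
      omega
    -- `t₂ * t` centralises its own factor
    have hcen : ∀ v ∈ L₀, t * v = v * t := by
      intro v hv
      have hv3 : h * v * h⁻¹ ∈ L₀.map (MulAut.conj h).toMonoidHom := ⟨v, hv, rfl⟩
      have c1 : Commute (h * v * h⁻¹) t₂ := hcomm h g h3g _ hv3 _ ht₂L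
      have c2 : Commute (h * v * h⁻¹) t := hcomm h 1 h31 _ hv3 _ ht1
      have c3 := (c1.mul_right c2).eq
      rw [← hh, conj_mul, conj_mul] at c3
      exact (mul_left_cancel (mul_right_cancel c3)).symm
    -- so `L` is abelian, and then `N` is
    have hLab : IsMulCommutative L := by
      let Zl : Subgroup N := L ⊓ centralizer (L : Set N)
      have hZn : Zl.Normal := inferInstance
      rcases hLmin Zl hZn inf_le_left with h' | h'
      · exfalso
        obtain ⟨t', ht', htt⟩ := ht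
        have hmem : t' ∈ Zl := mem_inf.2 ⟨ht', fun v hv =>
          Subtype.ext (by
            have := hcen (v : G) ⟨v, hv, rfl⟩
            rw [← (show (t' : G) = t from htt)] at this
            exact this.symm)⟩
        rw [h', mem_bot] at hmem
        rw [← htt, hmem, map_one, orderOf_one] at ht2
        omega
      · exact ⟨⟨fun u v => Subtype.ext (((h'.ge v.2).2 u u.2))⟩⟩
    set A := ⨆ g : G, L₀.map (MulAut.conj g).toMonoidHom with hA
    have hAN : N ≤ A := by
      have hAnorm : A.Normal := by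
        refine ⟨fun v hv m => ?_⟩
        have hle : A.map (MulAut.conj m).toMonoidHom ≤ A := by
          rw [hA, Subgroup.map_iSup, iSup_le_iff]
          intro g
          refine le_trans (le_of_eq ?_) (le_iSup _ (m * g))
          rw [Subgroup.map_map]
          congr 1
          ext v
          simp [mul_assoc]
        exact hle ⟨v, hv, rfl⟩
      rcases hmin (A ⊓ N) inferInstance inf_le_right with h' | h'
      · exfalso
        apply hL₀bot
        rw [eq_bot_iff, ← h']
        refine le_inf ?_ hL₀N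
        exact hone ▸ le_iSup (fun g : G => L₀.map (MulAut.conj g).toMonoidHom) 1
      · exact h'.ge.trans inf_le_left
    refine hab' A ?_ hAN
    have hL₀ab : ∀ u ∈ L₀, ∀ v ∈ L₀, u * v = v * u := by
      rintro _ ⟨u, hu, rfl⟩ _ ⟨v, hv, rfl⟩
      exact congrArg (fun w : L => ((w : N) : G)) (hLab.is_comm.comm ⟨u, hu⟩ ⟨v, hv⟩)
    rw [hA, iSup_eq_closure]
    refine Subgroup.isMulCommutative_closure ?_
    rintro u hu v hv
    simp only [Set.mem_iUnion, SetLike.mem_coe] at hu hv
    obtain ⟨g₁, hu⟩ := hu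
    obtain ⟨g₂, hv⟩ := hv
    by_cases he : L₀.map (MulAut.conj g₁).toMonoidHom = L₀.map (MulAut.conj g₂).toMonoidHom
    · rw [← he] at hv
      obtain ⟨u', hu', rfl⟩ := hu
      obtain ⟨v', hv', rfl⟩ := hv
      rw [← map_mul, ← map_mul, hL₀ab u' hu' v' hv']
    · exact hcomm g₁ g₂ he u hu v hv
  have hNnt : Nontrivial N := nontrivial_iff_ne_bot N |>.2 hNne
  refine ⟨N, hN, ?_, ⟨hsimple⟩, fun hc => hab' N hc le_rfl⟩
  -- odd index
  have hmapS : (S : Subgroup G) ≤ N ⊔ zpowers (w : G) := by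
    intro s hs
    have h : (⟨s, hs⟩ : (S : Subgroup G)) ∈
        closure {g : (S : Subgroup G) | orderOf g = 2} ⊔ zpowers w := hw ▸ mem_top _
    have h2 : (closure {g : (S : Subgroup G) | orderOf g = 2} ⊔ zpowers w).map
        (S : Subgroup G).subtype ≤ N ⊔ zpowers (w : G) := by
      rw [Subgroup.map_sup]
      refine sup_le_sup ?_ (le_of_eq (MonoidHom.map_zpowers _ w))
      rw [MonoidHom.map_closure, closure_le]
      rintro _ ⟨v, hv, rfl⟩
      exact hall _ ((Subgroup.orderOf_coe v).trans hv)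
    exact h2 ⟨_, h, rfl⟩
  have : Fact (Nat.Prime 2) := ⟨Nat.prime_two⟩
  rw [← Nat.not_even_iff_odd]
  intro hev
  let P := S.mapSurjective (QuotientGroup.mk'_surjective N)
  have hPc : IsCyclic (P : Subgroup (G ⧸ N)) := by
    have hle : (P : Subgroup (G ⧸ N)) ≤ zpowers (QuotientGroup.mk' N (w : G)) := by
      rintro _ ⟨s, hs, rfl⟩
      obtain ⟨n, hn, v, hv, rfl⟩ := mem_sup_of_normal_left.1 (hmapS hs)
      rw [map_mul, show QuotientGroup.mk' N n = 1 from (QuotientGroup.eq_one_iff n).2 hn, one_mul]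
      obtain ⟨i, rfl⟩ := mem_zpowers_iff.1 hv
      exact ⟨i, (map_zpow _ _ _).symm⟩
    exact Subgroup.isCyclic_of_le hle
  obtain ⟨H, hH⟩ := Involutions.IndexTwo.exists_index_two_of_cyclic_sylow
    (G := G ⧸ N) hev P hPc
  exact hG (H.comap (QuotientGroup.mk' N)) (by
    rw [Subgroup.index_comap_of_surjective _ (QuotientGroup.mk'_surjective N), hH])

/-- Passage to the quotient by the odd core. -/
theorem exists_simple_quotient (S : Sylow 2 G)
    (hS : Cfsg.IsQuasiDihedral (S : Subgroup G) ∨ Cfsg.IsWreathed (S : Subgroup G))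
    (hG : ∀ H : Subgroup G, H.index ≠ 2) :
    ∃ L : Subgroup (G ⧸ Cfsg.oddCore G),
      L.Normal ∧ Odd L.index ∧ IsSimpleGroup L ∧ ¬ IsMulCommutative L := by
  have : Fact (Nat.Prime 2) := ⟨Nat.prime_two⟩
  set q := QuotientGroup.mk' (Cfsg.oddCore G) with hq
  let P := S.mapSurjective (QuotientGroup.mk'_surjective (Cfsg.oddCore G))
  have hinj : Function.Injective (q.comp (S : Subgroup G).subtype) := by
    rw [injective_iff_map_eq_one]
    intro v hv
    have hv' : (v : G) ∈ Cfsg.oddCore G := (QuotientGroup.eq_one_iff _).1 hv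
    obtain ⟨a, ha⟩ := S.2 v
    have h1 : (v : G) ^ 2 ^ a = 1 := congrArg Subtype.val ha
    have h2 := congrArg Subtype.val (pow_card_eq_one' (x := (⟨v, hv'⟩ : Cfsg.oddCore G)))
    have h3 := pow_gcd_eq_one.2 ⟨h1, h2⟩
    rw [show Nat.gcd (2 ^ a) (Nat.card (Cfsg.oddCore G)) = 1 from
      (Nat.coprime_two_left.2 Cores.oddCore_odd).pow_left a, pow_one] at h3
    exact Subtype.ext h3
  have e : (S : Subgroup G) ≃* (P : Subgroup (G ⧸ Cfsg.oddCore G)) :=
    (MonoidHom.ofInjective hinj).trans (MulEquiv.subgroupCongr (by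
      rw [MonoidHom.range_comp, Subgroup.range_subtype]; rfl))
  exact exists_simple P (hS.imp (NoIndexTwo.isQuasiDihedral_map e)
      (NoIndexTwo.isWreathed_map e))
    (fun H hH => hG (H.comap q) (by
      rw [hq, Subgroup.index_comap_of_surjective _ (QuotientGroup.mk'_surjective _), hH]))
    (Cores.pPrimeCore_quotient_pPrimeCore 2)

end Cfsg.Agent.Lib.TwoGroups.SimpleSection
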